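import Cfsg.Agent.CH.Kc4

/-! Derived lengths of stabilisers: basic tools. -/

set_option autoImplicit false

namespace Cfsg.Agent.CH.Kc

open Subgroup Reg
open scoped IsMulCommutative commutatorElement

/-- The derived series of a subgroup inside the ambient group. -/
def ds {G : Type*} [Group G] (S : Subgroup G) : ℕ → Subgroup G
  | 0 => S
  | n + 1 => ⁅ds S n, ds S n⁆

section
variable {G : Type*} [Group G]

theorem ds_mono {S T : Subgroup G} (h : S ≤ T) (n : ℕ) : ds S n ≤ ds T n := by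
  induction n with
  | zero => exact h
  | succ n ih => exact commutator_mono ih ih

theorem ds_add (S : Subgroup G) (a b : ℕ) : ds S (a + b) = ds (ds S a) b := by
  induction b with
  | zero => rfl
  | succ b ih => rw [← add_assoc, ds, ds, ih]

theorem ds_le (S : Subgroup G) (n : ℕ) : ds S n ≤ S := by
  induction n with
  | zero => exact le_rfl
  | succ n ih => exact (commutator_le.2 fun a ha b hb => by
      rw [commutatorElement_def]
      exact mul_mem (mul_mem (mul_mem ha hb) (inv_mem ha)) (inv_mem hb)).trans ih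

theorem ds_anti (S : Subgroup G) {a b : ℕ} (h : a ≤ b) : ds S b ≤ ds S a := by
  obtain ⟨c, rfl⟩ := Nat.exists_eq_add_of_le h
  rw [ds_add]
  exact ds_le _ _

theorem ds_map {G' : Type*} [Group G'] (f : G →* G') (S : Subgroup G) (n : ℕ) :
    (ds S n).map f = ds (S.map f) n := by
  induction n with
  | zero => rfl
  | succ n ih => rw [ds, ds, map_commutator, ih]

theorem ds_mem {G' : Type*} [Group G'] (f : G →* G') {S : Subgroup G} {T : Subgroup G'}
    (h : ∀ x ∈ S, f x ∈ T) {n : ℕ} {g : G} (hg : g ∈ ds S n) : f g ∈ ds T n :=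
  ds_mono (map_le_iff_le_comap.2 h) n (ds_map f S n ▸ mem_map_of_mem f hg)

theorem ds_sub {S T : Subgroup G} (h : S ≤ T) {n : ℕ} {g : G} (hg : g ∈ ds S n) :
    ∃ hT : g ∈ T, (⟨g, hT⟩ : T) ∈ ds (S.subgroupOf T) n := by
  rw [← map_subgroupOf_eq_of_le h, ← ds_map] at hg
  obtain ⟨y, hy, rfl⟩ := hg
  exact ⟨y.2, hy⟩

theorem ds_one {S : Subgroup G} (h : ∀ x ∈ S, ∀ y ∈ S, x * y = y * x) : ds S 1 ≤ ⊥ :=
  commutator_le.2 fun a ha b hb => commutatorElement_eq_one_iff_mul_comm.2 (h a ha b hb)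

theorem ds_step {S T R : Subgroup G} {a b : ℕ} (h : ds S a ≤ T) (h' : ds T b ≤ R) :
    ds S (a + b) ≤ R := by
  rw [ds_add]
  exact (ds_mono h b).trans h'

theorem derived_eq (S : Subgroup G) (n : ℕ) : (derivedSeries S n).map S.subtype = ds S n := by
  induction n with
  | zero => rw [derivedSeries_zero, ← MonoidHom.range_eq_map, range_subtype]; rfl
  | succ n ih => rw [derivedSeries_succ, map_commutator, ih]; rfl

end

/-- The colour-preserving elements. -/
def Pres (G : Type) {Ω κ : Type} [Group G] [MulAction G Ω] (c : Ω → κ) : Subgroup G where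
  carrier := {g | ∀ ω, c (g • ω) = c ω}
  mul_mem' := fun {a b} ha hb ω => by rw [mul_smul, ha, hb]
  one_mem' := fun ω => by rw [one_smul]
  inv_mem' := fun {a} ha ω => by rw [← ha, smul_inv_smul]

section
variable {G V : Type} [Group G] [Finite G] [AddCommGroup V] [DistribMulAction G V] (hI : Irr G V)
  {H : Subgroup G} (e : V →+ V) (he0 : e ≠ 0) (hee : ∀ x, e (e x) = e x)
  (heH : ∀ h ∈ H, ∀ x, e (h • x) = h • e x) (heG : ∀ g, g ∉ H → ∀ x, e (g • e x) = 0)
include hI he0 hee heH heG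

theorem card_block : Nat.card V = Nat.card e.range ^ H.index := by
  classical
  obtain ⟨x0, hx0⟩ : ∃ x, e x ≠ 0 := by
    by_contra h
    push Not at h
    exact he0 (AddMonoidHom.ext h)
  have hW := block_min hI e hee heH heG
  haveI : Fintype (G ⧸ H) := Fintype.ofFinite _
  have hfix : ∀ c ∈ e.range, e c = c := by rintro _ ⟨x, rfl⟩; exact hee x
  have hmem : ∀ y : G, y⁻¹ * (y : G ⧸ H).out ∈ H := fun y =>
    QuotientGroup.eq.1 (QuotientGroup.out_eq' (y : G ⧸ H)).symm
  have hall : ∀ S : AddSubgroup V, Inv G S → e x0 ∈ S → ∀ z, z ∈ S := fun S hS h z => by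
    rcases hI S hS with h1 | h1
    · rw [h1] at h; exact absurd h hx0
    · rw [h1]; trivial
  rw [index, ← Nat.card_fun]
  let ψ : (G ⧸ H → e.range) →+ V :=
    { toFun := fun c => ∑ ω, ω.out • (c ω : V)
      map_zero' := by simp
      map_add' := fun a b => by simp [Finset.sum_add_distrib] }
  refine (Nat.card_eq_of_bijective ψ ⟨(injective_iff_map_eq_zero ψ).2 fun c h0 => ?_,
    fun z => hall ψ.range ?_ ?_ z⟩).symm
  · funext η
    have h1 := congrArg (fun z => e (η.out⁻¹ • z)) h0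
    simp only [ψ, AddMonoidHom.coe_mk, ZeroHom.coe_mk, Finset.smul_sum, map_sum, smul_zero,
      map_zero] at h1
    rw [Finset.sum_eq_single η, inv_smul_smul, hfix _ (c η).2] at h1
    · exact Subtype.ext h1
    · intro ω _ hω
      rw [← mul_smul, ← hfix _ (c ω).2]
      refine heG _ (fun h => hω ?_) _
      rw [← QuotientGroup.out_eq' ω, ← QuotientGroup.out_eq' η]
      exact (QuotientGroup.eq.2 h).symm
    · simp
  · have h1 : ∀ (y : G) (z : e.range), y • (z : V) ∈ ψ.range := fun y z =>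
      ⟨Pi.single (y : G ⧸ H) ⟨_, hW.1 ⟨_, H.inv_mem (hmem y)⟩ z z.2⟩, by
        change ∑ ω, _ = _
        rw [Finset.sum_eq_single (y : G ⧸ H)]
        · rw [Pi.single_eq_same]
          change _ • (y⁻¹ * (y : G ⧸ H).out)⁻¹ • (z : V) = _
          rw [← mul_smul]
          congr 1
          group
        · intro ω _ hω
          rw [Pi.single_eq_of_ne hω]
          simp
        · simp⟩
    rintro g _ ⟨c, rfl⟩
    change g • ∑ ω, _ ∈ _
    rw [Finset.smul_sum]
    exact sum_mem fun ω _ => by rw [← mul_smul]; exact h1 _ _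
  · refine ⟨Pi.single ((1 : G) : G ⧸ H) ⟨_, hW.1 ⟨_, H.inv_mem (hmem 1)⟩ (e x0) ⟨x0, rfl⟩⟩, ?_⟩
    change ∑ ω, _ = _
    rw [Finset.sum_eq_single ((1 : G) : G ⧸ H)]
    · rw [Pi.single_eq_same]
      change _ • ((1 : G)⁻¹ * ((1 : G) : G ⧸ H).out)⁻¹ • e x0 = _
      rw [inv_one, one_mul, smul_inv_smul]
    · intro ω _ hω
      rw [Pi.single_eq_of_ne hω]
      simp
    · simp

theorem col [FaithfulSMul G V] [Fintype (G ⧸ H)] {κ : Type} (y : κ → V) (hy : ∀ k, y k ∈ e.range)
    (hne : ∀ k l, ∀ h ∈ H, h • y k = y l → k = l) :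
    (∀ (c c' : G ⧸ H → κ) (g : G), g • ∑ ω, ω.out • y (c ω) = ∑ ω, ω.out • y (c' ω) →
      ∀ ω, c' (g • ω) = c ω) ∧
    ∀ (cost : κ → ℕ) (m : ℕ) (c : G ⧸ H → κ),
      (∀ k, ∀ g ∈ ds (H ⊓ MulAction.stabilizer G (y k)) (cost k), ∀ z ∈ e.range, g • z = z) →
      (∀ ω, cost (c ω) ≤ m ∧ ds (Pres G c) (m - cost (c ω)) ≤ MulAction.stabilizer G ω) →
      ds (MulAction.stabilizer G (∑ ω : G ⧸ H, ω.out • y (c ω))) m ≤ ⊥ := by
  classical
  obtain ⟨x0, hx0⟩ : ∃ x, e x ≠ 0 := by
    by_contra h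
    push Not at h
    exact he0 (AddMonoidHom.ext h)
  have hW := block_min hI e hee heH heG
  have hfix : ∀ c ∈ e.range, e c = c := by rintro _ ⟨x, rfl⟩; exact hee x
  have key : ∀ (c : G ⧸ H → κ) (x : G),
      e (x⁻¹ • ∑ ω : G ⧸ H, ω.out • y (c ω)) = (x⁻¹ * (x : G ⧸ H).out) • y (c x) := by
    intro c x
    rw [Finset.smul_sum, map_sum, Finset.sum_eq_single (x : G ⧸ H)]
    · rw [← mul_smul, heH _ (QuotientGroup.eq.1 (QuotientGroup.out_eq' (x : G ⧸ H)).symm),
        hfix _ (hy _)]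
    · intro ω _ hω
      rw [← mul_smul, ← hfix _ (hy (c ω))]
      refine heG _ (fun h => hω ?_) _
      rw [← QuotientGroup.out_eq' ω]
      exact (QuotientGroup.eq.2 h).symm
    · simp
  have hmem : ∀ x : G, x⁻¹ * (x : G ⧸ H).out ∈ H := fun x =>
    QuotientGroup.eq.1 (QuotientGroup.out_eq' (x : G ⧸ H)).symm
  have step : ∀ (c c' : G ⧸ H → κ) (g : G),
      g • ∑ ω, ω.out • y (c ω) = ∑ ω, ω.out • y (c' ω) → ∀ x : G,
      ((((g * x : G) : G ⧸ H).out)⁻¹ * g * (x : G ⧸ H).out) • y (c x) = y (c' (g * x : G)) := by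
    intro c c' g h x
    have h1 := key c' (g * x)
    have h2 := key c x
    rw [mul_inv_rev, mul_smul, inv_smul_eq_iff.2 h.symm, h2] at h1
    have h3 := congrArg (fun z => (x⁻¹ * g⁻¹ * ((g * x : G) : G ⧸ H).out)⁻¹ • z) h1
    simp only [← mul_smul, inv_mul_cancel, one_smul] at h3
    rw [← h3]
    congr 1
    group
  have hmem2 : ∀ g x : G, (((g * x : G) : G ⧸ H).out)⁻¹ * g * (x : G ⧸ H).out ∈ H := fun g x => by
    have := H.mul_mem (H.inv_mem (hmem (g * x))) (hmem x)
    convert this using 1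
    group
  have h1 : ∀ (c c' : G ⧸ H → κ) (g : G), g • ∑ ω, ω.out • y (c ω) = ∑ ω, ω.out • y (c' ω) →
      ∀ ω, c' (g • ω) = c ω := fun c c' g h ω => by
    induction ω using QuotientGroup.induction_on with
    | H x => exact (hne _ _ _ (hmem2 g x) (step c c' g h x)).symm
  refine ⟨h1, fun cost m c hc hm g hg => ?_⟩
  have h3 : ∀ x : G, ∀ z ∈ e.range, g • x • z = x • z := fun x z hz => by
    rw [← Nat.sub_add_cancel (hm x).1, ds_add] at hg
    have h5 := hc (c x) _ (ds_mem (MulAut.conj (x : G ⧸ H).out⁻¹).toMonoidHom (fun a ha => by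
      have h6 := ds_le _ _ ha
      have h7 : ((a * x : G) : G ⧸ H) = x := (hm x).2 (ds_mono
        (show MulAction.stabilizer G _ ≤ Pres G c from fun a ha => h1 c c a ha) _ ha)
      have h8 := step c c a h6 x
      have h9 := hmem2 a x
      rw [h7, ← inv_inv (x : G ⧸ H).out, inv_inv (x : G ⧸ H).out⁻¹] at h8 h9
      exact ⟨h9, by simpa using h8⟩) hg) _ (hW.1 ⟨_, H.inv_mem (hmem x)⟩ z hz)
    have h6 := congrArg (fun z => (x : G ⧸ H).out • z) h5
    change _ • ((x : G ⧸ H).out⁻¹ * g * (x : G ⧸ H).out⁻¹⁻¹) • (x⁻¹ * (x : G ⧸ H).out)⁻¹ • z =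
      _ • (x⁻¹ * (x : G ⧸ H).out)⁻¹ • z at h6
    simp only [← mul_smul] at h6 ⊢
    convert h6 using 2 <;> group
  let S : AddSubgroup V :=
    { carrier := {z | ∀ x : G, g • x • z = x • z}
      add_mem' := fun {a b} ha hb x => by rw [smul_add, smul_add, ha x, hb x]
      zero_mem' := fun x => by rw [smul_zero, smul_zero]
      neg_mem' := fun {a} ha x => by rw [smul_neg, smul_neg, ha x] }
  refine FaithfulSMul.eq_of_smul_eq_smul (α := V) fun z => ?_
  rcases hI S (fun y z hz x => by rw [← mul_smul x y]; exact hz _) with h | h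
  · have : e x0 ∈ S := fun x => h3 x _ ⟨x0, rfl⟩
    rw [h] at this
    exact absurd this hx0
  · have : z ∈ S := h ▸ AddSubgroup.mem_top z
    simpa using this 1

end

theorem aut_pow {K : Type} [Field K] [Finite K] (σ : K →+* K) :
    ∃ i : ℕ, ∀ x, x ≠ 0 → σ x = x ^ i := by
  obtain ⟨γ, hγ⟩ := IsCyclic.exists_monoid_generator (α := Kˣ)
  obtain ⟨i, hi⟩ := hγ (Units.map σ.toMonoidHom γ)
  refine ⟨i, fun x hx => ?_⟩
  obtain ⟨k, hk⟩ := hγ (Units.mk0 x hx)
  have h1 : (γ : K) ^ i = σ γ := by simpa using congrArg Units.val hi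
  have h2 : (γ : K) ^ k = x := by simpa using congrArg Units.val hk
  rw [← h2, map_pow, ← h1, ← pow_mul, ← pow_mul, mul_comm]

theorem exists_St3 {G : Type} [Group G] [Finite G] [Group.IsSolvable G] :
    ∃ U F : Subgroup G, F = fittingSubgroup G ⊓ centralizer (U : Set G) ∧
      (∀ B : Subgroup G, B.Normal → B ≤ centralizer (B : Set G) → B ≤ centralizer (U : Set G) →
        B ≤ U) ∧
      (∀ a ∈ centralizer (U : Set G), (∀ x ∈ F, ⁅a, x⁆ ∈ U) → a ∈ F) ∧ St U F := by
  obtain ⟨U, ⟨hU, hUc⟩, hmax⟩ :=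
    (Set.toFinite {U : Subgroup G | U.Normal ∧ U ≤ centralizer (U : Set G)}).exists_maximal
      ⟨⊥, inferInstance, bot_le⟩
  set A := centralizer (U : Set G) with hA
  have hmax' : ∀ B : Subgroup G, B.Normal → B ≤ centralizer (B : Set G) → B ≤ A → B ≤ U := by
    intro B hB h1 h2
    refine le_sup_right.trans (hmax (y := U ⊔ B) ⟨inferInstance, ?_⟩ le_sup_left)
    have h3 : U ⊔ B ≤ centralizer (B : Set G) := sup_le (le_centralizer_iff.1 h2) h1
    exact sup_le (le_centralizer_iff.1 (sup_le hUc h2)) (le_centralizer_iff.1 h3)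
  set F := (fittingSubgroup A).map A.subtype with hF
  have hF' : F = fittingSubgroup G ⊓ A := Solv.map_subtype_fitting A
  haveI hFn : F.Normal := inferInstance
  have hFA : F ≤ A := map_subtype_le _
  haveI : IsMulCommutative U := ⟨⟨fun a b => Subtype.ext (hUc b.2 a a.2)⟩⟩
  have hUF : U ≤ F := hF' ▸ le_inf Solv.le_fitting_of_isMulCommutative hUc
  have hself : centralizer (F : Set G) ≤ U := by
    have h1 : centralizer (F : Set G) ≤ A := centralizer_le hUF
    have h2 : centralizer (F : Set G) ≤ F :=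
      (le_inf h1 le_rfl).trans (Solv.inf_centralizer_map_fitting_le A)
    exact hmax' _ inferInstance (centralizer_le h2) h1
  have hcomm : ⁅F, F⁆ ≤ U := by
    let π := QuotientGroup.mk' U
    haveI : Group.IsNilpotent F := Solv.isNilpotent_of_le_fitting (hF' ▸ inf_le_left)
    haveI : Group.IsNilpotent (F.map π) :=
      Group.nilpotent_of_surjective (π.subgroupMap F) (π.subgroupMap_surjective F)
    haveI : (F.map π).Normal := hFn.map _ (QuotientGroup.mk'_surjective U)
    by_contra hne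
    have h0 : (⁅F, F⁆).map π ≠ ⊥ := by
      rwa [Ne, Subgroup.map_eq_bot_iff, QuotientGroup.ker_mk']
    obtain ⟨M, ⟨hM, hM0, hMle⟩, hmin⟩ := (Set.toFinite {M : Subgroup (G ⧸ U) |
      M.Normal ∧ M ≠ ⊥ ∧ M ≤ (⁅F, F⁆).map π}).exists_minimal
      ⟨_, (inferInstance : (⁅F, F⁆).Normal).map _ (QuotientGroup.mk'_surjective U), h0, le_rfl⟩
    have h1 : F.map π ≤ centralizer (M : Set _) := SolvStr.le_centralizer_minimal_normal
      fun K hK hKM => (em (K = ⊥)).imp id fun h => le_antisymm hKM (hmin ⟨hK, h, hKM.trans hMle⟩ hKM)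
    set Y := M.comap π ⊓ ⁅F, F⁆ with hY
    have hFF : ⁅F, F⁆ ≤ F := commutator_le_left F F
    have h2 : ⁅Y, F⁆ ≤ U := by
      rw [commutator_le]
      intro y hy x hx
      rw [← QuotientGroup.eq_one_iff]
      change π ⁅y, x⁆ = 1
      rw [map_commutatorElement, commutatorElement_eq_one_iff_mul_comm]
      exact h1 ⟨x, hx, rfl⟩ _ hy.1
    have h3 : ⁅⁅Y, F⁆, F⁆ = ⊥ := by
      rw [commutator_eq_bot_iff_le_centralizer]
      exact h2.trans (le_centralizer_iff.1 hFA)
    have h4 : ⁅⁅F, F⁆, Y⁆ = ⊥ :=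
      commutator_commutator_eq_bot_of_rotate (by rwa [commutator_comm F Y]) h3
    rw [commutator_eq_bot_iff_le_centralizer] at h4
    have h5 := hmax' Y inferInstance (inf_le_right.trans h4) (inf_le_right.trans (hFF.trans hFA))
    apply hM0
    rw [eq_bot_iff]
    intro m hm
    obtain ⟨y, hy, rfl⟩ := hMle hm
    exact (QuotientGroup.eq_one_iff y).2 (h5 ⟨hm, hy⟩)
  have hc : ∀ x ∈ F, ∀ y ∈ F, ⁅x, y⁆ ∈ U := fun x hx y hy =>
    hcomm (commutator_mem_commutator hx hy)
  refine ⟨U, F, hF', hmax', fun a ha h => ?_, hU, hFn, hUF, hFA, hself, hc,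
    fun r hr x hx j hj => ?_⟩
  · let π := QuotientGroup.mk' U
    haveI : (F.map π).Normal := hFn.map _ (QuotientGroup.mk'_surjective U)
    set B := A ⊓ (centralizer (F.map π : Set (G ⧸ U))).comap π with hB
    have h1 : ⁅B, F⁆ ≤ U := by
      rw [commutator_le]
      intro y hy x hx
      rw [← QuotientGroup.eq_one_iff]
      change π ⁅y, x⁆ = 1
      rw [map_commutatorElement, commutatorElement_eq_one_iff_mul_comm]
      exact (hy.2 _ ⟨x, hx, rfl⟩).symm
    have h2 : U ≤ centralizer (B : Set G) := le_centralizer_iff.1 inf_le_left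
    have h3 : ⁅⁅B, F⁆, B⁆ = ⊥ := by
      rw [commutator_eq_bot_iff_le_centralizer]
      exact h1.trans h2
    have h4 : ⁅⁅B, B⁆, F⁆ = ⊥ :=
      commutator_commutator_eq_bot_of_rotate h3 (by rwa [commutator_comm F B])
    rw [commutator_eq_bot_iff_le_centralizer] at h4
    haveI : Group.IsNilpotent B := by
      refine ⟨2, eq_top_iff.2 fun x _ => Subgroup.mem_upperCentralSeries_succ_iff.2 fun y => ?_⟩
      rw [Subgroup.upperCentralSeries_one, mem_center_iff]
      intro z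
      exact Subtype.ext (h2 (hself (h4 (commutator_mem_commutator x.2 y.2))) z z.2)
    rw [hF']
    refine ⟨Solv.le_fitting (N := B) ⟨ha, ?_⟩, ha⟩
    rintro _ ⟨x, hx, rfl⟩
    rw [eq_comm, ← commutatorElement_eq_one_iff_mul_comm, ← map_commutatorElement]
    exact (QuotientGroup.eq_one_iff _).2 (h x hx)
  have hcm : ∀ x ∈ F, ∀ u ∈ U, Commute x u := fun x hx u hu => (hFA hx u hu).symm
  obtain ⟨k, n', hn', hk⟩ := Nat.exists_eq_pow_mul_and_not_dvd (Nat.card_pos (α := G)).ne' r hr.ne_one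
  have step : ∀ k, (∀ x ∈ F, x ^ (r ^ (k + 2) * n') ∈ U) → ∀ x ∈ F, x ^ (r ^ (k + 1) * n') ∈ U := by
    intro k h
    let s : Set G := {z | ∃ x ∈ F, x ^ (r ^ (k + 1) * n') = z}
    have hs : closure s ≤ F := (closure_le _).2 (by rintro _ ⟨x, hx, rfl⟩; exact F.pow_mem hx _)
    have h1 : closure s ≤ centralizer s := by
      refine (closure_le _).2 ?_
      rintro _ ⟨y, hy, rfl⟩ _ ⟨x, hx, rfl⟩
      rw [← commutatorElement_eq_one_iff_mul_comm,
        comm_pow_left (hcm _ hx _ (hc _ hx _ (F.pow_mem hy _))),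
        comm_pow_right (hcm _ hy _ (hc _ hx _ hy)), ← pow_mul]
      have h2 : ⁅x, y⁆ ^ (r ^ (k + 2) * n') = 1 := by
        rw [← comm_pow_left (hcm _ hx _ (hc _ hx _ hy)), commutatorElement_eq_one_iff_mul_comm]
        exact (hcm y hy _ (h x hx)).symm
      rw [show r ^ (k + 1) * n' * (r ^ (k + 1) * n') = r ^ (k + 2) * n' * (r ^ k * n') by ring,
        pow_mul, h2, one_pow]
    have hsn : (closure s).Normal := ⟨fun a ha g => by
      have : closure s ≤ (closure s).comap (MulAut.conj g).toMonoidHom := (closure_le _).2 (by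
        rintro _ ⟨x, hx, rfl⟩
        exact subset_closure ⟨_, hFn.conj_mem x hx g, conj_pow⟩)
      exact this ha⟩
    have h3 := hmax' (closure s) hsn (by rwa [centralizer_closure]) (hs.trans hFA)
    exact fun x hx => h3 (subset_closure ⟨x, hx, rfl⟩)
  have all : ∀ k, (∀ x ∈ F, x ^ (r ^ (k + 1) * n') ∈ U) → ∀ x ∈ F, x ^ (r * n') ∈ U := by
    intro k
    induction k with
    | zero => simp
    | succ k ih => exact fun h => ih (step k h)
  have h1 := all k (fun x _ => by
    rw [pow_succ, mul_right_comm, ← hk, pow_mul, pow_card_eq_one', one_pow]; exact U.one_mem) x hx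
  have h2 : (x ^ r) ^ r ^ j = 1 := by rw [← pow_mul, mul_comm, pow_mul, hj, one_pow]
  rw [pow_mul] at h1
  have h3 : (orderOf (x ^ r)).Coprime n' :=
    Nat.Coprime.coprime_dvd_left (orderOf_dvd_of_pow_eq_one h2)
      (((Nat.Prime.coprime_iff_not_dvd hr).2 hn').pow_left j)
  obtain ⟨m, hm⟩ := exists_pow_eq_self_of_coprime h3.symm
  rw [← hm]
  exact U.pow_mem h1 m

section
variable {G V K : Type} [Group G] [Finite G] [AddCommGroup V] [DistribMulAction G V]
  [FaithfulSMul G V] [Field K] [Module K V] [Nontrivial V] {U F : Subgroup G} {ι : G → K}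
  (hS : St U F) (hc : Sc V U ι)
include hS hc

theorem prim0 [Module.Finite K V] [U.Normal] [F.Normal]
    (hmax : ∀ B : Subgroup G, B.Normal → B ≤ centralizer (B : Set G) →
      B ≤ centralizer (U : Set G) → B ≤ U)
    (hB : ∀ a ∈ centralizer (U : Set G), (∀ x ∈ F, ⁅a, x⁆ ∈ U) → a ∈ F) (hFU : ¬ F ≤ U) :
    ∃ e, U.relIndex F = e ^ 2 ∧ 2 ≤ e ∧ e ≤ Module.finrank K V ∧
      (∀ r, r.Prime → r ∣ e → r ∣ Nat.card U) ∧ Nat.card (G ⧸ U) < Nat.card G ∧
      ∃ (N : Subgroup (G ⧸ U)) (_ : N.Normal) (_ : IsMulCommutative N) (_ : Nontrivial N),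
        Nat.card N = e ^ 2 ∧ (∀ x ∈ N, x ^ e = 1) ∧
        (centralizer (N : Set (G ⧸ U))).comap (QuotientGroup.mk' U) ⊓ centralizer (U : Set G) ≤ F ∧
        letI := conjAct N
        ∀ X : AddSubgroup (Additive N), Inv (G ⧸ U) X → X ≠ ⊤ →
          ∃ M, MinInv (G ⧸ U) M ∧ ¬ M ≤ X := by
  obtain ⟨D, -, -, he⟩ := sq_aux hS hc F.one_mem
  set e := U.relIndex D
  let π := QuotientGroup.mk' U
  have hπ := QuotientGroup.mk'_surjective U
  have hker : ∀ x, π x = 1 ↔ x ∈ U := QuotientGroup.eq_one_iff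
  set N := F.map π with hN
  haveI : N.Normal := (inferInstance : F.Normal).map _ hπ
  haveI : IsMulCommutative N := ⟨⟨by
    rintro ⟨_, x, hx, rfl⟩ ⟨_, y, hy, rfl⟩
    apply Subtype.ext
    change π x * π y = π y * π x
    rw [← commutatorElement_eq_one_iff_mul_comm, ← map_commutatorElement, hker]
    exact hS.comm x hx y hy⟩⟩
  have hcN : Nat.card N = e ^ 2 := by rw [← he, ← relIndex_ker, QuotientGroup.ker_mk']
  have hN0 : N ≠ ⊥ := by rwa [Ne, Subgroup.map_eq_bot_iff, QuotientGroup.ker_mk']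
  haveI := (nontrivial_iff_ne_bot N).2 hN0
  have he2 : 2 ≤ e := by
    have := N.one_lt_card_iff_ne_bot.2 hN0
    by_contra h
    rw [hcN] at this
    interval_cases e <;> simp at this
  have hU0 : U ≠ ⊥ := by
    rintro rfl
    exact hFU fun x hx => hS.self fun y hy =>
      commutatorElement_eq_one_iff_mul_comm.1 (hS.comm y hy x hx)
  have hexp : ∀ x ∈ F, x ^ e ∈ U := fun x hx => by
    obtain ⟨D', h1, h2, h3⟩ := sq_aux hS hc hx
    have h4 : U.relIndex D' = e := Nat.pow_left_injective two_ne_zero (h3.symm.trans he)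
    exact h4 ▸ (U.subgroupOf D').pow_index_mem ⟨x, h2⟩
  have hd : e ≤ Module.finrank K V :=
    (Nat.pow_le_pow_iff_left two_ne_zero).1 (he ▸ relIndex_le hS hc)
  have hr : ∀ r, r.Prime → r ∣ e → r ∣ Nat.card U := fun r hr h => by
    haveI := Fact.mk hr
    obtain ⟨⟨_, x, hx, rfl⟩, h1⟩ := exists_prime_orderOf_dvd_card' (G := N) r
      (hcN ▸ h.trans (dvd_pow_self e two_ne_zero))
    rw [← h1]
    refine orderOf_dvd_of_pow_eq_one (Subtype.ext ?_)
    change π x ^ Nat.card U = 1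
    rw [← map_pow, hker]
    refine hS.self fun y hy => Eq.symm ?_
    rw [← commutatorElement_eq_one_iff_mul_comm, PGrp.commutator_pow_left (hS.cmc hx hy hx)]
    exact congrArg Subtype.val (pow_card_eq_one' (x := (⟨_, hS.comm x hx y hy⟩ : U)))
  refine ⟨e, he, he2, hd, hr, ?_, N, inferInstance, inferInstance, inferInstance, hcN, ?_,
    fun a ha => hB a ha.2 fun x hx => ?_, cr_conj N fun X hXN hX hne => ?_⟩
  · rw [← U.card_mul_index]
    exact lt_mul_of_one_lt_left (Nat.pos_of_ne_zero index_ne_zero_of_finite)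
      (U.one_lt_card_iff_ne_bot.2 hU0)
  · rintro _ ⟨x, hx, rfl⟩
    rw [← map_pow, hker]
    exact hexp x hx
  · rw [← hker, map_commutatorElement, commutatorElement_eq_one_iff_mul_comm]
    exact (ha.1 _ ⟨x, hx, rfl⟩).symm
  · set X' := X.comap π
    have h1 : U ≤ X' := fun u hu => by
      change π u ∈ X
      rw [(hker u).2 hu]; exact X.one_mem
    have h2 : X' ≤ F := (comap_mono hXN).trans (by
      rw [comap_map_eq, QuotientGroup.ker_mk']; exact sup_le le_rfl hS.le)
    set Y := F ⊓ centralizer (X' : Set G)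
    have h3 : Y.map π ≠ ⊥ := by
      rw [Ne, Subgroup.map_eq_bot_iff, QuotientGroup.ker_mk']
      refine fun h => hne (le_antisymm hXN ?_)
      rintro _ ⟨c, hcF, rfl⟩
      exact hS.double hc h1 h2 hcF fun y hy => hS.cent hcF y (h hy)
    obtain ⟨M, ⟨hM, hM0, hMle⟩, hmin⟩ := (Set.toFinite {M : Subgroup (G ⧸ U) |
      M.Normal ∧ M ≠ ⊥ ∧ M ≤ Y.map π}).exists_minimal
      ⟨_, (inferInstance : Y.Normal).map _ hπ, h3, le_rfl⟩
    refine ⟨M, hMle.trans (map_mono inf_le_left), hM, fun W hW hWn => (em (W = ⊥)).imp id fun h =>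
      le_antisymm hW (hmin ⟨hWn, h, hW.trans hMle⟩ hW), fun hMX => hM0 ?_⟩
    have h4 : M.comap π ≤ Y := (comap_mono hMle).trans (by
      rw [comap_map_eq, QuotientGroup.ker_mk']
      exact sup_le le_rfl (le_inf hS.le (le_centralizer_iff.1 (h2.trans hS.cent))))
    have h5 := hmax (M.comap π) inferInstance
      ((h4.trans inf_le_right).trans (centralizer_le (comap_mono hMX)))
      ((h4.trans inf_le_left).trans hS.cent)
    rw [eq_bot_iff]
    intro m hm
    obtain ⟨y, rfl⟩ := hπ m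
    exact (hker y).2 (h5 hm)

omit [Finite G] in
theorem ds_cent [Finite K] : ds (⊤ : Subgroup G) 1 ≤ centralizer (U : Set G) := by
  have h : ∀ g : G, ∃ i : ℕ, ∀ u ∈ U, g * u * g⁻¹ = u ^ i := fun g => by
    obtain ⟨σ, hσ⟩ := exists_sigma hc g
    obtain ⟨i, hi⟩ := aut_pow σ
    exact ⟨i, fun u hu => hc.inj (hS.un.conj_mem u hu g) (U.pow_mem hu i) (by
      rw [← sigma_iota hS hc hσ hu, hi _ (hc.ne_zero hu), hc.pow hu])⟩
  refine commutator_le.2 fun a _ b _ u hu => ?_
  obtain ⟨i, hi⟩ := h a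
  obtain ⟨j, hj⟩ := h b
  obtain ⟨u, hu', rfl⟩ : ∃ u' ∈ U, u = b * a * u' * (b * a)⁻¹ :=
    ⟨_, hS.un.conj_mem' u hu (b * a), by group⟩
  have h1 : b * a * u * (b * a)⁻¹ = a * b * u * (a * b)⁻¹ := by
    calc b * a * u * (b * a)⁻¹ = b * (a * u * a⁻¹) * b⁻¹ := by group
      _ = a * (b * u * b⁻¹) * a⁻¹ := by
        rw [hi u hu', hj u hu', hi _ (U.pow_mem hu' j), hj _ (U.pow_mem hu' i), ← pow_mul,
          ← pow_mul, mul_comm i]
      _ = _ := by group
  conv_lhs => rw [h1]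
  rw [commutatorElement_def]
  group

end

end Cfsg.Agent.CH.Kc
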