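import Cfsg.Agent.CH.Dl3

/-! Derived lengths of stabilisers: inequivalent colourings of a primitive solvable permutation
group whose stabilisers have small derived length (`trA`, `trB`, `trC`). -/

set_option autoImplicit false

namespace Cfsg.Agent.CH.Kc

open Subgroup Reg

/-- `n` derived steps kill a solvable permutation group of degree at most `s`. -/
def okS (s n : ℕ) : Prop := s ≤ 1 ∨ (s ≤ 2 ∧ 1 ≤ n) ∨ (s ≤ 3 ∧ 2 ≤ n) ∨ (s ≤ 7 ∧ 3 ≤ n)

theorem ds_index (s : ℕ) : ∀ (T : Type) [Group T] [Finite T] [Group.IsSolvable T] (L : Subgroup T)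
    (n : ℕ), L.index = s → okS s n → ds (⊤ : Subgroup T) n ≤ L := by
  induction s using Nat.strong_induction_on with
  | _ s ih =>
  intro T _ _ _ L n hs hok
  rcases eq_top_or_exists_le_coatom L with rfl | ⟨M, hM, hLM⟩
  · exact le_top
  have h1 : L.relIndex M * M.index = s := hs ▸ relIndex_mul_index hLM
  have h2 : M.index ≠ 1 := fun h => hM.1 (index_eq_one.1 h)
  have h3 : M.index ≠ 0 := index_ne_zero_of_finite
  have h4 : L.relIndex M ≠ 0 := index_ne_zero_of_finite
  have h7 : s ≤ 7 := by unfold okS at hok; omega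
  have h5 : M.index ≤ 7 := (Nat.le_mul_of_pos_left _ (Nat.pos_of_ne_zero h4)).trans (h1 ▸ h7)
  have h6 : L.relIndex M ≤ 7 := (Nat.le_mul_of_pos_right _ (Nat.pos_of_ne_zero h3)).trans (h1 ▸ h7)
  have h8 := (dprim hM (h5.trans (by norm_num))).trans M.normalCore_le
  have h9 : L.relIndex M < s ∧ lam M.index + 1 ≤ n ∧ okS (L.relIndex M) (n - (lam M.index + 1)) := by
    generalize L.relIndex M = r at *
    generalize M.index = m at *
    unfold okS at *
    interval_cases m <;> simp only [lam] <;> norm_num <;> omega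
  have h10 := ih _ h9.1 M (L.subgroupOf M) _ rfl h9.2.2
  rw [← Nat.add_sub_cancel' h9.2.1]
  refine ds_step h8 fun g hg => ?_
  obtain ⟨h, hg'⟩ := ds_sub (le_refl M) hg
  rw [subgroupOf_self] at hg'
  exact h10 hg'

theorem okS_mono {s s' n : ℕ} (h : s ≤ s') (h' : okS s' n) : okS s n := by
  unfold okS at *; omega

theorem ds_class {G Ω κ : Type} [Group G] [Finite G] [Group.IsSolvable G] [MulAction G Ω]
    [Finite Ω] (c : Ω → κ) (ω : Ω) {n : ℕ} (h : okS (Nat.card {η // c η = c ω}) n) :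
    ds (Pres G c) n ≤ MulAction.stabilizer G ω := by
  intro g hg
  obtain ⟨h1, hg'⟩ := ds_sub (le_refl (Pres G c)) hg
  rw [subgroupOf_self] at hg'
  refine ds_index _ (Pres G c) (MulAction.stabilizer (Pres G c) ω) n rfl (okS_mono ?_ h) hg'
  rw [MulAction.index_stabilizer, ← Nat.card_coe_set_eq]
  refine Nat.card_le_card_of_injective
    (fun x => (⟨x.1, by obtain ⟨_, y, rfl⟩ := x; exact y.2 ω⟩ : {η // c η = c ω}))
    fun x y hxy => Subtype.ext (by simpa using hxy)

/-- The size of the colour class `k`. -/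
def szc {a : ℕ} (t : ℕ) (p : List (Fin a)) (k0 k : Fin a) : ℕ :=
  p.count k + if k0 = k then t - p.length else 0

theorem sum_getD {a : ℕ} (k0 k : Fin a) (p : List (Fin a)) : ∀ t, p.length ≤ t →
    ∑ j ∈ Finset.range t, (if p.getD j k0 = k then 1 else 0) = szc t p k0 k := by
  induction p with
  | nil => intro t _; by_cases h : k0 = k <;> simp [szc, h]
  | cons x p ih =>
    intro t ht
    obtain ⟨t, rfl⟩ : ∃ t', t = t' + 1 := ⟨t - 1, by simp at ht; omega⟩
    rw [Finset.sum_range_succ']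
    simp only [List.getD_cons_succ, List.getD_cons_zero]
    rw [ih t (by simpa using ht)]
    simp only [szc, List.count_cons, List.length_cons, Nat.add_sub_add_right, beq_iff_eq]
    omega

/-- The numerical conditions on a family of colour patterns. -/
def CondT {a b : ℕ} (t β : ℕ) (ca : Fin a → ℕ) (cb : Fin b → ℕ) (pat : Fin b → List (Fin a))
    (k0 : Fin b → Fin a) : Prop :=
  (∀ i, (pat i).length ≤ t) ∧
  (∀ i j, (∀ k, szc t (pat i) (k0 i) k = szc t (pat j) (k0 j) k) → i = j) ∧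
  ∀ i k, szc t (pat i) (k0 i) k ≠ 0 → ca k ≤ cb i ∧ (okS (szc t (pat i) (k0 i) k) (cb i - ca k) ∨
    (β ≤ (pat i).length ∧ ∀ l ∈ (pat i).take β, okS (szc t (pat i) (k0 i) l) (cb i - ca k)))

/-- A base of size at most `β`. -/
def BaseT {G : Type} [Group G] (H : Subgroup G) (β : ℕ) : Prop :=
  ∃ B : Finset (G ⧸ H), B.card ≤ β ∧ ∀ g : G, (∀ ω ∈ B, g • ω = ω) → ∀ ω : G ⧸ H, g • ω = ω

section
variable {G : Type} [Group G] [Finite G] [Group.IsSolvable G] {H : Subgroup G}

theorem tr_of {a b β : ℕ} {ca : Fin a → ℕ} {cb : Fin b → ℕ} (pat : Fin b → List (Fin a))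
    (k0 : Fin b → Fin a) (hB : BaseT H β) (h : CondT H.index β ca cb pat k0) : Tr H ca cb := by
  classical
  obtain ⟨B, hB, hB'⟩ := hB
  haveI : Fintype (G ⧸ H) := Fintype.ofFinite _
  let l : List (G ⧸ H) := B.toList ++ Bᶜ.toList
  have nd : l.Nodup := List.nodup_append.2 ⟨B.nodup_toList, Bᶜ.nodup_toList, fun x hx y hy e => by
    rw [Finset.mem_toList] at hx hy
    exact Finset.mem_compl.1 hy (e ▸ hx)⟩
  have hm : ∀ x, x ∈ l := fun x => by
    by_cases hx : x ∈ B <;> simp [l, hx]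
  have hl : l.length = H.index := by
    simp [l, index]
  let ε := (List.Nodup.getEquivOfForallMemList l nd hm).symm
  have hε : ∀ ω ∈ B, (ε ω : ℕ) < β := fun ω hω => by
    change l.idxOf ω < β
    rw [List.idxOf_append_of_mem (Finset.mem_toList.2 hω)]
    exact (List.idxOf_lt_length_of_mem (Finset.mem_toList.2 hω)).trans_le (by simpa using hB)
  let c : Fin b → G ⧸ H → Fin a := fun i ω => (pat i).getD (ε ω) (k0 i)
  have hc : ∀ i k, Nat.card {η // c i η = k} = szc H.index (pat i) (k0 i) k := fun i k => by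
    rw [← sum_getD _ _ _ _ (h.1 i), ← hl, Finset.sum_range, Nat.card_eq_fintype_card,
      Fintype.card_subtype, Finset.card_filter]
    exact Fintype.sum_equiv ε _ _ fun _ => rfl
  refine ⟨c, fun i j g hg => h.2.1 i j fun k => ?_, fun i ω => ?_⟩
  · rw [← hc, ← hc]
    exact Nat.card_congr ((MulAction.toPerm g).subtypeEquiv fun ω => by
      rw [MulAction.toPerm_apply, hg])
  have h0 : szc H.index (pat i) (k0 i) (c i ω) ≠ 0 := by
    rw [← hc]
    haveI : Nonempty {η // c i η = c i ω} := ⟨⟨ω, rfl⟩⟩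
    exact Nat.card_pos.ne'
  obtain ⟨h1, h2 | ⟨h2, h3⟩⟩ := h.2.2 i _ h0
  · exact ⟨h1, ds_class _ _ (by rwa [hc])⟩
  · refine ⟨h1, fun g hg => hB' g (fun η hη => ds_class (c i) η ?_ hg) ω⟩
    rw [hc]
    refine h3 _ (List.mem_iff_getElem.2 ⟨ε η, ?_, ?_⟩)
    · rw [List.length_take]
      exact lt_min (hε η hη) ((hε η hη).trans_le h2)
    · rw [List.getElem_take]
      exact (List.getD_eq_getElem _ _ _).symm

omit [Finite G] [Group.IsSolvable G] in
theorem fix_of_core {g : G} (hg : g ∈ H.normalCore) (ω : G ⧸ H) : g • ω = ω := by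
  rw [normalCore_eq_ker] at hg
  exact congrArg (fun σ : Equiv.Perm (G ⧸ H) => σ ω) hg

omit [Finite G] [Group.IsSolvable G] in
theorem mem_of_fix {g x : G} (h : g • (x : G ⧸ H) = x) : x⁻¹ * g * x ∈ H := by
  have h1 : ((g * x : G) : G ⧸ H) = x := h
  rw [mul_assoc]
  exact QuotientGroup.eq.1 h1.symm

variable (hH : IsCoatom H)
include hH

theorem baseT_four : BaseT H 4 := by
  classical
  obtain ⟨t, ht⟩ := base_four (fi3 _) le_rfl hH
  refine ⟨Finset.univ.image fun i => (t i : G ⧸ H), Finset.card_image_le.trans (by simp),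
    fun g hg => fix_of_core (ht g fun i => mem_of_fix (hg _ (by simp)))⟩

theorem baseT_two (hp : H.index.Prime) : BaseT H 2 := by
  classical
  let π := QuotientGroup.mk' H.normalCore
  have hH' := SolvStr.isCoatom_map_mk' hH H.normalCore_le
  obtain ⟨N, _, _, hN, hinf, hcent, hdec, -⟩ := exists_min_normal hH' (normalCore_map_eq_bot H)
  have hc : Nat.card N = H.index := by
    rw [← index_map_eq H (QuotientGroup.mk'_surjective H.normalCore)
      (by rw [QuotientGroup.ker_mk']; exact H.normalCore_le)]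
    refine (isComplement'_of_disjoint_and_mul_eq_univ (disjoint_iff.2 hinf)
      (Set.eq_univ_of_forall fun g => ?_)).index_eq_card.symm
    obtain ⟨t, ht, k, hk, e⟩ := hdec g
    exact ⟨t, ht, k, hk, e⟩
  obtain ⟨⟨x, hx⟩, hx1⟩ := ne_bot_iff_exists_ne_one.1 hN
  obtain ⟨s, rfl⟩ := QuotientGroup.mk'_surjective H.normalCore x
  refine ⟨{((1 : G) : G ⧸ H), (s : G ⧸ H)}, Finset.card_le_two, fun g hg => fix_of_core ?_⟩
  have hg0 : g ∈ H := by simpa using mem_of_fix (hg ((1 : G) : G ⧸ H) (by simp))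
  have h2 : s⁻¹ * g * s ∈ H := mem_of_fix (hg s (by simp))
  have h3 : π (s⁻¹ * g * s * g⁻¹) ∈ N ⊓ H.map π := by
    refine ⟨?_, _, H.mul_mem h2 (H.inv_mem hg0), rfl⟩
    rw [map_mul, map_mul, map_mul, map_inv, map_inv, mul_assoc, mul_assoc, ← mul_assoc (π g)]
    exact N.mul_mem (N.inv_mem hx) ((inferInstance : N.Normal).conj_mem _ hx _)
  rw [hinf, mem_bot, map_mul, map_mul, map_mul, map_inv, map_inv, mul_inv_eq_one, mul_assoc,
    inv_mul_eq_iff_eq_mul] at h3
  have h4 : π g ∈ centralizer (N : Set _) ⊓ H.map π := by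
    refine ⟨fun y hy => ?_, g, hg0, rfl⟩
    haveI := Fact.mk hp
    obtain ⟨k, hk⟩ := mem_zpowers_of_prime_card hc (g' := (⟨y, hy⟩ : N)) hx1
    have h5 : π s ^ k = y := congrArg Subtype.val hk
    rw [← h5]
    exact (Commute.zpow_left (show Commute (π s) (π g) from h3.symm) k).eq
  rw [hcent, mem_bot] at h4
  exact (QuotientGroup.eq_one_iff g).1 h4

omit [Group.IsSolvable G] in
theorem two_le_index : 2 ≤ H.index := by
  have h2 : H.index ≠ 1 := fun h => hH.1 (index_eq_one.1 h)
  have h3 : H.index ≠ 0 := index_ne_zero_of_finite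
  omega

theorem trC : Tr H (fun _ : Fin 5 => 9) (fun _ : Fin 5 => 9) := by
  have h2 := two_le_index hH
  by_cases h5 : H.index = 5
  · refine tr_of (fun a => [a + 1, a + 2]) id (baseT_two hH (h5 ▸ by norm_num)) ?_
    rw [h5]; unfold CondT okS szc; decide
  by_cases h4 : H.index < 4
  · refine tr_of (fun a => [a + 1, a + 2, a + 3].take H.index) id (baseT_four hH) ?_
    generalize H.index = t at *
    interval_cases t <;> (unfold CondT okS szc; decide)
  refine tr_of ![[1, 2, 3, 4], [2, 3, 4, 0], [3, 4, 0, 1], [4, 0, 1, 2], [0, 1, 2, 3]] id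
    (baseT_four hH) ?_
  generalize H.index = t at *
  refine ⟨fun i => ?_, fun i j h => ?_, fun i k _ => ⟨le_rfl, Or.inr ?_⟩⟩
  · fin_cases i <;> simp <;> omega
  · have h1 := h i
    fin_cases i <;> fin_cases j <;> simp [szc] at h1 ⊢ <;> omega
  · fin_cases i <;> simp [szc, okS]

theorem trB : Tr H ![7, 7, 8] (fun _ : Fin 5 => 9) := by
  have h2 := two_le_index hH
  by_cases h7 : H.index = 7
  · refine tr_of ![[2, 2], [2, 2, 1], [2, 1], [1, 1], [1, 1, 1]] (fun _ => 0)
      (baseT_two hH (h7 ▸ by norm_num)) ?_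
    rw [h7]; unfold CondT okS szc; decide
  by_cases h6 : H.index ≤ 6
  · refine tr_of (if H.index = 2 then ![[], [1], [1, 1], [2], [1, 2]]
      else if H.index = 3 then ![[], [1], [1, 1], [1, 1, 1], [2]]
      else if H.index = 4 then ![[1], [1, 1], [1, 1, 1], [1, 2], [1, 1, 2]]
      else if H.index = 5 then ![[1, 1], [1, 1, 1], [1, 2], [1, 1, 2], [1, 1, 1, 2]]
      else ![[1, 1, 1], [1, 1, 2], [1, 1, 1, 2], [1, 1, 2, 2], [1, 2, 2]]) (fun _ => 0)
      (baseT_four hH) ?_
    generalize H.index = t at *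
    interval_cases t <;> (unfold CondT okS szc; decide)
  refine tr_of ![[2, 2, 1, 1], [2, 2, 1, 1, 1], [2, 1, 1, 1], [2, 2, 0, 0], [2, 0, 0, 0]]
    ![0, 0, 0, 1, 1] (baseT_four hH) ?_
  generalize H.index = t at *
  refine ⟨fun i => ?_, fun i j h => ?_, fun i k _ => ?_⟩
  · fin_cases i <;> simp <;> omega
  · have h1 := h 1
    have h0 := h 0
    have h3 := h 2
    fin_cases i <;> fin_cases j <;> simp [szc] at h0 h1 h3 ⊢ <;> omega
  · fin_cases i <;> fin_cases k <;> simp [szc, okS]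

theorem trA : Tr H ![6, 6] ![7, 7, 8] ∨ Tr H ![6, 6] (fun _ : Fin 5 => 9) := by
  have h2 := two_le_index hH
  by_cases h3 : H.index ≤ 3
  · left
    refine tr_of (if H.index = 2 then ![[], [1], [1, 1]] else ![[1], [1, 1], []]) (fun _ => 0)
      (baseT_four hH) ?_
    generalize H.index = t at *
    interval_cases t <;> (unfold CondT okS szc; decide)
  right
  by_cases h11 : H.index = 11
  · refine tr_of (fun a => List.replicate (a + 2) 1) (fun _ => 0)
      (baseT_two hH (h11 ▸ by norm_num)) ?_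
    rw [h11]; unfold CondT okS szc; decide
  by_cases h10 : H.index ≤ 10
  · refine tr_of (fun a => List.replicate (a + (H.index - 7)) 1) (fun _ => 0) (baseT_four hH) ?_
    generalize H.index = t at *
    interval_cases t <;> (unfold CondT okS szc; decide)
  refine tr_of ![[1, 1, 1, 1], [1, 1, 1, 1, 1], [1, 1, 1, 1, 1, 1], [0, 0, 0, 0], [0, 0, 0, 0, 0]]
    ![0, 0, 0, 1, 1] (baseT_four hH) ?_
  generalize H.index = t at *
  refine ⟨fun i => ?_, fun i j h => ?_, fun i k _ => ?_⟩
  · fin_cases i <;> simp <;> omega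
  · have h1 := h 1
    have h0 := h 0
    fin_cases i <;> fin_cases j <;> simp [szc] at h0 h1 ⊢ <;> omega
  · fin_cases i <;> fin_cases k <;> simp [szc, okS]

end

end Cfsg.Agent.CH.Kc
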