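import Cfsg.Agent.S4201
import Mathlib

/-! Class numbers of sections: basic bounds. -/

set_option autoImplicit false

namespace Cfsg.Agent.CH.Kc

open Subgroup

/-- The class number of `H / N`. -/
noncomputable def kq {H : Type} [Group H] (N : Subgroup H) [N.Normal] : ℕ :=
  Nat.card (ConjClasses (H ⧸ N))

theorem fin_cc (H : Type) [Group H] [Finite H] : Finite (ConjClasses H) :=
  Finite.of_surjective _ ConjClasses.mk_surjective

theorem k_le_of_surj {H Y : Type} [Group H] [Finite H] [Group Y] (φ : H →* Y)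
    (h : Function.Surjective φ) : Nat.card (ConjClasses Y) ≤ Nat.card (ConjClasses H) :=
  haveI := fin_cc H
  Nat.card_le_card_of_surjective _ (ConjClasses.map_surjective h)

theorem k_le_kq {H Y : Type} [Group H] [Finite H] [Group Y] (φ : H →* Y)
    (h : Function.Surjective φ) (N : Subgroup H) [N.Normal] (hN : N ≤ φ.ker) :
    Nat.card (ConjClasses Y) ≤ kq N :=
  k_le_of_surj (QuotientGroup.lift N φ hN) fun y => by
    obtain ⟨x, rfl⟩ := h y
    exact ⟨x, rfl⟩

theorem kq_mono {H : Type} [Group H] [Finite H] {M N : Subgroup H} [M.Normal] [N.Normal]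
    (h : M ≤ N) : kq N ≤ kq M :=
  k_le_kq (QuotientGroup.mk' N) (QuotientGroup.mk'_surjective N) M (by rwa [QuotientGroup.ker_mk'])

theorem kq_le_index {H : Type} [Group H] [Finite H] (N : Subgroup H) [N.Normal] :
    kq N ≤ N.index :=
  Nat.card_le_card_of_surjective _ ConjClasses.mk_surjective

theorem kq_mul {H : Type} [Group H] [Finite H] (M N : Subgroup H) [M.Normal] [N.Normal] :
    kq N ≤ kq M * kq (N.subgroupOf M) := by
  haveI : (M.map (QuotientGroup.mk' N)).Normal :=
    (inferInstance : M.Normal).map _ (QuotientGroup.mk'_surjective N)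
  refine (S4201.result (M.map (QuotientGroup.mk' N))).trans ?_
  rw [mul_comm]
  refine Nat.mul_le_mul (k_le_kq ((QuotientGroup.mk' _).comp (QuotientGroup.mk' N))
    ((QuotientGroup.mk'_surjective _).comp (QuotientGroup.mk'_surjective N)) M fun x hx => ?_)
    (k_le_kq ((QuotientGroup.mk' N).subgroupMap M) (MonoidHom.subgroupMap_surjective _ M) _
      fun x hx => Subtype.ext ((QuotientGroup.eq_one_iff _).2 hx))
  exact (QuotientGroup.eq_one_iff _).2 ⟨x, hx, rfl⟩

theorem kq_comap {H Y : Type} [Group H] [Finite H] [Group Y] (φ : H →* Y)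
    (h : Function.Surjective φ) (N : Subgroup Y) [N.Normal] : kq (N.comap φ) ≤ kq N := by
  haveI := Finite.of_surjective _ h
  let f : H ⧸ N.comap φ →* Y ⧸ N := QuotientGroup.map _ _ φ le_rfl
  have hf : Function.Bijective f := by
    refine ⟨(injective_iff_map_eq_one f).2 fun x hx => ?_, fun y => ?_⟩
    · induction x using QuotientGroup.induction_on with
      | H x => exact (QuotientGroup.eq_one_iff _).2 ((QuotientGroup.eq_one_iff (φ x)).1 hx)
    · induction y using QuotientGroup.induction_on with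
      | H y =>
        obtain ⟨x, rfl⟩ := h y
        exact ⟨x, rfl⟩
  exact k_le_of_surj (MulEquiv.ofBijective f hf).symm.toMonoidHom
    (MulEquiv.ofBijective f hf).symm.surjective

/-- All sections `H / (H ∩ N)` have at most `b` classes. -/
def Bd {G : Type} [Group G] (N : Subgroup G) [N.Normal] (b : ℕ) : Prop :=
  ∀ (H : Type) [Group H] [Finite H] (φ : H →* G), kq (N.comap φ) ≤ b

section
variable {G : Type} [Group G]

theorem Bd.mono {M N : Subgroup G} [M.Normal] [N.Normal] {a b : ℕ} (h : Bd M a) (hMN : M ≤ N)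
    (hab : a ≤ b) : Bd N b := fun H _ _ φ =>
  (kq_mono (comap_mono hMN)).trans ((h H φ).trans hab)

theorem Bd.comap {G' : Type} [Group G'] {N : Subgroup G'} [N.Normal] {b : ℕ} (h : Bd N b)
    (f : G →* G') : Bd (N.comap f) b := fun H _ _ φ => h H (f.comp φ)

theorem bd_index [Finite G] (N : Subgroup G) [N.Normal] : Bd N N.index := fun H _ _ φ => by
  refine (kq_le_index _).trans ?_
  rw [index_comap]
  exact (relIndex_le_of_le_right le_top (by
    rw [relIndex_top_right]; exact index_ne_zero_of_finite)).trans_eq (relIndex_top_right N)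

theorem Bd.rel {M N : Subgroup G} [M.Normal] [N.Normal] {a b : ℕ} (h : Bd M a)
    (h' : Bd (N.subgroupOf M) b) : Bd N (a * b) := fun H _ _ φ =>
  (kq_mul (M.comap φ) _).trans (Nat.mul_le_mul (h H φ)
    (h' (M.comap φ) (φ.subgroupComap M)))

theorem Bd.inf {M N : Subgroup G} [M.Normal] [N.Normal] {a b : ℕ} (h : Bd M a) (h' : Bd N b) :
    Bd (M ⊓ N) (a * b) :=
  h.rel ((h'.comap M.subtype).mono (fun x hx => ⟨x.2, hx⟩) le_rfl)

theorem bd_of_sub {N : Subgroup G} [N.Normal] {b : ℕ} [Finite G]
    (h : ∀ H : Subgroup G, kq (N.subgroupOf H) ≤ b) : Bd N b := fun _ _ _ φ =>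
  (kq_comap φ.rangeRestrict φ.rangeRestrict_surjective (N.subgroupOf φ.range)).trans (h _)

theorem bd_bot [Finite G] {b : ℕ} (h : ∀ H : Subgroup G, Nat.card (ConjClasses H) ≤ b) :
    Bd (⊥ : Subgroup G) b :=
  bd_of_sub fun H => (k_le_of_surj _ (QuotientGroup.mk'_surjective _)).trans (h H)

theorem bd_prod [Finite G] {ι : Type} (N : ι → Subgroup G) [∀ i, (N i).Normal] (b : ι → ℕ)
    (h : ∀ i, Bd (N i) (b i)) (s : Finset ι) (M : Subgroup G) [M.Normal]
    (hM : ∀ g, (∀ i ∈ s, g ∈ N i) → g ∈ M) : Bd M (∏ i ∈ s, b i) := by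
  classical
  induction s using Finset.induction_on generalizing M with
  | empty =>
    refine (bd_index ⊤).mono (fun g _ => hM g (by simp)) (by simp)
  | insert j s hj ih =>
    haveI : (⨅ i : s, N i).Normal := normal_iInf_normal fun _ => inferInstance
    rw [Finset.prod_insert hj]
    refine ((h j).inf (ih (⨅ i : s, N i) fun g hg => mem_iInf.2 fun i => hg i i.2)).mono
      (fun g hg => hM g fun i hi => ?_) le_rfl
    rcases Finset.mem_insert.1 hi with rfl | hi
    · exact hg.1
    · exact mem_iInf.1 hg.2 ⟨i, hi⟩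

end

theorem k_lt {H : Type} [Group H] [Finite H] (S : Set H) (h1 : (1 : H) ∈ S) {z c : ℕ}
    (hz : S.ncard ≤ z) (hc0 : 0 < c)
    (hc : ∀ x, x ∉ S → Nat.card (centralizer ({x} : Set H)) ≤ c) :
    Nat.card (ConjClasses H) < z + c := by
  classical
  haveI := Fintype.ofFinite H
  have e1 := card_comm_eq_card_conjClasses_mul_card H
  have e2 : Nat.card {p : H × H // Commute p.1 p.2} = ∑ x : H, Nat.card (centralizer ({x} : Set H)) := by
    rw [← Nat.card_sigma]
    exact Nat.card_congr
      { toFun := fun p => ⟨p.1.1, p.1.2, mem_centralizer_singleton_iff.2 p.2.symm⟩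
        invFun := fun p => ⟨(p.1, p.2), (mem_centralizer_singleton_iff.1 p.2.2).symm⟩
        left_inv := fun _ => rfl
        right_inv := fun _ => rfl }
  have e3 : ∑ x : H, Nat.card (centralizer ({x} : Set H)) <
      ∑ x : H, ((if x ∈ S then Nat.card H else 0) + c) := by
    refine Finset.sum_lt_sum (fun x _ => ?_) ⟨1, Finset.mem_univ _, ?_⟩
    · split_ifs with h
      · exact (card_le_card_group _).trans (Nat.le_add_right _ _)
      · simpa using hc x h
    · rw [if_pos h1]
      exact (card_le_card_group _).trans_lt (Nat.lt_add_of_pos_right hc0)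
  rw [Finset.sum_add_distrib, ← Finset.sum_filter, Finset.sum_const, Finset.sum_const,
    Finset.card_univ, ← Nat.card_eq_fintype_card, smul_eq_mul, smul_eq_mul, ← e2, e1] at e3
  have e4 : (Finset.univ.filter (· ∈ S)).card = S.ncard := by
    rw [← Set.ncard_coe_finset]; congr 1; ext; simp
  rw [e4] at e3
  have := Nat.mul_le_mul_right (Nat.card H) hz
  refine lt_of_mul_lt_mul_right (a := Nat.card H) ?_ (Nat.zero_le _)
  nlinarith

/-- Groups acting faithfully on a plane over the prime field. -/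
theorem gl2' {p : ℕ} [Fact p.Prime] {H V : Type} [Group H] [Finite H] [AddCommGroup V] [Finite V]
    [Module (ZMod p) V] [DistribMulAction H V] [FaithfulSMul H V] (hV : Nat.card V = p ^ 2) :
    Nat.card (ConjClasses H) + 3 ≤ p ^ 2 + p := by
  have hp : p.Prime := Fact.out
  haveI : Module.Finite (ZMod p) V := Module.Finite.of_finite
  have hr : Module.finrank (ZMod p) V = 2 := by
    have := Module.natCard_eq_pow_finrank (K := ZMod p) (V := V)
    rw [hV, Nat.card_zmod] at this
    exact (Nat.pow_right_injective hp.two_le this).symm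
  let f : H → V →ₗ[ZMod p] V := fun x => (DistribSMul.toAddMonoidHom V x).toZModLinearMap p
  have hf : ∀ x v, f x v = x • v := fun _ _ => rfl
  haveI : Nontrivial V := Module.nontrivial_of_finrank_pos (R := ZMod p) (by omega)
  obtain ⟨v0, hv0⟩ := exists_ne (0 : V)
  have h2 := hp.two_le
  have h4 : 4 ≤ p ^ 2 := by nlinarith
  have := k_lt (H := H) {x | ∃ a : ZMod p, f x = a • 1} ⟨1, by ext v; simp [hf]⟩ (z := p - 1)
    (c := p ^ 2 - 1) ?_ (by omega) ?_
  · omega
  · have h3 : ({0}ᶜ : Set (ZMod p)).ncard = p - 1 := by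
      rw [Set.ncard_compl, Set.ncard_singleton, Nat.card_zmod]
    rw [← h3]
    classical
    refine Set.ncard_le_ncard_of_injOn
      (fun x => if h : ∃ a : ZMod p, f x = a • 1 then h.choose else 0) (fun x hx => ?_)
      (fun x hx y hy e => ?_)
    · replace hx : ∃ a : ZMod p, f x = a • 1 := hx
      rw [dif_pos hx]
      intro h0
      have h1 := hx.choose_spec
      rw [h0, zero_smul] at h1
      have h5 : x • v0 = 0 := congrArg (fun g : V →ₗ[ZMod p] V => g v0) h1
      exact hv0 ((smul_eq_zero_iff_eq x).1 h5)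
    · replace hx : ∃ a : ZMod p, f x = a • 1 := hx
      replace hy : ∃ a : ZMod p, f y = a • 1 := hy
      simp only [dif_pos hx, dif_pos hy] at e
      have h1 := hx.choose_spec
      rw [e, ← hy.choose_spec] at h1
      exact FaithfulSMul.eq_of_smul_eq_smul (α := V) fun v =>
        congrArg (fun g : V →ₗ[ZMod p] V => g v) h1
  · intro x hx
    obtain ⟨v, hv⟩ : ∃ v, LinearIndependent (ZMod p) ![v, f x v] := by
      by_contra h
      push Not at h
      exact hx ((f x).exists_eq_smul_id_of_forall_notLinearIndependent h)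
    have hsp := hv.span_eq_top_of_card_eq_finrank (by simp [hr])
    have hv1 : v ≠ 0 := hv.ne_zero 0
    have h3 : ({0}ᶜ : Set V).ncard = p ^ 2 - 1 := by
      rw [Set.ncard_compl, Set.ncard_singleton, hV]
    rw [← h3, ← Nat.card_coe_set_eq]
    refine Nat.card_le_card_of_injective
      (fun g => ⟨(g : H) • v, fun h => hv1 ((smul_eq_zero_iff_eq _).1 h)⟩) fun g g' e => ?_
    have e1 : (g : H) • v = (g' : H) • v := congrArg Subtype.val e
    refine Subtype.ext (FaithfulSMul.eq_of_smul_eq_smul (α := V) fun w => ?_)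
    have : f g = f g' := LinearMap.ext_on_range hsp fun i => by
      fin_cases i
      · exact e1
      · change (g : H) • x • v = (g' : H) • x • v
        rw [← mul_smul, ← mul_smul, mem_centralizer_singleton_iff.1 g.2,
          mem_centralizer_singleton_iff.1 g'.2, mul_smul, mul_smul, e1]
    exact congrArg (fun g : V →ₗ[ZMod p] V => g w) this

theorem gl2 {p : ℕ} (hp : p.Prime) {H V : Type} [Group H] [Finite H] [AddCommGroup V] [Finite V]
    [DistribMulAction H V] [FaithfulSMul H V] (hV : Nat.card V = p ^ 2) (he : ∀ v : V, p • v = 0) :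
    Nat.card (ConjClasses H) + 3 ≤ p ^ 2 + p :=
  haveI := Fact.mk hp
  haveI : NeZero p := ⟨hp.ne_zero⟩
  @gl2' p _ H V _ _ _ _ (AddCommGroup.zmodModule he) _ _ hV

/-- The weight of a power of two. -/
def w2 (a : ℕ) : ℕ := if a ≤ 4 then 3 ^ a else 4 ^ a

/-- The weight of a module order. -/
def w (n : ℕ) : ℕ := w2 (padicValNat 2 n) * (n / 2 ^ padicValNat 2 n) ^ 2

theorem w_eq (a : ℕ) {m : ℕ} (hm : Odd m) : w (2 ^ a * m) = w2 a * m ^ 2 := by
  have : padicValNat 2 (2 ^ a * m) = a := by
    rw [padicValNat.mul (by positivity) hm.pos.ne', padicValNat.prime_pow,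
      padicValNat.eq_zero_of_not_dvd hm.not_two_dvd_nat, add_zero]
  rw [w, this, Nat.mul_div_cancel_left _ (by positivity)]

theorem w2_le (a : ℕ) : w2 a ≤ 4 ^ a := by
  unfold w2
  split_ifs
  · exact Nat.pow_le_pow_left (by norm_num) _
  · rfl

theorem w2_mul (a b : ℕ) : w2 a * w2 b ≤ w2 (a + b) := by
  by_cases h : a + b ≤ 4
  · simp only [w2, if_pos h, if_pos (show a ≤ 4 by omega), if_pos (show b ≤ 4 by omega), pow_add,
      le_rfl]
  · rw [w2, w2, w2, if_neg h, pow_add]
    exact Nat.mul_le_mul (w2_le a) (w2_le b)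

theorem w_mul {a b : ℕ} (ha : a ≠ 0) (hb : b ≠ 0) : w a * w b ≤ w (a * b) := by
  obtain ⟨i, m, hm, rfl⟩ := Nat.exists_eq_two_pow_mul_odd ha
  obtain ⟨j, n, hn, rfl⟩ := Nat.exists_eq_two_pow_mul_odd hb
  rw [show 2 ^ i * m * (2 ^ j * n) = 2 ^ (i + j) * (m * n) by ring, w_eq _ hm, w_eq _ hn,
    w_eq _ (hm.mul hn), mul_pow, mul_mul_mul_comm]
  exact Nat.mul_le_mul_right _ (w2_mul i j)

theorem w_le {a : ℕ} (ha : a ≠ 0) : w a ≤ a ^ 2 := by
  obtain ⟨i, m, hm, rfl⟩ := Nat.exists_eq_two_pow_mul_odd ha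
  rw [w_eq _ hm, mul_pow, ← pow_mul, mul_comm i, pow_mul]
  exact Nat.mul_le_mul_right _ (w2_le i)

theorem w_pow {a : ℕ} (ha : a ≠ 0) (t : ℕ) : w a ^ t ≤ w (a ^ t) := by
  induction t with
  | zero => simpa [w2] using (w_eq 0 odd_one).ge
  | succ t ih =>
    rw [pow_succ, pow_succ]
    exact (Nat.mul_le_mul_right _ ih).trans (w_mul (pow_ne_zero _ ha) ha)

theorem w_odd {m : ℕ} (hm : Odd m) : w m = m ^ 2 := by simpa [w2] using w_eq 0 hm

theorem w_two (a : ℕ) : w (2 ^ a) = w2 a := by simpa using w_eq a odd_one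

end Cfsg.Agent.CH.Kc
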