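import Cfsg.Agent.CH.Reg2

/-! A solvable group over a maximal abelian normal subgroup; asymmetric colourings. -/

set_option autoImplicit false

namespace Cfsg.Agent.CH.Reg

open Subgroup
open scoped commutatorElement

variable {G : Type*} [Group G]

theorem comm_pow_left {x y : G} (h : Commute x ⁅x, y⁆) (n : ℕ) : ⁅x ^ n, y⁆ = ⁅x, y⁆ ^ n := by
  have h1 : y * x⁻¹ * y⁻¹ = x⁻¹ * ⁅x, y⁆ := by rw [commutatorElement_def]; group
  calc ⁅x ^ n, y⁆ = x ^ n * (y * x⁻¹ * y⁻¹) ^ n := by
        rw [commutatorElement_def, conj_pow, inv_pow]; group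
    _ = _ := by rw [h1, h.inv_left.mul_pow, inv_pow, mul_inv_cancel_left]

theorem comm_pow_right {x y : G} (h : Commute y ⁅x, y⁆) (n : ℕ) : ⁅x, y ^ n⁆ = ⁅x, y⁆ ^ n := by
  rw [← commutatorElement_inv, comm_pow_left (by rw [← commutatorElement_inv]; exact h.inv_right),
    ← inv_pow, commutatorElement_inv]

/-- The Fitting subgroup `F` of the centralizer of a maximal abelian normal subgroup `U`. -/
structure St (U F : Subgroup G) : Prop where
  un : U.Normal
  fn : F.Normal
  le : U ≤ F
  cent : F ≤ centralizer (U : Set G)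
  self : centralizer (F : Set G) ≤ U
  comm : ∀ x ∈ F, ∀ y ∈ F, ⁅x, y⁆ ∈ U
  pow : ∀ r : ℕ, r.Prime → ∀ x ∈ F, ∀ j, x ^ r ^ j = 1 → x ^ r ∈ U

theorem exists_St [Finite G] [Group.IsSolvable G] : ∃ U F : Subgroup G, St U F := by
  obtain ⟨U, ⟨hU, hUc⟩, hmax⟩ :=
    (Set.toFinite {U : Subgroup G | U.Normal ∧ U ≤ centralizer (U : Set G)}).exists_maximal
      ⟨⊥, inferInstance, bot_le⟩
  set A := centralizer (U : Set G) with hA
  have hmax' : ∀ B : Subgroup G, B.Normal → B ≤ centralizer (B : Set G) → B ≤ A → B ≤ U := by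
    intro B hB h1 h2
    refine le_sup_right.trans (hmax (y := U ⊔ B) ⟨inferInstance, ?_⟩ le_sup_left)
    have h3 : U ⊔ B ≤ centralizer (B : Set G) := sup_le (le_centralizer_iff.1 h2) h1
    exact sup_le (le_centralizer_iff.1 (sup_le hUc h2)) (le_centralizer_iff.1 h3)
  set F := (fittingSubgroup A).map A.subtype with hF
  have hF' : F = fittingSubgroup G ⊓ A := Solv.map_subtype_fitting A
  haveI hFn : F.Normal := inferInstance
  have hFA : F ≤ A := map_subtype_le _
  haveI : IsMulCommutative U := ⟨⟨fun a b => Subtype.ext (hUc b.2 a a.2)⟩⟩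
  have hUF : U ≤ F := hF' ▸ le_inf Solv.le_fitting_of_isMulCommutative hUc
  have hself : centralizer (F : Set G) ≤ U := by
    have h1 : centralizer (F : Set G) ≤ A := centralizer_le hUF
    have h2 : centralizer (F : Set G) ≤ F :=
      (le_inf h1 le_rfl).trans (Solv.inf_centralizer_map_fitting_le A)
    exact hmax' _ inferInstance (centralizer_le h2) h1
  have hcomm : ⁅F, F⁆ ≤ U := by
    let π := QuotientGroup.mk' U
    haveI : Group.IsNilpotent F := Solv.isNilpotent_of_le_fitting (hF' ▸ inf_le_left)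
    haveI : Group.IsNilpotent (F.map π) :=
      Group.nilpotent_of_surjective (π.subgroupMap F) (π.subgroupMap_surjective F)
    haveI : (F.map π).Normal := hFn.map _ (QuotientGroup.mk'_surjective U)
    by_contra hne
    have h0 : (⁅F, F⁆).map π ≠ ⊥ := by
      rwa [Ne, Subgroup.map_eq_bot_iff, QuotientGroup.ker_mk']
    obtain ⟨M, ⟨hM, hM0, hMle⟩, hmin⟩ := (Set.toFinite {M : Subgroup (G ⧸ U) |
      M.Normal ∧ M ≠ ⊥ ∧ M ≤ (⁅F, F⁆).map π}).exists_minimal
      ⟨_, (inferInstance : (⁅F, F⁆).Normal).map _ (QuotientGroup.mk'_surjective U), h0, le_rfl⟩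
    have h1 : F.map π ≤ centralizer (M : Set _) := SolvStr.le_centralizer_minimal_normal
      fun K hK hKM => (em (K = ⊥)).imp id fun h => le_antisymm hKM (hmin ⟨hK, h, hKM.trans hMle⟩ hKM)
    set Y := M.comap π ⊓ ⁅F, F⁆ with hY
    have hFF : ⁅F, F⁆ ≤ F := commutator_le_left F F
    have h2 : ⁅Y, F⁆ ≤ U := by
      rw [commutator_le]
      intro y hy x hx
      rw [← QuotientGroup.eq_one_iff]
      change π ⁅y, x⁆ = 1
      rw [map_commutatorElement, commutatorElement_eq_one_iff_mul_comm]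
      exact h1 ⟨x, hx, rfl⟩ _ hy.1
    have h3 : ⁅⁅Y, F⁆, F⁆ = ⊥ := by
      rw [commutator_eq_bot_iff_le_centralizer]
      exact h2.trans (le_centralizer_iff.1 hFA)
    have h4 : ⁅⁅F, F⁆, Y⁆ = ⊥ :=
      commutator_commutator_eq_bot_of_rotate (by rwa [commutator_comm F Y]) h3
    rw [commutator_eq_bot_iff_le_centralizer] at h4
    have h5 := hmax' Y inferInstance (inf_le_right.trans h4) (inf_le_right.trans (hFF.trans hFA))
    apply hM0
    rw [eq_bot_iff]
    intro m hm
    obtain ⟨y, hy, rfl⟩ := hMle hm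
    exact (QuotientGroup.eq_one_iff y).2 (h5 ⟨hm, hy⟩)
  have hc : ∀ x ∈ F, ∀ y ∈ F, ⁅x, y⁆ ∈ U := fun x hx y hy =>
    hcomm (commutator_mem_commutator hx hy)
  refine ⟨U, F, hU, hFn, hUF, hFA, hself, hc, fun r hr x hx j hj => ?_⟩
  have hcm : ∀ x ∈ F, ∀ u ∈ U, Commute x u := fun x hx u hu => (hFA hx u hu).symm
  obtain ⟨k, n', hn', hk⟩ := Nat.exists_eq_pow_mul_and_not_dvd (Nat.card_pos (α := G)).ne' r hr.ne_one
  have step : ∀ k, (∀ x ∈ F, x ^ (r ^ (k + 2) * n') ∈ U) → ∀ x ∈ F, x ^ (r ^ (k + 1) * n') ∈ U := by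
    intro k h
    let s : Set G := {z | ∃ x ∈ F, x ^ (r ^ (k + 1) * n') = z}
    have hs : closure s ≤ F := (closure_le _).2 (by rintro _ ⟨x, hx, rfl⟩; exact F.pow_mem hx _)
    have h1 : closure s ≤ centralizer s := by
      refine (closure_le _).2 ?_
      rintro _ ⟨y, hy, rfl⟩ _ ⟨x, hx, rfl⟩
      rw [← commutatorElement_eq_one_iff_mul_comm,
        comm_pow_left (hcm _ hx _ (hc _ hx _ (F.pow_mem hy _))),
        comm_pow_right (hcm _ hy _ (hc _ hx _ hy)), ← pow_mul]
      have h2 : ⁅x, y⁆ ^ (r ^ (k + 2) * n') = 1 := by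
        rw [← comm_pow_left (hcm _ hx _ (hc _ hx _ hy)), commutatorElement_eq_one_iff_mul_comm]
        exact (hcm y hy _ (h x hx)).symm
      rw [show r ^ (k + 1) * n' * (r ^ (k + 1) * n') = r ^ (k + 2) * n' * (r ^ k * n') by ring,
        pow_mul, h2, one_pow]
    have hsn : (closure s).Normal := ⟨fun a ha g => by
      have : closure s ≤ (closure s).comap (MulAut.conj g).toMonoidHom := (closure_le _).2 (by
        rintro _ ⟨x, hx, rfl⟩
        exact subset_closure ⟨_, hFn.conj_mem x hx g, conj_pow⟩)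
      exact this ha⟩
    have h3 := hmax' (closure s) hsn (by rwa [centralizer_closure]) (hs.trans hFA)
    exact fun x hx => h3 (subset_closure ⟨x, hx, rfl⟩)
  have all : ∀ k, (∀ x ∈ F, x ^ (r ^ (k + 1) * n') ∈ U) → ∀ x ∈ F, x ^ (r * n') ∈ U := by
    intro k
    induction k with
    | zero => simp
    | succ k ih => exact fun h => ih (step k h)
  have h1 := all k (fun x _ => by
    rw [pow_succ, mul_right_comm, ← hk, pow_mul, pow_card_eq_one', one_pow]; exact U.one_mem) x hx
  have h2 : (x ^ r) ^ r ^ j = 1 := by rw [← pow_mul, mul_comm, pow_mul, hj, one_pow]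
  rw [pow_mul] at h1
  have h3 : (orderOf (x ^ r)).Coprime n' :=
    Nat.Coprime.coprime_dvd_left (orderOf_dvd_of_pow_eq_one h2)
      (((Nat.Prime.coprime_iff_not_dvd hr).2 hn').pow_left j)
  obtain ⟨m, hm⟩ := exists_pow_eq_self_of_coprime h3.symm
  rw [← hm]
  exact U.pow_mem h1 m

/-- An asymmetric colouring of a finite abelian group with four colours. -/
theorem exists_colouring (N : Type*) [CommGroup N] [Finite N] :
    ∃ col : N → Fin 4, ∀ τ : N →* N, Function.Injective τ →
      (∀ ω, ω ≠ 1 → col (τ ω) = col ω) → ∀ ω, τ ω = ω := by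
  classical
  haveI := Fintype.ofFinite N
  obtain ⟨S, hS, hmin⟩ := (Set.toFinite {S : Finset N | closure (S : Set N) = ⊤}).exists_minimal
    ⟨Finset.univ, by simp⟩
  let x : Fin S.card → N := fun i => S.equivFin.symm i
  have hxS : ∀ i, x i ∈ S := fun i => (S.equivFin.symm i).2
  have hinj : Function.Injective x := fun i j e => S.equivFin.symm.injective (Subtype.ext e)
  have hsurj : ∀ s ∈ S, ∃ i, x i = s := fun s hs => ⟨S.equivFin ⟨s, hs⟩, by simp [x]⟩
  let H : Fin S.card → Subgroup N := fun i => closure (S.erase (x i) : Set N)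
  have hin : ∀ {i j}, j ≠ i → x j ∈ H i := fun {i j} h =>
    subset_closure (Finset.mem_coe.2 (Finset.mem_erase.2 ⟨fun e => h (hinj e), hxS j⟩))
  have hout : ∀ i, x i ∉ H i := by
    intro i hi
    have h1 : H i = ⊤ := by
      rw [eq_top_iff, ← hS, closure_le]
      intro s hs
      obtain ⟨j, rfl⟩ := hsurj s hs
      by_cases e : j = i
      · exact e ▸ hi
      · exact hin e
    have := hmin h1 (Finset.erase_subset _ _) (hxS i)
    simp at this
  have hx1 : ∀ i, x i ≠ 1 := fun i e => hout i (e ▸ one_mem _)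
  let P0 : N → Prop := fun ω => ∃ i, i.val = 0 ∧ ω = x i
  let P1 : N → Prop := fun ω => ∃ i, ω = x i
  let P2 : N → Prop := fun ω => ∃ i j, j.val = i.val + 1 ∧ ω = x i * x j
  have h12 : ∀ ω, P2 ω → ¬ P1 ω := by
    rintro _ ⟨i, j, hij, rfl⟩ ⟨l, e⟩
    by_cases e1 : l = i
    · rw [e1, mul_eq_left] at e
      exact hx1 j e
    by_cases e2 : l = j
    · rw [e2, mul_eq_right] at e
      exact hx1 i e
    exact hout l (e ▸ mul_mem (hin (Ne.symm e1)) (hin (Ne.symm e2)))
  have h01 : ∀ ω, P0 ω → P1 ω := fun ω ⟨i, _, h⟩ => ⟨i, h⟩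
  refine ⟨fun ω => if P0 ω then 0 else if P1 ω then 1 else if P2 ω then 2 else 3,
    fun τ hτ hc => ?_⟩
  have q0 : ∀ ω, ω ≠ 1 → P0 ω → P0 (τ ω) := by
    intro ω h1 h
    have := hc ω h1
    simp only [if_pos h] at this
    split_ifs at this <;> first | assumption | exact absurd this (by decide)
  have q1 : ∀ ω, ω ≠ 1 → P1 ω → P1 (τ ω) := by
    intro ω h1 h
    have := hc ω h1
    simp only [if_pos h] at this
    split_ifs at this <;>
      first | assumption | exact h01 _ ‹_› | exact absurd this (by decide)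
  have q2 : ∀ ω, ω ≠ 1 → P2 ω → P2 (τ ω) := by
    intro ω h1 h
    have := hc ω h1
    simp only [if_pos h, if_neg (h12 ω h), if_neg fun h' => h12 ω h (h01 ω h')] at this
    split_ifs at this <;> first | assumption | exact absurd this (by decide)
  have key : ∀ l : ℕ, ∀ i : Fin S.card, i.val ≤ l → τ (x i) = x i := by
    intro l
    induction l with
    | zero =>
      intro i hi
      obtain ⟨j, hj, e⟩ := q0 _ (hx1 i) ⟨i, by omega, rfl⟩
      rw [e, show j = i from Fin.ext (by omega)]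
    | succ l ih =>
      intro i hi
      by_cases h : i.val ≤ l
      · exact ih i h
      let p : Fin S.card := ⟨l, by omega⟩
      have hp : p.val = l := rfl
      obtain ⟨j, hj⟩ := q1 _ (hx1 i) ⟨i, rfl⟩
      have hjl : l < j.val := by
        by_contra h'
        have := hinj (hτ (hj.trans (ih j (by omega)).symm))
        omega
      obtain ⟨a, b, hab, e⟩ := q2 (x p * x i) (fun e => hout i (by
        rw [eq_inv_of_mul_eq_one_right e]
        exact inv_mem (hin fun e => by rw [← e] at h; omega))) ⟨p, i, by omega, rfl⟩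
      rw [map_mul, ih p le_rfl, hj] at e
      by_cases e1 : a = p
      · rw [e1, mul_right_inj] at e
        rw [hj, e, show b = i from Fin.ext (by rw [e1] at hab; omega)]
      by_cases e2 : b = p
      · rw [e2, mul_comm, mul_left_inj] at e
        have := hinj e
        rw [e2] at hab
        omega
      exfalso
      apply hout p
      rw [eq_mul_inv_of_mul_eq e]
      exact mul_mem (mul_mem (hin e1) (hin e2)) (inv_mem (hin fun e => by rw [e] at hjl; omega))
  intro ω
  have : (⊤ : Subgroup N) ≤ τ.eqLocus (MonoidHom.id N) := by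
    rw [← hS, closure_le]
    intro s hs
    obtain ⟨j, rfl⟩ := hsurj s hs
    exact key _ j le_rfl
  exact this (mem_top ω)

end Cfsg.Agent.CH.Reg
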