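import Cfsg.Agent.CH.Reg4
import Cfsg.Agent.CH.Reg8
import Cfsg.Agent.PGrp.Basic
import Mathlib.FieldTheory.KummerExtension
import Mathlib.FieldTheory.Finite.Basic

/-! Eigenvectors of large abelian subgroups of a group of symplectic type. -/

set_option autoImplicit false

namespace Cfsg.Agent.CH.Reg

open Subgroup
open scoped commutatorElement

universe u

/-- `U` acts by the scalars `ι`, its centralizer linearly and `G` semilinearly. -/
structure Sc {G K : Type*} (V : Type*) [Group G] [AddCommGroup V] [DistribMulAction G V] [Field K]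
    [Module K V] (U : Subgroup G) (ι : G → K) : Prop where
  act : ∀ u ∈ U, ∀ v : V, u • v = ι u • v
  lin : ∀ g ∈ centralizer (U : Set G), ∀ (κ : K) (v : V), g • κ • v = κ • g • v
  semi : ∀ (g : G) (κ : K), ∃ κ' : K, ∀ v : V, g • κ • v = κ' • g • v

theorem exists_Sc {G : Type*} {V : Type u} [Group G] [AddCommGroup V] [DistribMulAction G V]
    [Finite V] [Nontrivial V] {N : Subgroup G} [N.Normal] [IsMulCommutative N]
    (h : ∀ κ ∈ KR V N, κ ≠ 0 → Function.Injective κ) :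
    ∃ (K : Type u) (_ : Field K) (_ : Finite K) (_ : Module K V) (ι : G → K), Sc V N ι := by
  classical
  haveI : Finite (AddMonoid.End V) := DFunLike.finite _
  letI : CommRing (KR V N) :=
    { (inferInstance : Ring (KR V N)) with mul_comm := fun a b => Subtype.ext (KR_comm a.2 b.2) }
  haveI : Nontrivial (KR V N) := by
    obtain ⟨v, hv⟩ := exists_ne (0 : V)
    exact ⟨1, 0, fun e => hv (congrArg (fun f : KR V N => (f : AddMonoid.End V) v) e)⟩
  haveI : NoZeroDivisors (KR V N) := ⟨fun {a b} e => by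
    by_cases ha : a = 0
    · exact Or.inl ha
    · right
      apply Subtype.ext
      ext v
      apply h a a.2 (fun e => ha (Subtype.ext e))
      rw [show ((0 : KR V N) : AddMonoid.End V) v = 0 from rfl, map_zero]
      exact congrArg (fun f : KR V N => (f : AddMonoid.End V) v) e⟩
  haveI : IsDomain (KR V N) := NoZeroDivisors.to_isDomain _
  letI : Field (KR V N) := (Finite.isField_of_domain (KR V N)).toField
  refine ⟨KR V N, inferInstance, inferInstance, inferInstanceAs (Module (KR V N) V),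
    fun g => if hg : g ∈ N then ⟨ρ V g, ρ_mem hg⟩ else 0, fun u hu v => ?_, fun g hg κ v => ?_,
    fun g κ => ⟨⟨cj g κ, cj_mem g κ.2⟩, fun v => ?_⟩⟩
  · simp only [dif_pos hu]; rfl
  · have := comm_of_cent (f := ρ V g) (fun x hx => by rw [← map_mul, ← map_mul, hg x hx]) κ.2
    exact (congrArg (fun f : AddMonoid.End V => f v) this).symm
  · change g • (κ : AddMonoid.End V) v = cj g (κ : AddMonoid.End V) (g • v)
    rw [cj_apply, inv_smul_smul]

/-- A submonoid of a finite group is a subgroup. -/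
def finSub {G : Type*} [Group G] [Finite G] (M : Submonoid G) : Subgroup G :=
  { M with
    inv_mem' := fun {x} hx => by
      have h : x⁻¹ = x ^ (orderOf x - 1) := by
        rw [inv_eq_iff_mul_eq_one, ← pow_succ', Nat.sub_add_cancel (orderOf_pos x),
          pow_orderOf_eq_one]
      rw [h]
      exact M.pow_mem hx _ }

theorem exists_rth {K : Type*} [Field K] [Finite K] {r : ℕ} (hr : r.Prime) {u w : K} (hu0 : u ≠ 0)
    (hw0 : w ≠ 0) (hu : ¬ ∃ l, l ^ r = u) : ∃ k < r, ∃ l, l ^ r = w * u ^ k := by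
  obtain ⟨γ, hγ⟩ := IsCyclic.exists_monoid_generator (α := Kˣ)
  obtain ⟨s, hs⟩ := hγ (Units.mk0 u hu0)
  obtain ⟨t, ht⟩ := hγ (Units.mk0 w hw0)
  have hs' : (γ : K) ^ s = u := by simpa using congrArg Units.val hs
  have ht' : (γ : K) ^ t = w := by simpa using congrArg Units.val ht
  have h1 : ¬ r ∣ s := by
    rintro ⟨c, rfl⟩
    exact hu ⟨γ ^ c, by rw [← hs', ← pow_mul, mul_comm]⟩
  haveI := Fact.mk hr
  have h2 : (s : ZMod r) ≠ 0 := by rwa [Ne, ZMod.natCast_eq_zero_iff]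
  obtain ⟨c, hc⟩ : r ∣ t + s * (-(t : ZMod r) / s).val := by
    rw [← ZMod.natCast_eq_zero_iff]
    push_cast
    rw [ZMod.natCast_zmod_val]
    field_simp
    ring
  exact ⟨_, ZMod.val_lt (-(t : ZMod r) / (s : ZMod r)), γ ^ c, by
    rw [← hs', ← ht', ← pow_mul, ← pow_mul, ← pow_add, hc, mul_comm]⟩

section

variable {G V K : Type*} [Group G] [AddCommGroup V] [DistribMulAction G V] [Field K] [Module K V]
  {U F : Subgroup G} {ι : G → K}

theorem St.cm (hS : St U F) {x u : G} (hx : x ∈ F) (hu : u ∈ U) : Commute u x := hS.cent hx u hu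

theorem St.cmc (hS : St U F) {x y z : G} (hx : x ∈ F) (hy : y ∈ F) (hz : z ∈ F) :
    Commute ⁅x, y⁆ z := hS.cm hz (hS.comm x hx y hy)

theorem St.pow_comm (hS : St U F) {x y : G} {r : ℕ} (hx : x ∈ F) (hy : y ∈ F) (h : x ^ r ∈ U) :
    ⁅x, y⁆ ^ r = 1 := by
  rw [← PGrp.commutator_pow_left (hS.cmc hx hy hx), commutatorElement_eq_one_iff_mul_comm]
  exact hS.cm hy h

theorem St.pow_comm' (hS : St U F) {x y : G} {r : ℕ} (hx : x ∈ F) (hy : y ∈ F) (h : y ^ r ∈ U) :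
    ⁅x, y⁆ ^ r = 1 := by
  rw [← commutatorElement_inv, inv_pow, hS.pow_comm hy hx h, inv_one]

theorem St.mul_pow (hS : St U F) {x y : G} (hx : x ∈ F) (hy : y ∈ F) (r : ℕ) :
    (x * y) ^ r = ⁅y, x⁆ ^ r.choose 2 * (x ^ r * y ^ r) :=
  PGrp.mul_pow_of_commute_commutator (hS.cmc hy hx hx) (hS.cmc hy hx hy) r

theorem St.mul_pow_mem (hS : St U F) {x y : G} {r : ℕ} (hx : x ∈ F) (hy : y ∈ F) (h1 : x ^ r ∈ U)
    (h2 : y ^ r ∈ U) : (x * y) ^ r ∈ U := by
  rw [hS.mul_pow hx hy]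
  exact U.mul_mem (U.pow_mem (hS.comm _ hy _ hx) _) (U.mul_mem h1 h2)

variable [Nontrivial V]

theorem Sc.ext (_ : Sc V U ι) {a b : K} (h : ∀ v : V, a • v = b • v) : a = b := by
  obtain ⟨v, hv⟩ := exists_ne (0 : V)
  exact smul_left_injective K hv (h v)

theorem Sc.one (hc : Sc V U ι) : ι 1 = 1 :=
  hc.ext fun v => by rw [← hc.act 1 U.one_mem, one_smul, one_smul]

theorem Sc.mul (hc : Sc V U ι) {a b : G} (ha : a ∈ U) (hb : b ∈ U) : ι (a * b) = ι a * ι b :=
  hc.ext fun v => by rw [← hc.act _ (U.mul_mem ha hb), mul_smul, mul_smul, hc.act a ha, hc.act b hb]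

theorem Sc.pow (hc : Sc V U ι) {a : G} (ha : a ∈ U) (n : ℕ) : ι (a ^ n) = ι a ^ n := by
  induction n with
  | zero => rw [pow_zero, pow_zero, hc.one]
  | succ n ih => rw [pow_succ, pow_succ, hc.mul (U.pow_mem ha n) ha, ih]

theorem Sc.ne_zero (hc : Sc V U ι) {a : G} (ha : a ∈ U) : ι a ≠ 0 := fun h => by
  have := hc.mul ha (U.inv_mem ha)
  rw [mul_inv_cancel, hc.one, h, zero_mul] at this
  exact one_ne_zero this

omit [Nontrivial V] in
theorem Sc.inj [FaithfulSMul G V] (hc : Sc V U ι) {a b : G} (ha : a ∈ U) (hb : b ∈ U)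
    (h : ι a = ι b) : a = b :=
  FaithfulSMul.eq_of_smul_eq_smul (α := V) fun v => by rw [hc.act a ha, hc.act b hb, h]

theorem Sc.eq_one [FaithfulSMul G V] (hc : Sc V U ι) {a : G} (ha : a ∈ U) {v : V} (hv : v ≠ 0)
    (h : a • v = v) : a = 1 := by
  refine hc.inj ha U.one_mem (smul_left_injective K hv ?_)
  simp only
  rw [← hc.act a ha, h, hc.one, one_smul]

/-- The character `y ↦ ι ⁅y, x⁆`. -/
def St.chi (hS : St U F) (hc : Sc V U ι) {Y : Subgroup G} (hY : Y ≤ F) {x : G} (hx : x ∈ F) :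
    Y →* K where
  toFun y := ι ⁅(y : G), x⁆
  map_one' := by simp [hc.one]
  map_mul' a b := by
    rw [coe_mul, PGrp.commutator_mul_left (hS.cmc (hY b.2) hx (hY a.2)),
      hc.mul (hS.comm _ (hY b.2) _ hx) (hS.comm _ (hY a.2) _ hx), mul_comm]

theorem St.chi_eq [FaithfulSMul G V] (hS : St U F) (hc : Sc V U ι) {Y : Subgroup G} (hY : Y ≤ F)
    {x x' : G} (hx : x ∈ F) (hx' : x' ∈ F) (h : hS.chi hc hY hx = hS.chi hc hY hx') :
    ∀ y ∈ Y, y * (x⁻¹ * x') = x⁻¹ * x' * y := by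
  intro y hy
  have h1 := DFunLike.congr_fun h ⟨y⁻¹, Y.inv_mem hy⟩
  have h2 : ⁅y⁻¹, x⁆ = ⁅y⁻¹, x'⁆ :=
    hc.inj (hS.comm _ (hY (Y.inv_mem hy)) _ hx) (hS.comm _ (hY (Y.inv_mem hy)) _ hx') h1
  simp only [commutatorElement_def, inv_inv, mul_assoc, mul_right_inj] at h2
  calc y * (x⁻¹ * x') = x⁻¹ * (x * (y * x⁻¹)) * x' := by group
    _ = _ := by rw [h2]; group

theorem St.pairing [Finite G] [FaithfulSMul G V] (hS : St U F) (hc : Sc V U ι)
    {X Y X0 Y0 : Subgroup G} (hX : X ≤ F) (hY : Y ≤ F)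
    (hX0 : ∀ x ∈ X, (∀ y ∈ Y, y * x = x * y) → x ∈ X0)
    (hY0 : ∀ y ∈ Y0, ∀ x ∈ X, y * x = x * y) : X0.relIndex X ≤ Y0.relIndex Y := by
  classical
  haveI : Fintype (X ⧸ X0.subgroupOf X) := Fintype.ofFinite _
  haveI : Fintype (Y ⧸ Y0.subgroupOf Y) := Fintype.ofFinite _
  have hχ : Function.Injective fun ω : X ⧸ X0.subgroupOf X => hS.chi hc hY (hX ω.out.2) := by
    intro a b e
    rw [← QuotientGroup.out_eq' a, ← QuotientGroup.out_eq' b, QuotientGroup.eq, mem_subgroupOf]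
    exact hX0 _ (a.out⁻¹ * b.out).2 (hS.chi_eq hc hY _ _ e)
  have hD := (linearIndependent_monoidHom Y K).comp _ hχ
  have hL : LinearIndependent K fun (ω : X ⧸ X0.subgroupOf X) (η : Y ⧸ Y0.subgroupOf Y) =>
      hS.chi hc hY (hX ω.out.2) η.out := by
    rw [Fintype.linearIndependent_iff] at hD ⊢
    intro c hc0
    refine hD c (funext fun y => ?_)
    have h1 := congrFun hc0 (y : Y ⧸ Y0.subgroupOf Y)
    simp only [Finset.sum_apply, Pi.smul_apply, Function.comp_apply, Pi.zero_apply] at h1 ⊢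
    rw [← h1]
    refine Finset.sum_congr rfl fun ω _ => ?_
    congr 1
    have h2 : y⁻¹ * (y : Y ⧸ Y0.subgroupOf Y).out ∈ Y0.subgroupOf Y :=
      QuotientGroup.eq.1 (QuotientGroup.out_eq' (y : Y ⧸ Y0.subgroupOf Y)).symm
    have h3 : hS.chi hc hY (hX ω.out.2) (y⁻¹ * (y : Y ⧸ Y0.subgroupOf Y).out) = 1 := by
      exact (congrArg ι (commutatorElement_eq_one_iff_mul_comm.2 (hY0 _ h2 _ ω.out.2))).trans hc.one
    rw [← mul_one (hS.chi hc hY (hX ω.out.2) y), ← h3, ← map_mul, mul_inv_cancel_left]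
  have := hL.fintype_card_le_finrank
  rwa [Module.finrank_fintype_fun_eq_card, ← Nat.card_eq_fintype_card,
    ← Nat.card_eq_fintype_card] at this

theorem St.double [Finite G] [FaithfulSMul G V] (hS : St U F) (hc : Sc V U ι) {D : Subgroup G}
    (hUD : U ≤ D) (hDF : D ≤ F) {c : G} (hcF : c ∈ F)
    (h : ∀ y ∈ F ⊓ centralizer (D : Set G), y * c = c * y) : c ∈ D := by
  set C := F ⊓ centralizer (D : Set G)
  set D' := F ⊓ centralizer (C : Set G)
  have h1 : C.relIndex F ≤ U.relIndex D := hS.pairing hc le_rfl hDF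
    (fun x hx h => ⟨hx, h⟩) fun y hy x hx => hS.cm hx hy
  have h2 : U.relIndex D' ≤ C.relIndex F := hS.pairing hc inf_le_left le_rfl
    (fun x _ h => hS.self h) fun y hy x hx => hx.2 y hy
  have h3 : D ≤ D' := le_inf hDF fun d hd y hy => (hy.2 d hd).symm
  have h4 := relIndex_mul_relIndex U D D' hUD h3
  have h5 : U.relIndex D ≠ 0 := index_ne_zero_of_finite
  have h6 : D.relIndex D' ≠ 0 := index_ne_zero_of_finite
  have h7 : D.relIndex D' = 1 := by
    by_contra h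
    have : 2 ≤ D.relIndex D' := by omega
    have := Nat.mul_le_mul_left (U.relIndex D) this
    omega
  exact relIndex_eq_one.1 h7 ⟨hcF, h⟩

variable (K F) in
/-- The elements of `F` having `v` as an eigenvector. -/
def Dv [Finite G] (hl : ∀ g ∈ F, ∀ (κ : K) (v : V), g • κ • v = κ • g • v) (v : V) : Subgroup G :=
  finSub
    { carrier := {x | x ∈ F ∧ ∃ κ : K, x • v = κ • v}
      mul_mem' := by
        rintro a b ⟨ha, κ, h1⟩ ⟨hb, κ', h2⟩
        exact ⟨F.mul_mem ha hb, κ' * κ, by rw [mul_smul, h2, hl a ha, h1, mul_smul]⟩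
      one_mem' := ⟨F.one_mem, 1, by rw [one_smul, one_smul]⟩ }

variable (K F) in
/-- The eigenspace containing `v`. -/
def Ev (hl : ∀ g ∈ F, ∀ (κ : K) (v : V), g • κ • v = κ • g • v) (v : V) : Submodule K V where
  carrier := {w | ∀ d ∈ F, ∀ κ : K, d • v = κ • v → d • w = κ • w}
  add_mem' := fun {a b} ha hb d hd κ h => by rw [smul_add, ha d hd κ h, hb d hd κ h, smul_add]
  zero_mem' := fun d _ κ _ => by rw [smul_zero, smul_zero]
  smul_mem' := fun c w hw d hd κ h => by rw [hl d hd, hw d hd κ h, smul_comm]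

variable [Finite G] [Finite V] [Finite K] [FaithfulSMul G V] (hS : St U F) (hc : Sc V U ι)
  (hl : ∀ g ∈ F, ∀ (κ : K) (v : V), g • κ • v = κ • g • v) {v : V} (hv : v ≠ 0)
  (hmax : ∀ w : V, w ≠ 0 → Dv K F hl v ≤ Dv K F hl w → Dv K F hl w ≤ Dv K F hl v)

omit [Nontrivial V] [Finite V] [Finite K] [FaithfulSMul G V] in
theorem mem_Dv {x : G} {v : V} : x ∈ Dv K F hl v ↔ x ∈ F ∧ ∃ κ : K, x • v = κ • v := Iff.rfl

omit [Nontrivial V] [Finite V] [Finite K] [FaithfulSMul G V] in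
theorem Dv_le_of_mem {v w : V} (h : w ∈ Ev K F hl v) : Dv K F hl v ≤ Dv K F hl w :=
  fun x ⟨hx, κ, e⟩ => ⟨hx, κ, h x hx κ e⟩

omit [Nontrivial V] [Finite V] [Finite K] [FaithfulSMul G V] in
include hS hc in
theorem le_Dv (v : V) : U ≤ Dv K F hl v := fun u hu => ⟨hS.le hu, ι u, hc.act u hu v⟩

omit [Nontrivial V] [Finite V] [Finite K] [FaithfulSMul G V] in
theorem smul_mem_Ev {v w : V} {c : G} (h : c ∈ F ⊓ centralizer (Dv K F hl v : Set G))
    (hw : w ∈ Ev K F hl v) : c • w ∈ Ev K F hl v := fun d hd κ e => by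
  rw [← mul_smul, h.2 d ⟨hd, κ, e⟩, mul_smul, hw d hd κ e, hl c h.1]

omit [Finite V] [Finite K] in
include hS hc hv in
theorem Dv_comm {a b : G} (ha : a ∈ Dv K F hl v) (hb : b ∈ Dv K F hl v) : a * b = b * a := by
  obtain ⟨ha, κ, h1⟩ := ha
  obtain ⟨hb, κ', h2⟩ := hb
  have h3 : ⁅a⁻¹, b⁻¹⁆ = 1 := by
    refine hc.eq_one (hS.comm _ (F.inv_mem ha) _ (F.inv_mem hb)) hv ?_
    rw [commutatorElement_def, inv_inv, inv_inv, mul_smul, mul_smul, mul_smul, inv_smul_eq_iff,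
      inv_smul_eq_iff, h1, h2, hl a ha, hl b hb, h1, h2, smul_comm]
  have := commutatorElement_eq_one_iff_mul_comm.1 h3
  rw [← mul_inv_rev, ← mul_inv_rev, inv_inj] at this
  exact this.symm

omit [Finite K] in
include hS hc hv hmax in
theorem mem_Dv_of_root {r : ℕ} (hr : r.Prime) {c : G}
    (hcC : c ∈ F ⊓ centralizer (Dv K F hl v : Set G)) (hcr : c ^ r ∈ U) {l : K}
    (hl' : l ^ r = ι (c ^ r)) : c ∈ Dv K F hl v := by
  by_contra hne
  obtain ⟨y, hy, hyc⟩ : ∃ y ∈ F ⊓ centralizer (Dv K F hl v : Set G), y * c ≠ c * y := by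
    by_contra h
    push Not at h
    exact hne (hS.double hc (le_Dv hS hc hl v) (fun x hx => hx.1) hcC.1 h)
  haveI := Fact.mk hr
  have hz := hS.comm _ hy.1 _ hcC.1
  have hζ : IsPrimitiveRoot (ι ⁅y, c⁆) r := by
    have : orderOf (ι ⁅y, c⁆) = r := orderOf_eq_prime
      (by rw [← hc.pow hz, hS.pow_comm' hy.1 hcC.1 hcr, hc.one])
      fun e => hyc (commutatorElement_eq_one_iff_mul_comm.1
        (hc.inj hz U.one_mem (e.trans hc.one.symm)))
    rw [← this]
    exact IsPrimitiveRoot.orderOf _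
  let f : Module.End K (Ev K F hl v) :=
    { toFun := fun w => ⟨c • (w : V), smul_mem_Ev hl hcC w.2⟩
      map_add' := fun a b => Subtype.ext (smul_add _ _ _)
      map_smul' := fun κ w => Subtype.ext (hl c hcC.1 κ w) }
  have hf : ∀ (n : ℕ) (w : Ev K F hl v), ((f ^ n) w : V) = c ^ n • (w : V) := by
    intro n
    induction n with
    | zero => intro w; simp
    | succ n ih => intro w; rw [pow_succ, pow_succ, Module.End.mul_apply, ih, mul_smul]; rfl
  haveI : Nontrivial (Ev K F hl v) := ⟨⟨⟨v, fun _ _ _ e => e⟩, 0, fun e => hv (congrArg Subtype.val e)⟩⟩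
  haveI : Module.Finite K (Ev K F hl v) := Module.Finite.of_finite
  have h1 : Polynomial.aeval f (Polynomial.X ^ r - Polynomial.C (ι (c ^ r))) = 0 := by
    ext w
    simp only [map_sub, map_pow, Polynomial.aeval_X, Polynomial.aeval_C, LinearMap.sub_apply,
      Module.algebraMap_end_apply, AddSubgroupClass.coe_sub, SetLike.val_smul, hf,
      LinearMap.zero_apply, ZeroMemClass.coe_zero]
    rw [hc.act _ hcr, sub_self]
  have h2 := (X_pow_sub_C_splits_of_isPrimitiveRoot hζ hl').of_dvd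
    (Polynomial.X_pow_sub_C_ne_zero hr.pos _) (minpoly.dvd K f h1)
  obtain ⟨μ, hμ⟩ := h2.exists_eval_eq_zero (minpoly.degree_pos (Algebra.IsIntegral.isIntegral f)).ne'
  obtain ⟨w, hw⟩ := (Module.End.hasEigenvalue_of_isRoot hμ).exists_hasEigenvector
  exact hne (hmax w (fun e => hw.2 (Subtype.ext e)) (Dv_le_of_mem hl w.2)
    ⟨hcC.1, μ, congrArg Subtype.val hw.apply_eq_smul⟩)

omit [Finite V] [Finite K] in
include hS hc in
theorem mem_Dv_of_comm {r : ℕ} (hr : r.Prime) {a : G}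
    (ha : a ∈ F) (har : a ^ r ∈ U)
    (h : ∀ b ∈ F ⊓ centralizer (Dv K F hl v : Set G), b ^ r ∈ U → b * a = a * b) :
    a ∈ Dv K F hl v := by
  refine hS.double hc (le_Dv hS hc hl v) (fun x hx => hx.1) ha fun y hy => ?_
  have : F ⊓ centralizer (Dv K F hl v : Set G) ≤ centralizer {a} := by
    refine Solv.le_of_forall_isPGroup_le fun s hs Q hQ hp b hb => ?_
    obtain ⟨j, hj⟩ := hp ⟨b, hb⟩
    have h1 := hS.pow s hs.out b (hQ hb).1 j (congrArg Subtype.val hj)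
    rw [mem_centralizer_singleton_iff]
    by_cases e : s = r
    · exact h b (hQ hb) (e ▸ h1)
    · rw [← commutatorElement_eq_one_iff_mul_comm, ← orderOf_eq_one_iff]
      exact Nat.eq_one_of_dvd_coprimes ((Nat.coprime_primes hs.out hr).2 e)
        (orderOf_dvd_of_pow_eq_one (hS.pow_comm (hQ hb).1 ha h1))
        (orderOf_dvd_of_pow_eq_one (hS.pow_comm' (hQ hb).1 ha har))
  exact mem_centralizer_singleton_iff.1 (this hy)

include hS hc hv hmax in
theorem mem_Dv_of_cyc {r : ℕ} (hr : r.Prime)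
    (hT : ∀ z ∈ U, z ^ r = 1 → ∃ l : K, l ^ r = ι (z ^ r.choose 2)) {a : G}
    (ha : a ∈ F ⊓ centralizer (Dv K F hl v : Set G)) (har : a ^ r ∈ U) : a ∈ Dv K F hl v := by
  by_cases h0 : ∃ l, l ^ r = ι (a ^ r)
  · obtain ⟨l, h0⟩ := h0
    exact mem_Dv_of_root hS hc hl hv hmax hr ha har h0
  refine mem_Dv_of_comm hS hc hl hr ha.1 har fun b hb hbr => ?_
  obtain ⟨k, -, l, hk⟩ := exists_rth hr (hc.ne_zero har) (hc.ne_zero hbr) h0
  have hak : (a ^ k) ^ r ∈ U := by rw [← pow_mul, mul_comm, pow_mul]; exact U.pow_mem har k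
  have hz := hS.comm _ (F.pow_mem ha.1 k) _ hb.1
  obtain ⟨l', hl'⟩ := hT _ hz (hS.pow_comm' (F.pow_mem ha.1 k) hb.1 hbr)
  have h1 : b * a ^ k ∈ Dv K F hl v :=
    mem_Dv_of_root hS hc hl hv hmax hr (mul_mem hb (pow_mem ha k))
      (hS.mul_pow_mem hb.1 (F.pow_mem ha.1 k) hbr hak) (l := l' * l) (by
        rw [hS.mul_pow hb.1 (F.pow_mem ha.1 k), hc.mul (U.pow_mem hz _) (U.mul_mem hbr hak),
          hc.mul hbr hak, mul_pow, hl', hk, ← pow_mul a k, mul_comm k, pow_mul, hc.pow har])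
  have h2 := ha.2 _ h1
  rw [mul_assoc, ← pow_succ, pow_succ', ← mul_assoc, ← mul_assoc] at h2
  exact mul_right_cancel h2

include hS hc hv hmax in
theorem mem_Dv_odd {r : ℕ} (hr : r.Prime) (h2 : r ≠ 2) {a : G}
    (ha : a ∈ F ⊓ centralizer (Dv K F hl v : Set G)) (har : a ^ r ∈ U) : a ∈ Dv K F hl v := by
  refine mem_Dv_of_cyc hS hc hl hv hmax hr (fun z _ h => ⟨1, ?_⟩) ha har
  obtain ⟨c, e⟩ := PGrp.dvd_choose_two hr h2
  rw [e, pow_mul, h, one_pow, one_pow, hc.one]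

omit [Finite G] [Finite V] [Finite K] [FaithfulSMul G V] in
include hc in
theorem iota_sq {z : G} (hz : z ∈ U) (h : z ^ 2 = 1) : ι z = 1 ∨ ι z = -1 := by
  rw [← mul_self_eq_one_iff, ← pow_two, ← hc.pow hz, h, hc.one]

include hS hc hv hmax in
/-- The quaternion case. -/
theorem quat {a : G} (ha : a ∈ F ⊓ centralizer (Dv K F hl v : Set G)) (ha2 : a ^ 2 ∈ U)
    (haD : a ∉ Dv K F hl v) :
    (¬ ∃ l : K, l ^ 2 = -1) ∧ ∃ b ∈ F ⊓ centralizer (Dv K F hl v : Set G), b ^ 2 ∈ U ∧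
      ι ⁅a, b⁆ = -1 ∧ ∀ c ∈ F ⊓ centralizer (Dv K F hl v : Set G), c ^ 2 ∈ U →
        c ∈ Dv K F hl v ∨ a * c ∈ Dv K F hl v ∨ b * c ∈ Dv K F hl v ∨
          a * (b * c) ∈ Dv K F hl v := by
  set D := Dv K F hl v with hD
  set C := F ⊓ centralizer (D : Set G) with hC
  have hm : ¬ ∃ l : K, l ^ 2 = -1 := by
    rintro ⟨l, e⟩
    refine haD (mem_Dv_of_cyc hS hc hl hv hmax Nat.prime_two (fun z hz h => ?_) ha ha2)
    rw [Nat.choose_self, pow_one]
    rcases iota_sq hc hz h with h | h <;> rw [h]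
    · exact ⟨1, one_pow 2⟩
    · exact ⟨l, e⟩
  obtain ⟨b, hb, hb2, hab⟩ : ∃ b ∈ C, b ^ 2 ∈ U ∧ b * a ≠ a * b := by
    by_contra h
    push Not at h
    exact haD (mem_Dv_of_comm hS hc hl Nat.prime_two ha.1 ha2 h)
  have aniso : ∀ x ∈ C, ∀ y ∈ C, x ^ 2 ∈ U → y ^ 2 ∈ U → x ∉ D → y ∉ D → x * y = y * x →
      x * y ∈ D := by
    intro x hx y hy hx2 hy2 h1 h2 e
    have n1 : ¬ ∃ l, l ^ 2 = ι (x ^ 2) := fun ⟨l, h⟩ =>
      h1 (mem_Dv_of_root hS hc hl hv hmax Nat.prime_two hx hx2 h)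
    obtain ⟨k, hk, l, h⟩ := exists_rth Nat.prime_two (hc.ne_zero hx2) (hc.ne_zero hy2) n1
    interval_cases k
    · rw [pow_zero, mul_one] at h
      exact absurd (mem_Dv_of_root hS hc hl hv hmax Nat.prime_two hy hy2 h) h2
    · refine mem_Dv_of_root hS hc hl hv hmax Nat.prime_two (mul_mem hx hy)
        (hS.mul_pow_mem hx.1 hy.1 hx2 hy2) (l := l) ?_
      rw [h, pow_one, Commute.mul_pow e, hc.mul hx2 hy2, mul_comm]
  have neg : ∀ x ∈ F, ∀ y ∈ F, x ^ 2 ∈ U → x * y ≠ y * x → ι ⁅x, y⁆ = -1 := fun x hx y hy h2 h =>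
    (iota_sq hc (hS.comm _ hx _ hy) (hS.pow_comm hx hy h2)).resolve_left fun e =>
      h (commutatorElement_eq_one_iff_mul_comm.1
        (hc.inj (hS.comm _ hx _ hy) U.one_mem (e.trans hc.one.symm)))
  have two : ∀ x ∈ F, ∀ y ∈ F, ∀ z ∈ F, x ^ 2 ∈ U → x * y ≠ y * x → x * z ≠ z * x →
      x * (y * z) = y * z * x := by
    intro x hx y hy z hz h2 h3 h4
    rw [← commutatorElement_eq_one_iff_mul_comm]
    refine hc.inj (hS.comm _ hx _ (F.mul_mem hy hz)) U.one_mem ?_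
    rw [PGrp.commutator_mul_right (hS.cmc hx hz hy), hc.mul (hS.comm _ hx _ hy) (hS.comm _ hx _ hz),
      neg x hx y hy h2 h3, neg x hx z hz h2 h4, hc.one]
    ring
  have hbD : b ∉ D := fun h => hab (ha.2 b h)
  have key : ∀ c ∈ C, c ^ 2 ∈ U → a * c = c * a → b * c = c * b → c ∈ D := by
    intro c hcC hc2 h1 h2
    by_contra h
    have h3 := D.mul_mem (aniso a ha c hcC ha2 hc2 haD h h1) (D.inv_mem (aniso b hb c hcC hb2 hc2 hbD h h2))
    have h4 := hb.2 _ h3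
    apply hab
    rw [mul_inv_rev, mul_assoc a c, mul_inv_cancel_left, inv_mul_cancel_right] at h4
    calc b * a = (b * (a * b⁻¹)) * b := by group
      _ = a * b := by rw [← h4]
  refine ⟨hm, b, hb, hb2, neg a ha.1 b hb.1 ha2 (Ne.symm hab), fun c hcC hc2 => ?_⟩
  by_cases h1 : a * c = c * a <;> by_cases h2 : b * c = c * b
  · exact Or.inl (key c hcC hc2 h1 h2)
  · refine Or.inr (Or.inl (key _ (mul_mem ha hcC) (hS.mul_pow_mem ha.1 hcC.1 ha2 hc2) ?_ ?_))
    · rw [mul_assoc, h1]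
    · exact two b hb.1 a ha.1 c hcC.1 hb2 hab h2
  · refine Or.inr (Or.inr (Or.inl (key _ (mul_mem hb hcC) (hS.mul_pow_mem hb.1 hcC.1 hb2 hc2) ?_ ?_)))
    · exact two a ha.1 b hb.1 c hcC.1 ha2 (Ne.symm hab) h1
    · rw [mul_assoc, h2]
  · have h3 := two a ha.1 b hb.1 c hcC.1 ha2 (Ne.symm hab) h1
    refine Or.inr (Or.inr (Or.inr (key _ (mul_mem ha (mul_mem hb hcC))
      (hS.mul_pow_mem ha.1 (F.mul_mem hb.1 hcC.1) ha2 (hS.mul_pow_mem hb.1 hcC.1 hb2 hc2)) ?_ ?_)))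
    · rw [mul_assoc, h3]
    · refine two b hb.1 a ha.1 _ (F.mul_mem hb.1 hcC.1) hb2 hab fun e => h2 ?_
      rw [mul_assoc] at e
      exact mul_left_cancel e

omit [Finite V] [Finite K] [Nontrivial V] [FaithfulSMul G V] in
theorem exists_max [Finite V] [Nontrivial V] : ∃ v : V, v ≠ 0 ∧
    ∀ w : V, w ≠ 0 → Dv K F hl v ≤ Dv K F hl w → Dv K F hl w ≤ Dv K F hl v := by
  obtain ⟨v, hv⟩ := exists_ne (0 : V)
  obtain ⟨v, hv, h⟩ := (Set.toFinite {v : V | v ≠ 0}).exists_maximalFor (Dv K F hl) _ ⟨v, hv⟩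
  exact ⟨v, hv, fun w hw e => h hw e⟩

include hS hc in
theorem exists_B0 : ∃ v : V, v ≠ 0 ∧ ∃ a ∈ F ⊓ centralizer (Dv K F hl v : Set G),
    ∀ c ∈ F ⊓ centralizer (Dv K F hl v : Set G), ∃ s t : K, c • v = s • v + t • a • v := by
  obtain ⟨v, hv, hmax⟩ := exists_max hl
  by_cases h : ∀ a ∈ F ⊓ centralizer (Dv K F hl v : Set G), a ^ 2 ∈ U → a ∈ Dv K F hl v
  · refine ⟨v, hv, 1, one_mem _, fun c hcC => ?_⟩
    have : F ⊓ centralizer (Dv K F hl v : Set G) ≤ Dv K F hl v := by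
      refine Solv.le_of_forall_isPGroup_le fun s hs Q hQ hp b hb => ?_
      obtain ⟨j, hj⟩ := hp ⟨b, hb⟩
      have h1 := hS.pow s hs.out b (hQ hb).1 j (congrArg Subtype.val hj)
      by_cases e : s = 2
      · exact h b (hQ hb) (e ▸ h1)
      · exact mem_Dv_odd hS hc hl hv hmax hs.out e (hQ hb) h1
    obtain ⟨-, κ, e⟩ := this hcC
    exact ⟨κ, 0, by rw [e, zero_smul, add_zero]⟩
  push Not at h
  obtain ⟨a, ha, ha2, haD⟩ := h
  obtain ⟨hm, b, hb, hb2, hab, hall⟩ := quat hS hc hl hv hmax ha ha2 haD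
  haveI := Fintype.ofFinite K
  have hchar : ringChar K ≠ 2 := fun e => hm ⟨1, by
    haveI : CharP K 2 := ringChar.of_eq e
    rw [one_pow, CharTwo.neg_eq]⟩
  obtain ⟨s, t, hst⟩ := FiniteField.exists_root_sum_quadratic
    (f := Polynomial.C (ι (a ^ 2)) * Polynomial.X ^ 2)
    (g := Polynomial.C (ι (b ^ 2)) * Polynomial.X ^ 2 - Polynomial.C 1)
    (Polynomial.degree_C_mul_X_pow 2 (hc.ne_zero ha2))
    (by rw [Polynomial.degree_sub_C (by
      rw [Polynomial.degree_C_mul_X_pow 2 (hc.ne_zero hb2)]; norm_num),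
      Polynomial.degree_C_mul_X_pow 2 (hc.ne_zero hb2)]; rfl)
    (FiniteField.odd_card_of_char_ne_two hchar)
  simp only [Polynomial.eval_mul, Polynomial.eval_C, Polynomial.eval_pow, Polynomial.eval_X,
    Polynomial.eval_sub] at hst
  have ht : t ≠ 0 := by
    rintro rfl
    have hs : s ≠ 0 := by rintro rfl; simp at hst
    refine haD (mem_Dv_of_root hS hc hl hv hmax Nat.prime_two ha ha2 (l := s⁻¹) ?_)
    field_simp
    linear_combination -hst
  have aa : ∀ w : V, a • a • w = ι (a ^ 2) • w := fun w => by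
    rw [← mul_smul, ← pow_two, hc.act _ ha2]
  have bb : ∀ w : V, b • b • w = ι (b ^ 2) • w := fun w => by
    rw [← mul_smul, ← pow_two, hc.act _ hb2]
  have ab : ∀ w : V, a • b • w = -(b • a • w) := fun w => by
    rw [← mul_smul, PGrp.mul_eq_commutator_mul b a, mul_smul, hc.act _ (hS.comm _ ha.1 _ hb.1), hab,
      mul_smul, neg_one_smul]
  obtain ⟨w, hw0, hwE, ε, hw⟩ : ∃ w : V, w ≠ 0 ∧ w ∈ Ev K F hl v ∧ ∃ ε : K,
      s • a • w + t • b • w = ε • w := by
    have hvE : v ∈ Ev K F hl v := fun _ _ _ e => e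
    by_cases e : v + (s • a • v + t • b • v) = 0
    · exact ⟨v, hv, hvE, -1, by rw [neg_one_smul]; exact eq_neg_of_add_eq_zero_right e⟩
    · refine ⟨_, e, add_mem hvE (add_mem (Submodule.smul_mem _ _ (smul_mem_Ev hl ha hvE))
        (Submodule.smul_mem _ _ (smul_mem_Ev hl hb hvE))), 1, ?_⟩
      simp only [smul_add, hl a ha.1, hl b hb.1, aa, bb, ab]
      generalize b • a • v = z
      generalize a • v = x
      generalize b • v = y
      linear_combination (norm := module) hst • v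
  have hDw : Dv K F hl w = Dv K F hl v :=
    le_antisymm (hmax w hw0 (Dv_le_of_mem hl hwE)) (Dv_le_of_mem hl hwE)
  refine ⟨w, hw0, a, hDw ▸ ha, ?_⟩
  rw [hDw]
  let H : Subgroup G := finSub
    { carrier := {x | x ∈ F ∧ ∀ s t : K, ∃ s' t' : K, x • (s • w + t • a • w) = s' • w + t' • a • w}
      mul_mem' := by
        rintro x y ⟨hx, h1⟩ ⟨hy, h2⟩
        refine ⟨F.mul_mem hx hy, fun s t => ?_⟩
        obtain ⟨s', t', e⟩ := h2 s t
        rw [mul_smul, e]
        exact h1 s' t'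
      one_mem' := ⟨F.one_mem, fun s t => ⟨s, t, one_smul _ _⟩⟩ }
  have hDH : Dv K F hl v ≤ H := by
    intro d hd
    obtain ⟨hdF, κ, e⟩ := hDw ▸ hd
    refine ⟨hdF, fun s t => ⟨s * κ, t * κ, ?_⟩⟩
    rw [smul_add, hl d hdF, hl d hdF, ← mul_smul d a, ha.2 d hd, mul_smul a, e, hl a ha.1,
      mul_smul, mul_smul]
  have haH : a ∈ H := ⟨ha.1, fun s t => ⟨t * ι (a ^ 2), s, by
    rw [smul_add, hl a ha.1, hl a ha.1, aa]; generalize a • w = x; module⟩⟩
  have hbw : b • w = (t⁻¹ * ε) • w + (-(t⁻¹ * s)) • a • w := by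
    have : b • w = t⁻¹ • t • b • w := by rw [smul_smul, inv_mul_cancel₀ ht, one_smul]
    rw [this]
    generalize a • w = x at hw ⊢
    generalize b • w = y at hw ⊢
    linear_combination (norm := module) t⁻¹ • hw
  have hbH : b ∈ H := ⟨hb.1, fun s' t' => ⟨s' * (t⁻¹ * ε) + t' * (t⁻¹ * s) * ι (a ^ 2),
    -(s' * (t⁻¹ * s)) - t' * (t⁻¹ * ε), by
      have h1 : b • a • w = -(a • b • w) := by rw [ab, neg_neg]
      rw [smul_add, hl b hb.1, hl b hb.1, h1, hbw, smul_add a, hl a ha.1, hl a ha.1, aa]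
      generalize a • w = x
      module⟩⟩
  have hCH : F ⊓ centralizer (Dv K F hl v : Set G) ≤ H := by
    refine Solv.le_of_forall_isPGroup_le fun r hr Q hQ hp c hcQ => ?_
    obtain ⟨j, hj⟩ := hp ⟨c, hcQ⟩
    have h1 := hS.pow r hr.out c (hQ hcQ).1 j (congrArg Subtype.val hj)
    by_cases e : r = 2
    · rcases hall c (hQ hcQ) (e ▸ h1) with h | h | h | h
      · exact hDH h
      · exact (H.mul_mem_cancel_left haH).1 (hDH h)
      · exact (H.mul_mem_cancel_left hbH).1 (hDH h)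
      · exact (H.mul_mem_cancel_left hbH).1 ((H.mul_mem_cancel_left haH).1 (hDH h))
    · exact hDH (mem_Dv_odd hS hc hl hv hmax hr.out e (hQ hcQ) h1)
  intro c hcC
  simpa using (hCH hcC).2 1 0

end

end Cfsg.Agent.CH.Reg
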