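import Cfsg.Agent.CH.Reg7
import Cfsg.Agent.CH.Reg9

/-! Solvable completely reducible linear groups have a base of size three. -/

set_option autoImplicit false

namespace Cfsg.Agent.CH.Reg

open Subgroup
open scoped commutatorElement

universe u

section

variable {G V K : Type*} [Group G] [AddCommGroup V] [DistribMulAction G V] [Field K] [Module K V]
  {U F : Subgroup G} {ι : G → K} [Nontrivial V] [Finite G] [FaithfulSMul G V]
  (hS : St U F) (hc : Sc V U ι)
  (hl : ∀ g ∈ F, ∀ (κ : K) (v : V), g • κ • v = κ • g • v) {v : V} (hv : v ≠ 0)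

include hS hc hv in
theorem indep {Ω : Type*} [Fintype Ω] (x : Ω → G) (hx : ∀ ω, x ω ∈ F)
    (hinj : ∀ ω η, (x ω)⁻¹ * x η ∈ F ⊓ centralizer (Dv K F hl v : Set G) → ω = η)
    (w : Ω → V) (hw : ∀ ω, w ω ∈ Ev K F hl v) (h : ∑ ω, x ω • w ω = 0) (ω : Ω) : w ω = 0 := by
  have hDF : Dv K F hl v ≤ F := fun x hx => hx.1
  have hχ : Function.Injective fun ω => hS.chi hc hDF (hx ω) := fun a b e =>
    hinj a b ⟨F.mul_mem (F.inv_mem (hx a)) (hx b), hS.chi_eq hc hDF _ _ e⟩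
  have hD := (linearIndependent_monoidHom (Dv K F hl v) K).comp _ hχ
  rw [Fintype.linearIndependent_iff] at hD
  rw [← smul_eq_zero_iff_eq (x ω), ← Module.forall_dual_apply_eq_zero_iff K]
  intro φ
  refine hD (fun ω => φ (x ω • w ω)) ?_ ω
  ext ⟨d, hd, κ, e⟩
  have hκ : κ ≠ 0 := by
    rintro rfl
    rw [zero_smul, smul_eq_zero_iff_eq] at e
    exact hv e
  have h1 := congrArg (fun z => φ (d • z)) h
  simp only [Finset.smul_sum, map_sum, smul_zero, map_zero] at h1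
  simp only [Finset.sum_apply, Pi.smul_apply, Function.comp_apply, Pi.zero_apply]
  refine mul_left_cancel₀ hκ ?_
  rw [mul_zero, ← h1, Finset.mul_sum]
  refine Finset.sum_congr rfl fun ω _ => ?_
  rw [← mul_smul d, PGrp.mul_eq_commutator_mul (x ω) d, mul_smul, hc.act _ (hS.comm _ hd _ (hx ω)),
    mul_smul, hw ω d hd κ e, hl _ (hx ω), φ.map_smul, φ.map_smul, smul_eq_mul, smul_eq_mul, smul_eq_mul]
  change _ * (_ * ι ⁅d, x ω⁆) = _
  ring

omit [Nontrivial V] [FaithfulSMul G V] in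
include hS hc in
theorem conj_mem_Dv {g d : G} (hg : g • v = v) (hd : d ∈ Dv K F hl v) :
    g * d * g⁻¹ ∈ Dv K F hl v := by
  obtain ⟨hd, κ, e⟩ := hd
  obtain ⟨κ', h⟩ := hc.semi g κ
  exact ⟨hS.fn.conj_mem d hd g, κ', by
    rw [mul_smul, inv_smul_eq_iff.2 hg.symm, mul_smul, e, h, hg]⟩

omit [Nontrivial V] [FaithfulSMul G V] in
include hS hc in
theorem conj_mem_C {g c : G} (hg : g • v = v) (h : c ∈ F ⊓ centralizer (Dv K F hl v : Set G)) :
    g * c * g⁻¹ ∈ F ⊓ centralizer (Dv K F hl v : Set G) := by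
  refine ⟨hS.fn.conj_mem c h.1 g, fun d hd => ?_⟩
  have := h.2 _ (conj_mem_Dv hS hc hl (inv_smul_eq_iff.2 hg.symm) hd)
  calc d * (g * c * g⁻¹) = g * (g⁻¹ * d * g⁻¹⁻¹ * c) * g⁻¹ := by group
    _ = _ := by rw [this]; group

omit [Nontrivial V] [FaithfulSMul G V] [Finite G] in
include hS hc in
theorem fix_mem_Ev {g : G} (hg : g • v = v) {w : V} (hw : w ∈ Ev K F hl v) :
    g • w ∈ Ev K F hl v := by
  intro d hd κ e
  obtain ⟨κ', h⟩ := hc.semi g⁻¹ κ
  have h1 := hw (g⁻¹ * d * g⁻¹⁻¹) (hS.fn.conj_mem d hd g⁻¹) κ' (by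
    rw [inv_inv, mul_smul, hg, mul_smul, e, h, inv_smul_eq_iff.2 hg.symm])
  rw [inv_inv, mul_smul, mul_smul, inv_smul_eq_iff] at h1
  rw [h1, ← inv_smul_smul g w, ← h, smul_inv_smul, smul_inv_smul]

include hS hc hv in
theorem prim3 [Finite K] {a : G} (ha : a ∈ F ⊓ centralizer (Dv K F hl v : Set G))
    (hall : ∀ c ∈ F ⊓ centralizer (Dv K F hl v : Set G), ∃ s t : K, c • v = s • v + t • a • v) :
    ∃ x : Fin 3 → V, ∀ g : G, (∀ i, g • x i = x i) → g = 1 := by
  classical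
  set C := F ⊓ centralizer (Dv K F hl v : Set G) with hC
  haveI := hS.fn
  haveI := hS.un
  haveI : IsCyclic U := isCyclic_of_injective_ringHom
    ({ toFun := fun u => ι u, map_one' := hc.one, map_mul' := fun a b => hc.mul a.2 b.2 } : U →* K)
    fun a b e => Subtype.ext (hc.inj a.2 b.2 e)
  obtain ⟨⟨u, hu⟩, hgen⟩ := IsCyclic.exists_generator (α := U)
  have hgen' : ∀ y ∈ U, ∃ k : ℤ, y = u ^ k := fun y hy => by
    obtain ⟨k, hk⟩ := hgen ⟨y, hy⟩
    exact ⟨k, (congrArg Subtype.val hk).symm⟩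
  by_cases hu1 : u = 1
  · have h1 : ∀ y ∈ U, y = 1 := fun y hy => by
      obtain ⟨k, rfl⟩ := hgen' y hy
      rw [hu1, one_zpow]
    have h2 : ∀ y ∈ F, y = 1 := fun y hy => h1 y (hS.self fun z hz =>
      commutatorElement_eq_one_iff_mul_comm.1 (h1 _ (hS.comm z hz y hy)))
    exact ⟨0, fun g _ => h1 g (hS.self fun z hz => by rw [h2 z hz, one_mul, mul_one])⟩
  have hUC : U ≤ C := fun y hy => ⟨hS.le hy, fun d hd => (hS.cm hd.1 hy).eq.symm⟩
  haveI hCn : (C.subgroupOf F).Normal := ⟨fun c h y => by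
    rw [mem_subgroupOf] at h ⊢
    have : ((y * c * y⁻¹ : F) : G) = ⁅(y : G), (c : G)⁆ * c := by
      simp [commutatorElement_def]
    rw [this]
    exact C.mul_mem (hUC (hS.comm _ y.2 _ c.2)) h⟩
  letI : CommGroup (F ⧸ C.subgroupOf F) :=
    { (inferInstance : Group (F ⧸ C.subgroupOf F)) with
      mul_comm := fun a b => by
        obtain ⟨a, rfl⟩ := QuotientGroup.mk_surjective a
        obtain ⟨b, rfl⟩ := QuotientGroup.mk_surjective b
        rw [← QuotientGroup.mk_mul, ← QuotientGroup.mk_mul, QuotientGroup.eq, mem_subgroupOf]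
        have := hUC (hS.comm _ (F.inv_mem b.2) _ (F.inv_mem a.2))
        simpa [commutatorElement_def, mul_assoc] using this }
  haveI : Fintype (F ⧸ C.subgroupOf F) := Fintype.ofFinite _
  obtain ⟨col, hcol⟩ := exists_colouring (F ⧸ C.subgroupOf F)
  obtain ⟨r, hr, hr1⟩ : ∃ r : F ⧸ C.subgroupOf F → F, (∀ ω, (r ω : F ⧸ C.subgroupOf F) = ω) ∧
      r 1 = 1 := by
    refine ⟨fun ω => if ω = 1 then 1 else ω.out, fun ω => ?_, if_pos rfl⟩
    beta_reduce
    split_ifs with h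
    · rw [h]; rfl
    · exact QuotientGroup.out_eq' ω
  have hvE : v ∈ Ev K F hl v := fun _ _ _ e => e
  let α : Fin 4 → K := ![1, 0, 1, 1]
  let β : Fin 4 → K := ![0, 1, 1, ι u]
  have hl0 : ι u ≠ 0 := hc.ne_zero hu
  have hl1 : ι u ≠ 1 := fun e => hu1 (hc.inj hu U.one_mem (e.trans hc.one.symm))
  have hαβ : ∀ i j, α i * β j = α j * β i → i = j := by
    intro i j
    fin_cases i <;> fin_cases j <;> simp [α, β, hl0, hl1, hl0.symm, hl1.symm]
  have hα0 : ∀ i, α i ≠ 0 ∨ β i ≠ 0 := by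
    intro i
    fin_cases i <;> simp [α, β]
  let w₂ : F ⧸ C.subgroupOf F → V := fun ω => if ω = 1 then u • v else α (col ω) • v
  let w₃ : F ⧸ C.subgroupOf F → V := fun ω => if ω = 1 then a • v else β (col ω) • v
  have hw₂ : ∀ ω, w₂ ω ∈ Ev K F hl v := fun ω => by
    simp only [w₂]
    split_ifs
    · exact smul_mem_Ev hl (hUC hu) hvE
    · exact Submodule.smul_mem _ _ hvE
  have hw₃ : ∀ ω, w₃ ω ∈ Ev K F hl v := fun ω => by
    simp only [w₃]
    split_ifs
    · exact smul_mem_Ev hl ha hvE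
    · exact Submodule.smul_mem _ _ hvE
  refine ⟨![v, ∑ ω, (r ω : G) • w₂ ω, ∑ ω, (r ω : G) • w₃ ω], fun g hg => ?_⟩
  have hgv : g • v = v := hg 0
  have hgv' : g⁻¹ • v = v := inv_smul_eq_iff.2 hgv.symm
  let τ : F ⧸ C.subgroupOf F →* F ⧸ C.subgroupOf F :=
    QuotientGroup.map _ _ (MulAut.conjNormal g : MulAut F).toMonoidHom fun c h =>
      conj_mem_C hS hc hl hgv h
  have hτ : ∀ y : F, τ y = (MulAut.conjNormal g y : F) := fun y => rfl
  have hτi : Function.Injective τ := by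
    rw [injective_iff_map_eq_one]
    intro ω h
    obtain ⟨y, rfl⟩ := QuotientGroup.mk_surjective ω
    rw [hτ, QuotientGroup.eq_one_iff, mem_subgroupOf, MulAut.conjNormal_apply] at h
    rw [QuotientGroup.eq_one_iff, mem_subgroupOf]
    have := conj_mem_C hS hc hl hgv' h
    rwa [show g⁻¹ * (g * y * g⁻¹) * g⁻¹⁻¹ = y by group] at this
  have blocks : ∀ w : F ⧸ C.subgroupOf F → V, (∀ ω, w ω ∈ Ev K F hl v) →
      g • ∑ ω, (r ω : G) • w ω = ∑ ω, (r ω : G) • w ω →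
      ∀ ω, g • (r ω : G) • w ω = (r (τ ω) : G) • w (τ ω) := by
    intro w hw h ω
    have hcω : ∀ ω, (r (τ ω) : G)⁻¹ * (g * r ω * g⁻¹) ∈ C := fun ω => by
      have : (r (τ ω) : F ⧸ C.subgroupOf F) = (MulAut.conjNormal g (r ω) : F) := by
        rw [hr, ← hτ, hr]
      exact mem_subgroupOf.1 (QuotientGroup.eq.1 this)
    have := indep hS hc hl hv (fun ω => (r (τ ω) : G)) (fun ω => (r (τ ω)).2)
      (fun ω η e => hτi (by
        rw [← hr (τ ω), ← hr (τ η)]
        exact QuotientGroup.eq.2 e))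
      (fun ω => ((r (τ ω) : G)⁻¹ * (g * r ω * g⁻¹)) • g • w ω - w (τ ω))
      (fun ω => sub_mem (smul_mem_Ev hl (hcω ω) (fix_mem_Ev hS hc hl hgv (hw ω))) (hw _))
      (by
        simp only [smul_sub, Finset.sum_sub_distrib, mul_smul, smul_inv_smul, inv_smul_smul]
        rw [← Finset.smul_sum, h, sub_eq_zero]
        exact (Fintype.sum_bijective τ (Finite.injective_iff_bijective.1 hτi) _ _
          fun _ => rfl).symm) ω
    rw [sub_eq_zero, mul_smul, inv_smul_eq_iff, mul_smul, mul_smul, inv_smul_smul] at this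
    exact this
  have b2 := blocks w₂ hw₂ (hg 1)
  have b3 := blocks w₃ hw₃ (hg 2)
  have hgu : g • u • v = u • v := by simpa [hr1, w₂] using b2 1
  have hga : g • a • v = a • v := by simpa [hr1, w₃] using b3 1
  have hgU : g ∈ centralizer (U : Set G) := by
    have h3 := hc.eq_one (U.mul_mem (U.inv_mem hu) (hS.un.conj_mem u hu g)) hv
      (by rw [mul_smul, mul_smul, hgv', mul_smul, hgu, inv_smul_smul])
    rw [inv_mul_eq_one, eq_mul_inv_iff_mul_eq] at h3
    intro y hy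
    obtain ⟨k, rfl⟩ := hgen' y hy
    exact (Commute.zpow_left h3 k).eq
  have hlin := hc.lin g hgU
  have hgC : ∀ c ∈ C, g • c • v = c • v := fun c h => by
    obtain ⟨s, t, e⟩ := hall c h
    rw [e, smul_add, hlin, hlin, hgv, hga]
  have key : ∀ ω, ω ≠ 1 → col (τ ω) = col ω ∧ g • (r ω : G) • v = (r (τ ω) : G) • v := by
    intro ω h1
    have h2 : τ ω ≠ 1 := fun e => h1 (hτi (e.trans (map_one τ).symm))
    have e2 := b2 ω
    have e3 := b3 ω
    simp only [w₂, w₃, if_neg h1, if_neg h2, hl _ (r _).2, hlin] at e2 e3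
    have hX : g • (r ω : G) • v ≠ 0 := by simpa [smul_eq_zero_iff_eq] using hv
    have h3 : col (τ ω) = col ω := hαβ _ _ (smul_left_injective K hX (by
      simp only
      rw [mul_smul, e3, mul_comm, mul_smul, e2, smul_comm]))
    refine ⟨h3, ?_⟩
    rw [h3] at e2 e3
    rcases hα0 (col ω) with h | h
    · exact smul_right_injective V h e2
    · exact smul_right_injective V h e3
  have hid := hcol τ hτi fun ω h => (key ω h).1
  have hgr : ∀ ω, g • (r ω : G) • v = (r ω : G) • v := fun ω => by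
    by_cases h : ω = 1
    · rw [h, hr1, OneMemClass.coe_one, one_smul, hgv]
    · rw [(key ω h).2, hid]
  have hgF : ∀ y ∈ F, g • y • v = y • v := by
    intro y hy
    set z : G := (r ((⟨y, hy⟩ : F) : F ⧸ C.subgroupOf F)).1 with hz
    have hzF : z ∈ F := (r _).2
    have h1 : z⁻¹ * y ∈ C :=
      mem_subgroupOf.1 (QuotientGroup.eq.1 (hr ((⟨y, hy⟩ : F) : F ⧸ C.subgroupOf F)))
    have h2 : (z⁻¹ * (g * z * g⁻¹)) • v = v := by
      rw [mul_smul, mul_smul, hgv', mul_smul, hgr, inv_smul_smul]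
    have h3 := h1.2 (z⁻¹ * (g * z * g⁻¹))
      ⟨F.mul_mem (F.inv_mem hzF) (hS.fn.conj_mem z hzF g), 1, by rw [h2, one_smul]⟩
    calc g • y • v = (z * (z⁻¹ * (g * z * g⁻¹))) • g • (z⁻¹ * y) • v := by
          simp only [← mul_smul]; congr 1; group
      _ = (z * (z⁻¹ * (g * z * g⁻¹) * (z⁻¹ * y))) • v := by
          rw [hgC _ h1]; simp only [← mul_smul, mul_assoc]
      _ = y • v := by rw [h3, mul_smul, mul_smul, h2, ← mul_smul, mul_inv_cancel_left]
  refine hc.eq_one (hS.self fun y hy => ?_) hv hgv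
  have hδ := F.mul_mem (F.inv_mem hy) (hS.fn.conj_mem y hy g)
  have h1 : ∀ z ∈ F, (y⁻¹ * (g * y * g⁻¹)) • z • v = z • v := fun z hz => by
    rw [mul_smul, mul_smul, inv_smul_eq_iff.2 (hgF z hz).symm, mul_smul, ← mul_smul y,
      hgF _ (F.mul_mem hy hz), mul_smul, inv_smul_smul]
  have h2 : (y⁻¹ * (g * y * g⁻¹)) • v = v := by simpa using h1 1 F.one_mem
  have h3 := hc.eq_one (a := y⁻¹ * (g * y * g⁻¹)) (hS.self fun z hz => by
    have := hc.eq_one (hS.comm _ (F.inv_mem hz) _ hδ) hv (by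
      rw [commutatorElement_def, inv_inv, mul_smul, inv_smul_eq_iff.2 h2.symm, mul_smul, mul_smul,
        h1 z hz, inv_smul_smul])
    exact (Commute.inv_left_iff.1 (commutatorElement_eq_one_iff_mul_comm.1 this)).eq) hv h2
  rwa [inv_mul_eq_one, eq_mul_inv_iff_mul_eq] at h3

end

theorem step3 {n : ℕ} (hn : FI3.{u} n) : FI3.{u} (n + 1) := by
  intro G V _ _ _ _ _ _ hc hG hI
  have hc' : Nat.card G ≤ n := by omega
  rcases subsingleton_or_nontrivial V with hV | hV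
  · exact ⟨0, fun a _ => FaithfulSMul.eq_of_smul_eq_smul (α := V) fun _ => Subsingleton.elim _ _⟩
  obtain ⟨U, F, hS⟩ := exists_St (G := G)
  haveI := hS.un
  haveI : IsMulCommutative U := ⟨⟨fun a b => Subtype.ext (hS.cm (hS.le b.2) a.2).eq⟩⟩
  by_cases hblock : ∃ κ ∈ KR V U, κ ≠ 0 ∧ ¬ Function.Injective κ
  · obtain ⟨κ, h1, h2, h3⟩ := hblock
    obtain ⟨H, e, a1, a2, a3, a4, a5⟩ := exists_block hI h1 h2 h3
    exact imprim3 hn hc' hI a1 e a2 a3 a4 a5
  obtain ⟨K, _, _, _, ι, hι⟩ := exists_Sc (V := V) (N := U) fun κ h3 h4 =>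
    by_contra fun h5 => hblock ⟨κ, h3, h4, h5⟩
  obtain ⟨v, hv, a, ha, hall⟩ := exists_B0 hS hι fun g hg => hι.lin g (hS.cent hg)
  exact prim3 hS hι _ hv ha hall

theorem fi3 (n : ℕ) : FI3.{u} n := by
  induction n with
  | zero => intro G V _ _ _ _ _ _ hc; exact absurd hc (Nat.not_lt_zero _)
  | succ n ih => exact step3 ih

/-- Solvable groups acting completely reducibly have a base of size three. -/
theorem base_three {G : Type*} {V : Type u} [Group G] [Finite G] [AddCommGroup V] [Finite V]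
    [DistribMulAction G V] (hG : Group.IsSolvable G)
    (hcr : ∀ U : AddSubgroup V, Inv G U → ∃ W : AddSubgroup V, Inv G W ∧ U ⊓ W = ⊥ ∧ U ⊔ W = ⊤) :
    ∃ x : Fin 3 → V, ∀ a : G, (∀ i, a • x i = x i) → ∀ y : V, a • y = y := by
  refine gen3 (fi3 (Nat.card G + 1)) (Nat.lt_succ_self _) hG fun U hU hne => ?_
  obtain ⟨W, hW, h1, h2⟩ := hcr U hU
  have hW0 : W ≠ ⊥ := by rintro rfl; exact hne (by simpa using h2)
  obtain ⟨M, ⟨hM, hM0, hMW⟩, hmin⟩ :=
    (Set.toFinite {M : AddSubgroup V | Inv G M ∧ M ≠ ⊥ ∧ M ≤ W}).exists_minimal ⟨W, hW, hW0, le_rfl⟩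
  refine ⟨M, ⟨hM, fun X hX hXM => (em (X = ⊥)).imp id fun h =>
    le_antisymm hXM (hmin ⟨hX, h, hXM.trans hMW⟩ hXM)⟩, fun h => hM0 ?_⟩
  rw [eq_bot_iff, ← h1]
  exact le_inf h hMW

end Cfsg.Agent.CH.Reg
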