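import Cfsg.Agent.CH.Kc1
import Cfsg.Agent.CH.Reg10

/-! Class numbers of solvable linear groups: reductions and the primitive step. -/

set_option autoImplicit false

namespace Cfsg.Agent.CH.Kc

open Subgroup Reg
open scoped IsMulCommutative commutatorElement

/-- The kernel of an action. -/
abbrev aK (G V : Type) [Group G] [MulAction G V] : Subgroup G := (MulAction.toPermHom G V).ker

theorem mem_aK {G V : Type} [Group G] [MulAction G V] {g : G} : g ∈ aK G V ↔ ∀ v : V, g • v = v :=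
  ⟨fun h v => congrArg (fun f : Equiv.Perm V => f v) h, fun h => Equiv.ext h⟩

/-- The inductive statement for finite modules. -/
def LL (n : ℕ) : Prop :=
  ∀ (G V : Type) [Group G] [Finite G] [AddCommGroup V] [Finite V] [Nontrivial V]
    [DistribMulAction G V] [FaithfulSMul G V], Nat.card G < n → Group.IsSolvable G → Irr G V →
    ∃ b, Bd (⊥ : Subgroup G) b ∧ 3 * b ≤ w (Nat.card V)

/-- The action of the image. -/
@[reducible] def rangeAct (G V : Type) [Group G] [AddCommGroup V] [DistribMulAction G V] :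
    DistribMulAction (MulAction.toPermHom G V).range V :=
  { (inferInstance : MulAction (MulAction.toPermHom G V).range V) with
    smul_zero := by rintro ⟨_, a, rfl⟩; exact smul_zero a
    smul_add := by rintro ⟨_, a, rfl⟩ x y; exact smul_add a x y }

theorem bd_aK {G V : Type} [Group G] [MulAction G V] {b : ℕ}
    (h : Bd (⊥ : Subgroup (MulAction.toPermHom G V).range) b) : Bd (aK G V) b :=
  (h.comap (MulAction.toPermHom G V).rangeRestrict).mono
    (fun _ hg => congrArg Subtype.val (mem_bot.1 hg)) le_rfl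

section
variable {n : ℕ} (hn : LL n) {G V : Type} [Group G] [Finite G] [Group.IsSolvable G]
  [AddCommGroup V] [Finite V] [DistribMulAction G V]
include hn

theorem irr_nf [Nontrivial V] (hc : (aK G V).index < n) (hI : Irr G V) :
    ∃ b, Bd (aK G V) b ∧ 3 * b ≤ w (Nat.card V) := by
  letI := rangeAct G V
  let f := MulAction.toPermHom G V
  haveI : Finite f.range := Finite.of_surjective _ f.rangeRestrict_surjective
  obtain ⟨b, h, hb⟩ := hn f.range V (by rwa [index_ker] at hc)
    (Group.isSolvable_of_surjective f.rangeRestrict_surjective)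
    (fun U hU => hI U fun a x hx => hU ⟨f a, a, rfl⟩ x hx)
  exact ⟨b, bd_aK h, hb⟩

omit hn [Finite G] [Group.IsSolvable G] [Finite V] in
theorem fix_normal {M : AddSubgroup V} (h : Inv G M) : (fixingSubgroup G (M : Set V)).Normal :=
  ⟨fun a ha g => (mem_fixingSubgroup_iff G).2 fun y hy => by
    rw [mul_smul, mul_smul, (mem_fixingSubgroup_iff G).1 ha _ (h g⁻¹ y hy), smul_inv_smul]⟩

theorem min_nf (hc : Nat.card G < n) {M : AddSubgroup V} (hM : MinInv G M) (h0 : M ≠ ⊥) :
    ∃ b, @Bd _ _ _ (fix_normal hM.1) b ∧ 3 * b ≤ w (Nat.card M) := by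
  letI := subAct G M hM.1
  haveI := (AddSubgroup.nontrivial_iff_ne_bot M).2 h0
  haveI := fix_normal hM.1
  obtain ⟨b, h, hb⟩ := irr_nf hn (V := M)
    ((Nat.le_of_dvd Nat.card_pos (index_dvd_card _)).trans_lt hc) (irr_sub hM)
  exact ⟨b, h.mono (fun g hg => (mem_fixingSubgroup_iff G).2 fun y hy =>
    congrArg Subtype.val (mem_aK.1 hg ⟨y, hy⟩)) le_rfl, hb⟩

theorem gen [Nontrivial V] (hc : Nat.card G < n)
    (hS : ∀ U : AddSubgroup V, Inv G U → U ≠ ⊤ → ∃ M, MinInv G M ∧ ¬ M ≤ U) :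
    ∃ b, Bd (aK G V) b ∧ 3 * b ≤ w (Nat.card V) := by
  let S : Set (AddSubgroup V) := {U | ∃ h : Inv G U, ∃ b, @Bd _ _ _ (fix_normal h) b ∧
    ((U = ⊥ ∧ b = 1) ∨ 3 * b ≤ w (Nat.card U))}
  have h0 : (⊥ : AddSubgroup V) ∈ S := by
    have h : Inv G (⊥ : AddSubgroup V) := fun a v hv => by
      rw [AddSubgroup.mem_bot] at hv ⊢; rw [hv, smul_zero]
    haveI := fix_normal h
    refine ⟨h, 1, (bd_index ⊤).mono (fun g _ => (mem_fixingSubgroup_iff G).2 fun y hy => ?_)
      (by simp), Or.inl ⟨rfl, rfl⟩⟩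
    rw [SetLike.mem_coe, AddSubgroup.mem_bot] at hy
    rw [hy, smul_zero]
  obtain ⟨U, ⟨hU, b, h, hb⟩, hmax⟩ := (Set.toFinite S).exists_maximal ⟨_, h0⟩
  haveI := fix_normal hU
  by_cases ht : U = ⊤
  · subst ht
    refine ⟨b, h.mono (fun g hg => mem_aK.2 fun v => (mem_fixingSubgroup_iff G).1 hg v trivial)
      le_rfl, ?_⟩
    rcases hb with ⟨h1, -⟩ | hb
    · exact absurd h1 top_ne_bot
    · rwa [AddSubgroup.card_top] at hb
  exfalso
  obtain ⟨M, hM, hMU⟩ := hS U hU ht
  obtain ⟨b', h', hb'⟩ := min_nf hn hc hM (by rintro rfl; exact hMU bot_le)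
  haveI := fix_normal hM.1
  have hbot : U ⊓ M = ⊥ := by
    rcases hM.2 (U ⊓ M) (fun a x hx => ⟨hU a x hx.1, hM.1 a x hx.2⟩) inf_le_right with h1 | h1
    · exact h1
    · exact absurd (h1 ▸ inf_le_left) hMU
  have hcard : Nat.card (U ⊔ M : AddSubgroup V) = Nat.card U * Nat.card M := by
    rw [← Nat.card_prod]
    refine (Nat.card_eq_of_bijective (fun p : U × M =>
      (⟨p.1 + p.2, AddSubgroup.add_mem_sup p.1.2 p.2.2⟩ : (U ⊔ M : AddSubgroup V)))
      ⟨fun p q e => ?_, fun x => ?_⟩).symm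
    · have e1 : (p.1 : V) + p.2 = q.1 + q.2 := congrArg Subtype.val e
      have h1 : (p.1 : V) - q.1 ∈ U ⊓ M := ⟨U.sub_mem p.1.2 q.1.2, by
        rw [show (p.1 : V) - q.1 = q.2 - p.2 by rw [sub_eq_sub_iff_add_eq_add, e1, add_comm]]
        exact M.sub_mem q.2.2 p.2.2⟩
      rw [hbot, AddSubgroup.mem_bot, sub_eq_zero] at h1
      rw [h1] at e1
      exact Prod.ext (Subtype.ext h1) (Subtype.ext (add_left_cancel e1))
    · obtain ⟨y, hy, z, hz, e⟩ := AddSubgroup.mem_sup.1 x.2
      exact ⟨(⟨y, hy⟩, ⟨z, hz⟩), Subtype.ext e⟩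
  have hinv : Inv G (U ⊔ M) := fun a x hx => by
    obtain ⟨y, hy, z, hz, rfl⟩ := AddSubgroup.mem_sup.1 hx
    rw [smul_add]
    exact AddSubgroup.add_mem_sup (hU a y hy) (hM.1 a z hz)
  haveI := fix_normal hinv
  have hmem : U ⊔ M ∈ S := by
    refine ⟨hinv, b * b', (h.inf h').mono (fun g hg => (mem_fixingSubgroup_iff G).2 fun x hx => ?_)
      le_rfl, Or.inr ?_⟩
    · obtain ⟨y, hy, z, hz, rfl⟩ := AddSubgroup.mem_sup.1 hx
      rw [smul_add, (mem_fixingSubgroup_iff G).1 hg.1 y hy, (mem_fixingSubgroup_iff G).1 hg.2 z hz]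
    · rw [hcard]
      rcases hb with ⟨rfl, rfl⟩ | hb
      · simpa using hb'
      · refine le_trans ?_ ((Nat.mul_le_mul hb hb').trans (w_mul Nat.card_pos.ne' Nat.card_pos.ne'))
        nlinarith [Nat.zero_le (b * b')]
  exact hMU (le_sup_right.trans (hmax hmem le_sup_left))

end

theorem gl2_nf {p : ℕ} (hp : p.Prime) {G V : Type} [Group G] [Finite G] [AddCommGroup V] [Finite V]
    [DistribMulAction G V] (hV : Nat.card V = p ^ 2) (he : ∀ v : V, p • v = 0) :
    Bd (aK G V) (p ^ 2 + p - 3) := by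
  letI := rangeAct G V
  let f := MulAction.toPermHom G V
  haveI : Finite f.range := Finite.of_surjective _ f.rangeRestrict_surjective
  exact bd_aK (bd_bot fun H => Nat.le_sub_of_add_le (gl2 hp (H := H) hV he))

theorem cr_conj {H : Type} [Group H] (N : Subgroup H) [hN : N.Normal] [IsMulCommutative N]
    (hS : ∀ X : Subgroup H, X ≤ N → X.Normal → X ≠ N → ∃ M : Subgroup H, M ≤ N ∧ M.Normal ∧
      (∀ W : Subgroup H, W ≤ M → W.Normal → W = ⊥ ∨ W = M) ∧ ¬ M ≤ X) :
    letI := conjAct N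
    ∀ U : AddSubgroup (Additive N), Inv H U → U ≠ ⊤ → ∃ M, MinInv H M ∧ ¬ M ≤ U := by
  letI := conjAct N
  let up : AddSubgroup (Additive N) → Subgroup H := fun U =>
    (AddSubgroup.toSubgroup' U).map N.subtype
  let dn : Subgroup H → AddSubgroup (Additive N) := fun U =>
    Subgroup.toAddSubgroup (U.subgroupOf N)
  have mem_up : ∀ U (x : H), x ∈ up U ↔ ∃ h : x ∈ N, Additive.ofMul (⟨x, h⟩ : N) ∈ U := by
    intro U x
    constructor
    · rintro ⟨y, hy, rfl⟩
      exact ⟨y.2, hy⟩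
    · rintro ⟨h, hx⟩
      exact ⟨⟨x, h⟩, hx, rfl⟩
  have inv_up : ∀ U, Inv H U → (up U).Normal := fun U hU => ⟨fun u hu k => by
    obtain ⟨h, hu⟩ := (mem_up U u).1 hu
    exact (mem_up U _).2 ⟨hN.conj_mem u h k, hU k _ hu⟩⟩
  intro U hU hne
  obtain ⟨M, hMN, hMi, hMm, hMU⟩ := hS (up U) (map_subtype_le _) (inv_up U hU) (by
    intro e
    apply hne
    rw [eq_top_iff]
    intro x _
    have : (x.toMul : H) ∈ up U := by rw [e]; exact x.toMul.2
    exact ((mem_up U _).1 this).2)
  refine ⟨dn M, ⟨fun k x hx => hMi.conj_mem _ hx k, fun W hW hWM => ?_⟩, fun hle => hMU ?_⟩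
  · rcases hMm (up W) (fun x hx => by
      obtain ⟨h, hx⟩ := (mem_up W x).1 hx
      exact hWM hx) (inv_up W hW) with e | e
    · left
      rw [eq_bot_iff]
      intro x hx
      have : (x.toMul : H) ∈ up W := (mem_up W _).2 ⟨x.toMul.2, hx⟩
      rw [e, Subgroup.mem_bot] at this
      rw [AddSubgroup.mem_bot]
      apply Additive.toMul.injective
      exact Subtype.ext this
    · right
      refine le_antisymm hWM fun x hx => ?_
      have : (x.toMul : H) ∈ up W := by rw [e]; exact hx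
      exact ((mem_up W _).1 this).2
  · intro x hx
    exact (mem_up U x).2 ⟨hMN hx, hle hx⟩

theorem mem_aK_conj {H : Type} [Group H] (N : Subgroup H) [hN : N.Normal] [IsMulCommutative N]
    {g : H} : letI := conjAct N; g ∈ aK H (Additive N) ↔ g ∈ centralizer (N : Set H) := by
  letI := conjAct N
  rw [mem_aK]
  refine ⟨fun h y hy => ?_, fun h v => Additive.toMul.injective (Subtype.ext ?_)⟩
  · have : g * y * g⁻¹ = y :=
      congrArg (fun z : Additive N => (z.toMul : H)) (h (Additive.ofMul ⟨y, hy⟩))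
    rw [mul_inv_eq_iff_eq_mul] at this
    exact this.symm
  · change g * (v.toMul : H) * g⁻¹ = v.toMul
    rw [← h _ v.toMul.2, mul_inv_cancel_right]

theorem card_le_index {G : Type} [Group G] [Finite G] {A H : Subgroup G} (h : A ⊓ H = ⊥) :
    Nat.card A ≤ H.index := by
  rw [← relIndex_bot_left, ← h, inf_relIndex_left]
  exact (relIndex_le_of_le_right le_top (by
    rw [relIndex_top_right]; exact index_ne_zero_of_finite)).trans_eq (relIndex_top_right H)

theorem cube_le (t : ℕ) : t ^ 3 ≤ 3 ^ t := by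
  induction t with
  | zero => simp
  | succ t ih =>
    by_cases h : t ≤ 2
    · interval_cases t <;> norm_num
    · have : 3 ≤ t := by omega
      rw [pow_succ 3]
      nlinarith [Nat.mul_le_mul this (Nat.mul_le_mul this (le_refl t)),
        Nat.mul_le_mul this (le_refl (t * t)), Nat.mul_le_mul this this]

theorem primperm {n : ℕ} (hn : LL n) {G : Type} [Group G] [Finite G] [Group.IsSolvable G]
    (hc : Nat.card G ≤ n) {H : Subgroup G} (hH : IsCoatom H) :
    Bd H.normalCore (3 ^ (H.index - 1)) := by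
  let π := QuotientGroup.mk' H.normalCore
  have hd : Nat.card (G ⧸ H.normalCore) ∣ Nat.card G := Subgroup.card_quotient_dvd_card _
  have hH' := SolvStr.isCoatom_map_mk' hH H.normalCore_le
  obtain ⟨N, _, _, hN0, hinf, hcent, -, hirr⟩ := exists_min_normal hH' (normalCore_map_eq_bot H)
  letI := conjAct N
  haveI := (nontrivial_iff_ne_bot N).2 hN0
  have hidx : (H.map π).index = H.index := SolvStr.index_map_mk' H.normalCore_le
  have hk : aK (G ⧸ H.normalCore) (Additive N) = centralizer (N : Set _) :=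
    Subgroup.ext fun _ => mem_aK_conj N
  have hNc : N ≤ centralizer (N : Set _) := le_centralizer N
  obtain ⟨b, h, hb⟩ := irr_nf hn (G := G ⧸ H.normalCore) (V := Additive N) (by
    refine lt_of_lt_of_le ?_ ((Nat.le_of_dvd Nat.card_pos hd).trans hc)
    rw [hk, ← (centralizer (N : Set _)).card_mul_index]
    exact lt_mul_of_one_lt_left (Nat.pos_of_ne_zero index_ne_zero_of_finite)
      ((one_lt_card_iff_ne_bot _).2 fun e => hN0 (eq_bot_iff.2 (e ▸ hNc))))
    fun U hU => irr_conj hirr U fun a => hU a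
  have h1 := h.rel (N := ⊥) (bd_index _)
  refine (h1.comap π).mono (fun g hg => (QuotientGroup.eq_one_iff g).1 hg) ?_
  rw [bot_subgroupOf, index_bot, hk]
  have h2 := (card_le_index hcent).trans_eq hidx
  have h3 := (card_le_index hinf).trans_eq hidx
  have h4 := hb.trans ((w_le Nat.card_pos.ne').trans (Nat.pow_le_pow_left h3 2))
  have h5 := cube_le H.index
  obtain ⟨t, ht⟩ : ∃ t, H.index = t + 1 := Nat.exists_eq_succ_of_ne_zero index_ne_zero_of_finite
  rw [ht] at h2 h4 h5 ⊢
  rw [pow_succ 3] at h5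
  rw [Nat.add_sub_cancel]
  nlinarith [Nat.mul_le_mul h4 h2]

theorem exists_St2 {G : Type} [Group G] [Finite G] [Group.IsSolvable G] :
    ∃ U F : Subgroup G, F ≤ fittingSubgroup G ∧
      (∀ B : Subgroup G, B.Normal → B ≤ centralizer (B : Set G) → B ≤ centralizer (U : Set G) →
        B ≤ U) ∧
      (∀ a ∈ centralizer (U : Set G), (∀ x ∈ F, ⁅a, x⁆ ∈ U) → a ∈ F) ∧ St U F := by
  obtain ⟨U, ⟨hU, hUc⟩, hmax⟩ :=
    (Set.toFinite {U : Subgroup G | U.Normal ∧ U ≤ centralizer (U : Set G)}).exists_maximal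
      ⟨⊥, inferInstance, bot_le⟩
  set A := centralizer (U : Set G) with hA
  have hmax' : ∀ B : Subgroup G, B.Normal → B ≤ centralizer (B : Set G) → B ≤ A → B ≤ U := by
    intro B hB h1 h2
    refine le_sup_right.trans (hmax (y := U ⊔ B) ⟨inferInstance, ?_⟩ le_sup_left)
    have h3 : U ⊔ B ≤ centralizer (B : Set G) := sup_le (le_centralizer_iff.1 h2) h1
    exact sup_le (le_centralizer_iff.1 (sup_le hUc h2)) (le_centralizer_iff.1 h3)
  set F := (fittingSubgroup A).map A.subtype with hF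
  have hF' : F = fittingSubgroup G ⊓ A := Solv.map_subtype_fitting A
  haveI hFn : F.Normal := inferInstance
  have hFA : F ≤ A := map_subtype_le _
  haveI : IsMulCommutative U := ⟨⟨fun a b => Subtype.ext (hUc b.2 a a.2)⟩⟩
  have hUF : U ≤ F := hF' ▸ le_inf Solv.le_fitting_of_isMulCommutative hUc
  have hself : centralizer (F : Set G) ≤ U := by
    have h1 : centralizer (F : Set G) ≤ A := centralizer_le hUF
    have h2 : centralizer (F : Set G) ≤ F :=
      (le_inf h1 le_rfl).trans (Solv.inf_centralizer_map_fitting_le A)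
    exact hmax' _ inferInstance (centralizer_le h2) h1
  have hcomm : ⁅F, F⁆ ≤ U := by
    let π := QuotientGroup.mk' U
    haveI : Group.IsNilpotent F := Solv.isNilpotent_of_le_fitting (hF' ▸ inf_le_left)
    haveI : Group.IsNilpotent (F.map π) :=
      Group.nilpotent_of_surjective (π.subgroupMap F) (π.subgroupMap_surjective F)
    haveI : (F.map π).Normal := hFn.map _ (QuotientGroup.mk'_surjective U)
    by_contra hne
    have h0 : (⁅F, F⁆).map π ≠ ⊥ := by
      rwa [Ne, Subgroup.map_eq_bot_iff, QuotientGroup.ker_mk']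
    obtain ⟨M, ⟨hM, hM0, hMle⟩, hmin⟩ := (Set.toFinite {M : Subgroup (G ⧸ U) |
      M.Normal ∧ M ≠ ⊥ ∧ M ≤ (⁅F, F⁆).map π}).exists_minimal
      ⟨_, (inferInstance : (⁅F, F⁆).Normal).map _ (QuotientGroup.mk'_surjective U), h0, le_rfl⟩
    have h1 : F.map π ≤ centralizer (M : Set _) := SolvStr.le_centralizer_minimal_normal
      fun K hK hKM => (em (K = ⊥)).imp id fun h => le_antisymm hKM (hmin ⟨hK, h, hKM.trans hMle⟩ hKM)
    set Y := M.comap π ⊓ ⁅F, F⁆ with hY
    have hFF : ⁅F, F⁆ ≤ F := commutator_le_left F F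
    have h2 : ⁅Y, F⁆ ≤ U := by
      rw [commutator_le]
      intro y hy x hx
      rw [← QuotientGroup.eq_one_iff]
      change π ⁅y, x⁆ = 1
      rw [map_commutatorElement, commutatorElement_eq_one_iff_mul_comm]
      exact h1 ⟨x, hx, rfl⟩ _ hy.1
    have h3 : ⁅⁅Y, F⁆, F⁆ = ⊥ := by
      rw [commutator_eq_bot_iff_le_centralizer]
      exact h2.trans (le_centralizer_iff.1 hFA)
    have h4 : ⁅⁅F, F⁆, Y⁆ = ⊥ :=
      commutator_commutator_eq_bot_of_rotate (by rwa [commutator_comm F Y]) h3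
    rw [commutator_eq_bot_iff_le_centralizer] at h4
    have h5 := hmax' Y inferInstance (inf_le_right.trans h4) (inf_le_right.trans (hFF.trans hFA))
    apply hM0
    rw [eq_bot_iff]
    intro m hm
    obtain ⟨y, hy, rfl⟩ := hMle hm
    exact (QuotientGroup.eq_one_iff y).2 (h5 ⟨hm, hy⟩)
  have hc : ∀ x ∈ F, ∀ y ∈ F, ⁅x, y⁆ ∈ U := fun x hx y hy =>
    hcomm (commutator_mem_commutator hx hy)
  refine ⟨U, F, hF' ▸ inf_le_left, hmax', fun a ha h => ?_, hU, hFn, hUF, hFA, hself, hc,
    fun r hr x hx j hj => ?_⟩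
  · let π := QuotientGroup.mk' U
    haveI : (F.map π).Normal := hFn.map _ (QuotientGroup.mk'_surjective U)
    set B := A ⊓ (centralizer (F.map π : Set (G ⧸ U))).comap π with hB
    have h1 : ⁅B, F⁆ ≤ U := by
      rw [commutator_le]
      intro y hy x hx
      rw [← QuotientGroup.eq_one_iff]
      change π ⁅y, x⁆ = 1
      rw [map_commutatorElement, commutatorElement_eq_one_iff_mul_comm]
      exact (hy.2 _ ⟨x, hx, rfl⟩).symm
    have h2 : U ≤ centralizer (B : Set G) := le_centralizer_iff.1 inf_le_left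
    have h3 : ⁅⁅B, F⁆, B⁆ = ⊥ := by
      rw [commutator_eq_bot_iff_le_centralizer]
      exact h1.trans h2
    have h4 : ⁅⁅B, B⁆, F⁆ = ⊥ :=
      commutator_commutator_eq_bot_of_rotate h3 (by rwa [commutator_comm F B])
    rw [commutator_eq_bot_iff_le_centralizer] at h4
    haveI : Group.IsNilpotent B := by
      refine ⟨2, eq_top_iff.2 fun x _ => Subgroup.mem_upperCentralSeries_succ_iff.2 fun y => ?_⟩
      rw [Subgroup.upperCentralSeries_one, mem_center_iff]
      intro z
      exact Subtype.ext (h2 (hself (h4 (commutator_mem_commutator x.2 y.2))) z z.2)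
    rw [hF']
    refine ⟨Solv.le_fitting (N := B) ⟨ha, ?_⟩, ha⟩
    rintro _ ⟨x, hx, rfl⟩
    rw [eq_comm, ← commutatorElement_eq_one_iff_mul_comm, ← map_commutatorElement]
    exact (QuotientGroup.eq_one_iff _).2 (h x hx)
  have hcm : ∀ x ∈ F, ∀ u ∈ U, Commute x u := fun x hx u hu => (hFA hx u hu).symm
  obtain ⟨k, n', hn', hk⟩ := Nat.exists_eq_pow_mul_and_not_dvd (Nat.card_pos (α := G)).ne' r hr.ne_one
  have step : ∀ k, (∀ x ∈ F, x ^ (r ^ (k + 2) * n') ∈ U) → ∀ x ∈ F, x ^ (r ^ (k + 1) * n') ∈ U := by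
    intro k h
    let s : Set G := {z | ∃ x ∈ F, x ^ (r ^ (k + 1) * n') = z}
    have hs : closure s ≤ F := (closure_le _).2 (by rintro _ ⟨x, hx, rfl⟩; exact F.pow_mem hx _)
    have h1 : closure s ≤ centralizer s := by
      refine (closure_le _).2 ?_
      rintro _ ⟨y, hy, rfl⟩ _ ⟨x, hx, rfl⟩
      rw [← commutatorElement_eq_one_iff_mul_comm,
        comm_pow_left (hcm _ hx _ (hc _ hx _ (F.pow_mem hy _))),
        comm_pow_right (hcm _ hy _ (hc _ hx _ hy)), ← pow_mul]
      have h2 : ⁅x, y⁆ ^ (r ^ (k + 2) * n') = 1 := by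
        rw [← comm_pow_left (hcm _ hx _ (hc _ hx _ hy)), commutatorElement_eq_one_iff_mul_comm]
        exact (hcm y hy _ (h x hx)).symm
      rw [show r ^ (k + 1) * n' * (r ^ (k + 1) * n') = r ^ (k + 2) * n' * (r ^ k * n') by ring,
        pow_mul, h2, one_pow]
    have hsn : (closure s).Normal := ⟨fun a ha g => by
      have : closure s ≤ (closure s).comap (MulAut.conj g).toMonoidHom := (closure_le _).2 (by
        rintro _ ⟨x, hx, rfl⟩
        exact subset_closure ⟨_, hFn.conj_mem x hx g, conj_pow⟩)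
      exact this ha⟩
    have h3 := hmax' (closure s) hsn (by rwa [centralizer_closure]) (hs.trans hFA)
    exact fun x hx => h3 (subset_closure ⟨x, hx, rfl⟩)
  have all : ∀ k, (∀ x ∈ F, x ^ (r ^ (k + 1) * n') ∈ U) → ∀ x ∈ F, x ^ (r * n') ∈ U := by
    intro k
    induction k with
    | zero => simp
    | succ k ih => exact fun h => ih (step k h)
  have h1 := all k (fun x _ => by
    rw [pow_succ, mul_right_comm, ← hk, pow_mul, pow_card_eq_one', one_pow]; exact U.one_mem) x hx
  have h2 : (x ^ r) ^ r ^ j = 1 := by rw [← pow_mul, mul_comm, pow_mul, hj, one_pow]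
  rw [pow_mul] at h1
  have h3 : (orderOf (x ^ r)).Coprime n' :=
    Nat.Coprime.coprime_dvd_left (orderOf_dvd_of_pow_eq_one h2)
      (((Nat.Prime.coprime_iff_not_dvd hr).2 hn').pow_left j)
  obtain ⟨m, hm⟩ := exists_pow_eq_self_of_coprime h3.symm
  rw [← hm]
  exact U.pow_mem h1 m

end Cfsg.Agent.CH.Kc
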