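import Cfsg.Agent.CH.Kc2

/-! Class numbers of solvable linear groups: the primitive step. -/

set_option autoImplicit false

namespace Cfsg.Agent.CH.Kc

open Subgroup Reg
open scoped IsMulCommutative commutatorElement

theorem ab_sup {G : Type} [Group G] {D : Subgroup G} (h : D ≤ centralizer (D : Set G)) {c : G}
    (hc : c ∈ centralizer (D : Set G)) :
    D ⊔ zpowers c ≤ centralizer ((D ⊔ zpowers c : Subgroup G) : Set G) := by
  have h1 : zpowers c ≤ centralizer (D : Set G) := zpowers_le.2 hc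
  exact sup_le (le_centralizer_iff.1 (sup_le h h1))
    (le_centralizer_iff.1 (sup_le (le_centralizer_iff.1 h1) (le_centralizer _)))

section
variable {G V K : Type} [Group G] [Finite G] [AddCommGroup V] [DistribMulAction G V]
  [FaithfulSMul G V] [Field K] [Module K V] [Nontrivial V] {U F : Subgroup G} {ι : G → K}
  (hS : St U F) (hc : Sc V U ι)
include hS hc

theorem sq_aux {x : G} (hx : x ∈ F) :
    ∃ D : Subgroup G, U ≤ D ∧ x ∈ D ∧ U.relIndex F = U.relIndex D ^ 2 := by
  obtain ⟨D, ⟨h1, h2, h3, h4⟩, hmax⟩ := (Set.toFinite {D : Subgroup G | U ≤ D ∧ D ≤ F ∧ x ∈ D ∧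
    D ≤ centralizer (D : Set G)}).exists_maximal ⟨U ⊔ zpowers x, le_sup_left,
      sup_le hS.le (zpowers_le.2 hx), mem_sup_right (mem_zpowers x),
      ab_sup (hS.le.trans hS.cent) (hS.cent hx)⟩
  have h5 : ∀ c ∈ F, (∀ y ∈ D, y * c = c * y) → c ∈ D := fun c hcF h =>
    hmax (y := D ⊔ zpowers c) ⟨h1.trans le_sup_left, sup_le h2 (zpowers_le.2 hcF), mem_sup_left h3,
      ab_sup h4 h⟩ le_sup_left (mem_sup_right (mem_zpowers c))
  have h6 : D.relIndex F ≤ U.relIndex D :=
    hS.pairing hc le_rfl h2 h5 fun y hy x hx => hS.cent hx y hy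
  have h7 : U.relIndex D ≤ D.relIndex F :=
    hS.pairing hc h2 le_rfl (fun x _ h => hS.self h) fun y hy x hx => h4 hx y hy
  exact ⟨D, h1, h3, by rw [← relIndex_mul_relIndex U D F h1 h2, le_antisymm h6 h7, sq]⟩

theorem relIndex_le [Module.Finite K V] : U.relIndex F ≤ Module.finrank K V ^ 2 := by
  classical
  haveI : Fintype (F ⧸ U.subgroupOf F) := Fintype.ofFinite _
  let lin : F → (V →ₗ[K] V) := fun x =>
    { toFun := fun v => (x : G) • v
      map_add' := smul_add _
      map_smul' := fun κ v => hc.lin x (hS.cent x.2) κ v }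
  have hχ : Function.Injective fun ω : F ⧸ U.subgroupOf F => hS.chi hc le_rfl ω.out.2 := by
    intro a b e
    rw [← QuotientGroup.out_eq' a, ← QuotientGroup.out_eq' b, QuotientGroup.eq, mem_subgroupOf]
    exact hS.self (hS.chi_eq hc le_rfl _ _ e)
  have hD := (linearIndependent_monoidHom F K).comp _ hχ
  have hL : LinearIndependent K fun ω : F ⧸ U.subgroupOf F => lin ω.out := by
    rw [Fintype.linearIndependent_iff] at hD ⊢
    intro c hc0 ω
    obtain ⟨v, hv⟩ := exists_ne (0 : V)
    have hv' : (ω.out : G) • v ≠ 0 := by rwa [Ne, smul_eq_zero_iff_eq]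
    obtain ⟨φ, hφ⟩ : ∃ φ : Module.Dual K V, φ ((ω.out : G) • v) ≠ 0 := by
      by_contra h
      push Not at h
      exact hv' ((Module.forall_dual_apply_eq_zero_iff K _).1 h)
    have := hD (fun ω => c ω * φ ((ω.out : G) • v)) (by
      ext y
      have h1 := congrArg (fun f : V →ₗ[K] V => φ ((y : G) • f ((y : G)⁻¹ • v))) hc0
      simp only [LinearMap.sum_apply, LinearMap.smul_apply, LinearMap.zero_apply, smul_zero,
        map_zero, Finset.smul_sum, map_sum] at h1
      simp only [Finset.sum_apply, Pi.smul_apply, Function.comp_apply, Pi.zero_apply]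
      rw [← h1]
      refine Finset.sum_congr rfl fun ω _ => ?_
      rw [hc.lin _ (hS.cent y.2), map_smul φ (c ω), smul_eq_mul, smul_eq_mul, mul_assoc]
      congr 1
      have h2 : (y : G) • lin ω.out ((y : G)⁻¹ • v) =
          hS.chi hc le_rfl ω.out.2 y • (ω.out : G) • v := by
        change (y : G) • (ω.out : G) • (y : G)⁻¹ • v = _
        refine Eq.trans ?_ (hc.act _ (hS.comm _ y.2 _ ω.out.2) _)
        simp only [← mul_smul, commutatorElement_def]
        congr 1
        group
      rw [h2, map_smul φ, smul_eq_mul, mul_comm]) ω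
    exact (mul_eq_zero.1 this).resolve_right hφ
  have := hL.fintype_card_le_finrank
  rwa [Module.finrank_linearMap, ← pow_two, ← Nat.card_eq_fintype_card] at this

theorem prim {n : ℕ} (hn : LL n) [Group.IsSolvable G] [Module.Finite K V] [U.Normal] [F.Normal]
    (hmax : ∀ B : Subgroup G, B.Normal → B ≤ centralizer (B : Set G) →
      B ≤ centralizer (U : Set G) → B ≤ U)
    (hB : ∀ a ∈ centralizer (U : Set G), (∀ x ∈ F, ⁅a, x⁆ ∈ U) → a ∈ F)
    (hcard : Nat.card G ≤ n) (hFU : ¬ F ≤ U) :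
    ∃ e b, U.relIndex F = e ^ 2 ∧ 2 ≤ e ∧ e ≤ Module.finrank K V ∧
      (∀ r, r.Prime → r ∣ e → r ∣ Nat.card U) ∧ Bd (F.subgroupOf (centralizer (U : Set G))) b ∧
      3 * b ≤ w (e ^ 2) ∧ (e.Prime → b + 3 ≤ e ^ 2 + e) := by
  obtain ⟨D, -, -, he⟩ := sq_aux hS hc F.one_mem
  set e := U.relIndex D
  let π := QuotientGroup.mk' U
  have hπ := QuotientGroup.mk'_surjective U
  have hker : ∀ x, π x = 1 ↔ x ∈ U := QuotientGroup.eq_one_iff
  set N := F.map π with hN
  haveI : N.Normal := (inferInstance : F.Normal).map _ hπ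
  haveI : IsMulCommutative N := ⟨⟨by
    rintro ⟨_, x, hx, rfl⟩ ⟨_, y, hy, rfl⟩
    apply Subtype.ext
    change π x * π y = π y * π x
    rw [← commutatorElement_eq_one_iff_mul_comm, ← map_commutatorElement, hker]
    exact hS.comm x hx y hy⟩⟩
  have hcN : Nat.card N = e ^ 2 := by rw [← he, ← relIndex_ker, QuotientGroup.ker_mk']
  have hN0 : N ≠ ⊥ := by rwa [Ne, Subgroup.map_eq_bot_iff, QuotientGroup.ker_mk']
  haveI := (nontrivial_iff_ne_bot N).2 hN0
  have he2 : 2 ≤ e := by
    have := N.one_lt_card_iff_ne_bot.2 hN0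
    by_contra h
    rw [hcN] at this
    interval_cases e <;> simp at this
  have hU0 : U ≠ ⊥ := by
    rintro rfl
    exact hFU fun x hx => hS.self fun y hy =>
      commutatorElement_eq_one_iff_mul_comm.1 (hS.comm y hy x hx)
  have hexp : ∀ x ∈ F, x ^ e ∈ U := fun x hx => by
    obtain ⟨D', h1, h2, h3⟩ := sq_aux hS hc hx
    have h4 : U.relIndex D' = e := Nat.pow_left_injective two_ne_zero (h3.symm.trans he)
    exact h4 ▸ (U.subgroupOf D').pow_index_mem ⟨x, h2⟩
  letI := conjAct N
  obtain ⟨b, h, hb⟩ := gen hn (G := G ⧸ U) (V := Additive N) (by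
    refine lt_of_lt_of_le ?_ hcard
    rw [← U.card_mul_index]
    exact lt_mul_of_one_lt_left (Nat.pos_of_ne_zero index_ne_zero_of_finite)
      (U.one_lt_card_iff_ne_bot.2 hU0)) (cr_conj N fun X hXN hX hne => by
    set X' := X.comap π
    have h1 : U ≤ X' := fun u hu => by
      change π u ∈ X
      rw [(hker u).2 hu]; exact X.one_mem
    have h2 : X' ≤ F := (comap_mono hXN).trans (by
      rw [comap_map_eq, QuotientGroup.ker_mk']; exact sup_le le_rfl hS.le)
    set Y := F ⊓ centralizer (X' : Set G)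
    have h3 : Y.map π ≠ ⊥ := by
      rw [Ne, Subgroup.map_eq_bot_iff, QuotientGroup.ker_mk']
      refine fun h => hne (le_antisymm hXN ?_)
      rintro _ ⟨c, hcF, rfl⟩
      exact hS.double hc h1 h2 hcF fun y hy => hS.cent hcF y (h hy)
    obtain ⟨M, ⟨hM, hM0, hMle⟩, hmin⟩ := (Set.toFinite {M : Subgroup (G ⧸ U) |
      M.Normal ∧ M ≠ ⊥ ∧ M ≤ Y.map π}).exists_minimal
      ⟨_, (inferInstance : Y.Normal).map _ hπ, h3, le_rfl⟩
    refine ⟨M, hMle.trans (map_mono inf_le_left), hM, fun W hW hWn => (em (W = ⊥)).imp id fun h =>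
      le_antisymm hW (hmin ⟨hWn, h, hW.trans hMle⟩ hW), fun hMX => hM0 ?_⟩
    have h4 : M.comap π ≤ Y := (comap_mono hMle).trans (by
      rw [comap_map_eq, QuotientGroup.ker_mk']
      exact sup_le le_rfl (le_inf hS.le (le_centralizer_iff.1 (h2.trans hS.cent))))
    have h5 := hmax (M.comap π) inferInstance
      ((h4.trans inf_le_right).trans (centralizer_le (comap_mono hMX)))
      ((h4.trans inf_le_left).trans hS.cent)
    rw [eq_bot_iff]
    intro m hm
    obtain ⟨y, rfl⟩ := hπ m
    exact (hker y).2 (h5 hm))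
  have key : ∀ {b}, Bd (aK (G ⧸ U) (Additive N)) b →
      Bd (F.subgroupOf (centralizer (U : Set G))) b := fun h =>
    (h.comap (π.comp (centralizer (U : Set G)).subtype)).mono (fun a ha => hB a a.2 fun x hx => by
      rw [← hker, map_commutatorElement, commutatorElement_eq_one_iff_mul_comm]
      exact ((mem_aK_conj N).1 ha _ ⟨x, hx, rfl⟩).symm) le_rfl
  have hb' : 3 * b ≤ w (e ^ 2) := hcN ▸ hb
  have hd : e ≤ Module.finrank K V :=
    (Nat.pow_le_pow_iff_left two_ne_zero).1 (he ▸ relIndex_le hS hc)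
  have hr : ∀ r, r.Prime → r ∣ e → r ∣ Nat.card U := fun r hr h => by
    haveI := Fact.mk hr
    obtain ⟨⟨_, x, hx, rfl⟩, h1⟩ := exists_prime_orderOf_dvd_card' (G := N) r
      (hcN ▸ h.trans (dvd_pow_self e two_ne_zero))
    rw [← h1]
    refine orderOf_dvd_of_pow_eq_one (Subtype.ext ?_)
    change π x ^ Nat.card U = 1
    rw [← map_pow, hker]
    refine hS.self fun y hy => Eq.symm ?_
    rw [← commutatorElement_eq_one_iff_mul_comm, PGrp.commutator_pow_left (hS.cmc hx hy hx)]
    exact congrArg Subtype.val (pow_card_eq_one' (x := (⟨_, hS.comm x hx y hy⟩ : U)))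
  by_cases hp : e.Prime
  · have h2 := gl2_nf hp (G := G ⧸ U) (V := Additive N) hcN (by
      rintro ⟨_, x, hx, rfl⟩
      apply Additive.toMul.injective
      apply Subtype.ext
      change π x ^ e = 1
      rw [← map_pow, hker]
      exact hexp x hx)
    refine ⟨e, min b (e ^ 2 + e - 3), he, he2, hd, hr,
      fun H _ _ φ => le_min (key h H φ) (key h2 H φ),
      (Nat.mul_le_mul_left _ (min_le_left _ _)).trans hb', fun _ => ?_⟩
    have := min_le_right b (e ^ 2 + e - 3)
    have : 4 ≤ e ^ 2 := by nlinarith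
    omega
  · exact ⟨e, b, he, he2, hd, hr, key h, hb', fun h => absurd h hp⟩

omit hS [Finite G] [FaithfulSMul G V] in
theorem exists_sigma (g : G) : ∃ σ : K →+* K, ∀ (κ : K) (v : V), g • κ • v = σ κ • g • v := by
  choose σ hσ using hc.semi g
  have ext : ∀ {a b : K}, (∀ v : V, a • g • v = b • g • v) → a = b := fun h =>
    hc.ext fun v => by simpa using h (g⁻¹ • v)
  exact ⟨{ toFun := σ
           map_one' := ext fun v => by rw [← hσ, one_smul, one_smul]
           map_mul' := fun a b => ext fun v => by rw [← hσ, mul_smul, hσ, hσ, mul_smul]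
           map_zero' := ext fun v => by rw [← hσ, zero_smul, zero_smul, smul_zero]
           map_add' := fun a b => ext fun v => by
             rw [← hσ, add_smul, add_smul, smul_add, hσ, hσ] }, hσ⟩

omit [Finite G] [FaithfulSMul G V] in
theorem sigma_iota {g : G} {σ : K →+* K} (h : ∀ (κ : K) (v : V), g • κ • v = σ κ • g • v) {u : G}
    (hu : u ∈ U) : σ (ι u) = ι (g * u * g⁻¹) :=
  hc.ext fun v => by
    rw [← hc.act _ (hS.un.conj_mem u hu g), mul_smul, mul_smul, hc.act u hu, h, smul_inv_smul]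

omit [Finite G] in
theorem index_le [Finite K] {p f : ℕ} (hp : p.Prime) [CharP K p] (hq : Nat.card K = p ^ f) :
    (centralizer (U : Set G)).index ≤ f := by
  haveI := Fact.mk hp
  letI := ZMod.algebra K p
  haveI : Module.Finite (ZMod p) K := Module.Finite.of_finite
  have h1 := Module.natCard_eq_pow_finrank (K := ZMod p) (V := K)
  rw [hq, Nat.card_zmod] at h1
  rw [Nat.pow_right_injective hp.two_le h1]
  refine le_trans ?_ (card_algHom_le_finrank (ZMod p) K K)
  choose σ hσ using exists_sigma hc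
  haveI : Finite (K →ₐ[ZMod p] K) := DFunLike.finite _
  refine Nat.card_le_card_of_injective (fun ω : G ⧸ centralizer (U : Set G) =>
    ({ σ ω.out with
      commutes' := fun r => DFunLike.congr_fun
        (RingHom.ext_zmod ((σ ω.out).comp (algebraMap (ZMod p) K)) (algebraMap (ZMod p) K)) r } :
      K →ₐ[ZMod p] K)) fun a b e => ?_
  rw [← QuotientGroup.out_eq' a, ← QuotientGroup.out_eq' b, QuotientGroup.eq]
  intro u hu
  have h2 : σ a.out (ι u) = σ b.out (ι u) := DFunLike.congr_fun e (ι u)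
  rw [sigma_iota hS hc (hσ _) hu, sigma_iota hS hc (hσ _) hu] at h2
  have h3 := hc.inj (hS.un.conj_mem u hu _) (hS.un.conj_mem u hu _) h2
  calc u * (a.out⁻¹ * b.out) = a.out⁻¹ * (a.out * u * a.out⁻¹) * b.out := by group
    _ = _ := by rw [h3]; group

omit hS [Finite G] in
theorem card_dvd [Finite K] : Nat.card U ∣ Nat.card K - 1 := by
  rw [← Nat.card_units]
  refine card_dvd_of_injective (MonoidHom.toHomUnits
    { toFun := fun u : U => ι u, map_one' := hc.one, map_mul' := fun a b => hc.mul a.2 b.2 })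
    fun a b e => Subtype.ext (hc.inj a.2 b.2 (congrArg Units.val e))

theorem gam [Finite K] (hA : centralizer (U : Set G) ≤ U) {c : ℕ} (hc0 : 0 < c)
    (h : ∀ m, m ^ 2 ≤ Nat.card K → m ≤ c + 1) (H : Subgroup G) :
    Nat.card (ConjClasses H) < Nat.card U + (centralizer (U : Set G)).index * c := by
  refine k_lt (U.subgroupOf H) (one_mem _) ?_
    (Nat.mul_pos (Nat.pos_of_ne_zero index_ne_zero_of_finite) hc0) fun x hx => ?_
  · exact Nat.card_le_card_of_injective (fun y : U.subgroupOf H => (⟨y.1, y.2⟩ : U))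
      fun a b e => Subtype.ext (Subtype.ext (congrArg (fun y : U => (y : G)) e))
  set A := centralizer (U : Set G)
  set C := centralizer ({(x : G)} : Set G)
  have h1 : Nat.card (centralizer ({x} : Set H)) ≤ Nat.card C :=
    Nat.card_le_card_of_injective (fun y => ⟨y.1, mem_centralizer_singleton_iff.2
      (congrArg Subtype.val (mem_centralizer_singleton_iff.1 y.2))⟩)
      fun a b e => Subtype.ext (Subtype.ext (congrArg (fun y : C => (y : G)) e))
  refine h1.trans ?_
  rw [← (A.subgroupOf C).index_mul_card]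
  refine Nat.mul_le_mul ((relIndex_le_of_le_right le_top (by
    rw [relIndex_top_right]; exact index_ne_zero_of_finite)).trans_eq (relIndex_top_right A)) ?_
  obtain ⟨σ, hσ⟩ := exists_sigma hc (x : G)
  obtain ⟨y, hy⟩ : ∃ y, σ y ≠ y := by
    by_contra h
    push Not at h
    refine hx (hA fun u hu => ?_)
    have := hc.inj hu (hS.un.conj_mem u hu x) ((h _).symm.trans (sigma_iota hS hc hσ hu))
    rw [eq_mul_inv_iff_mul_eq] at this
    exact this
  have h2 := h {κ | σ κ = κ}.ncard (by
    rw [← Nat.card_coe_set_eq, sq, ← Nat.card_prod]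
    refine Nat.card_le_card_of_injective (fun p => p.1.1 + p.2.1 * y) ?_
    rintro ⟨⟨a, ha⟩, ⟨b, hb⟩⟩ ⟨⟨a', ha'⟩, ⟨b', hb'⟩⟩ e
    replace e : a + b * y = a' + b' * y := e
    have e2 := congrArg σ e
    rw [map_add, map_add, map_mul, map_mul, ha, hb, ha', hb'] at e2
    have e3 : (b - b') * (σ y - y) = 0 := by linear_combination e2 - e
    obtain rfl := sub_eq_zero.1 ((mul_eq_zero.1 e3).resolve_right (sub_ne_zero.2 hy))
    obtain rfl := add_right_cancel e
    rfl)
  have h3 := Set.ncard_sdiff_singleton_add_one (s := {κ | σ κ = κ}) (a := 0) (map_zero σ)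
  refine le_trans ?_ (show ({κ | σ κ = κ} \ {0}).ncard ≤ c by omega)
  rw [← Nat.card_coe_set_eq]
  refine Nat.card_le_card_of_injective (fun z => ⟨ι z.1, ?_, hc.ne_zero (hA z.2)⟩)
    fun a b e => Subtype.ext (Subtype.ext (hc.inj (hA a.2) (hA b.2) (congrArg Subtype.val e)))
  change σ _ = _
  rw [sigma_iota hS hc hσ (u := z.1) (hA z.2), ← mem_centralizer_singleton_iff.1 z.1.2, mul_inv_cancel_right]

end

end Cfsg.Agent.CH.Kc
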