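import Cfsg.Agent.CH.Kc3

/-! Class numbers of solvable linear groups over finite fields and of solvable permutation groups. -/

set_option autoImplicit false

namespace Cfsg.Agent.CH.Kc

open Subgroup Reg
open scoped IsMulCommutative commutatorElement

theorem num1 {q s u : ℕ} (hs : 2 ^ s ≤ q) (hu : u < q) (h4 : q ≠ 4) : 3 * (s * u) ≤ q ^ 2 := by
  obtain ⟨q, rfl⟩ : ∃ k, q = k + 1 := ⟨q - 1, by omega⟩
  have hu' : u ≤ q := by omega
  rcases Nat.lt_or_ge s 4 with h | h
  · interval_cases s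
    · simp
    · nlinarith [Nat.zero_le ((q - 1) ^ 2), sq_nonneg ((q : ℤ) - 1)]
    · have : 4 ≤ q := by omega
      nlinarith
    · have : 7 ≤ q := by omega
      nlinarith
  · have h1 : ∀ t, 3 * (t + 4) ≤ 2 ^ (t + 4) := fun t => by
      induction t with
      | zero => norm_num
      | succ t ih => rw [show t + 1 + 4 = t + 4 + 1 from rfl, pow_succ]; omega
    obtain ⟨t, rfl⟩ := Nat.exists_eq_add_of_le' h
    have := (h1 t).trans hs
    nlinarith

theorem numX {e b : ℕ} (h2 : 2 ≤ e) (hb : 3 * b ≤ w (e ^ 2)) (hp : e.Prime → b + 3 ≤ e ^ 2 + e) :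
    2 * (3 * b * e ^ 2) ≤ 9 ^ e := by
  rcases Nat.lt_or_ge e 5 with h | h
  · interval_cases e
    · have := hp (by norm_num); omega
    · have := hp (by norm_num); omega
    · have : w (4 ^ 2) = 81 := w_two 4
      omega
  · have h1 : ∀ t, 2 * (t + 5) ^ 6 ≤ 9 ^ (t + 5) := fun t => by
      induction t with
      | zero => norm_num
      | succ t ih =>
        have h3 : (5 * (t + 1 + 5)) ^ 6 ≤ (6 * (t + 5)) ^ 6 := Nat.pow_le_pow_left (by omega) _
        rw [mul_pow, mul_pow] at h3
        rw [show t + 1 + 5 = t + 5 + 1 from rfl] at h3 ⊢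
        rw [pow_succ 9]
        omega
    obtain ⟨t, rfl⟩ := Nat.exists_eq_add_of_le' h
    have h4 := hb.trans (w_le (by positivity))
    refine le_trans ?_ (h1 t)
    rw [show (t + 5) ^ 6 = ((t + 5) ^ 2) ^ 2 * (t + 5) ^ 2 by ring]
    gcongr

theorem num2 {q s u e X : ℕ} (hs : 2 ^ s ≤ q) (hu : u < q) (h3 : 3 ≤ q) (h2 : 2 ≤ e)
    (hX : 2 * X ≤ 9 ^ e) : s * u * X ≤ (q ^ e) ^ 2 := by
  rcases h3.eq_or_lt with rfl | h4
  · have : s ≤ 1 := by
      by_contra h
      have := (Nat.pow_le_pow_right two_pos (show 2 ≤ s by omega)).trans hs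
      omega
    rw [← pow_mul, mul_comm e, pow_mul]
    exact le_trans (Nat.mul_le_mul_right _ (by nlinarith)) hX
  have h5 : 8 * (s * u) ≤ 3 * q ^ 2 := by
    by_cases h : q = 4
    · subst h
      have : s ≤ 2 := by
        by_contra h
        have := (Nat.pow_le_pow_right two_pos (show 3 ≤ s by omega)).trans hs
        omega
      nlinarith
    · have := num1 hs hu h
      omega
  obtain ⟨t, rfl⟩ := Nat.exists_eq_add_of_le' h2
  have h6 : 9 ^ t ≤ 16 ^ t := Nat.pow_le_pow_left (by norm_num) _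
  have h7 : 16 ≤ q ^ 2 := by nlinarith
  have h8 : 16 ^ t ≤ (q ^ 2) ^ t := Nat.pow_le_pow_left h7 _
  rw [← pow_mul, mul_comm (t + 2), pow_mul, pow_add]
  rw [pow_add] at hX
  have h9 := Nat.mul_le_mul h5 (hX.trans (Nat.mul_le_mul_right _ (h6.trans h8)))
  have h10 := Nat.mul_le_mul_left ((q ^ 2) ^ t * q ^ 2) h7
  nlinarith

theorem imprim {n : ℕ} (hn : LL n) {G V : Type} [Group G] [Finite G] [AddCommGroup V]
    [Finite V] [DistribMulAction G V] [FaithfulSMul G V] [Group.IsSolvable G]
    (hc : Nat.card G ≤ n) (hI : Irr G V) {H : Subgroup G} (hH : IsCoatom H) (e : V →+ V)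
    (he0 : e ≠ 0) (hee : ∀ x, e (e x) = e x) (heH : ∀ h ∈ H, ∀ x, e (h • x) = h • e x)
    (heG : ∀ g, g ∉ H → ∀ x, e (g • e x) = 0) :
    ∃ b, Bd (⊥ : Subgroup G) b ∧ 3 * b ≤ w (Nat.card V) := by
  classical
  obtain ⟨x0, hx0⟩ : ∃ x, e x ≠ 0 := by
    by_contra h
    push Not at h
    exact he0 (AddMonoidHom.ext h)
  have hlt : Nat.card H < Nat.card G := by
    by_contra h
    exact hH.1 (Subgroup.eq_top_of_le_card H (not_lt.1 h))
  have hW := block_min hI e hee heH heG
  obtain ⟨b, h, hb⟩ := min_nf hn (hlt.trans_le hc) hW fun h =>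
    hx0 (AddSubgroup.mem_bot.1 (h ▸ (⟨x0, rfl⟩ : e x0 ∈ e.range)))
  haveI := fix_normal hW.1
  haveI : Fintype (G ⧸ H) := Fintype.ofFinite _
  have hfix : ∀ c ∈ e.range, e c = c := by rintro _ ⟨x, rfl⟩; exact hee x
  have hmem : ∀ y : G, y⁻¹ * (y : G ⧸ H).out ∈ H := fun y =>
    QuotientGroup.eq.1 (QuotientGroup.out_eq' (y : G ⧸ H)).symm
  have hall : ∀ S : AddSubgroup V, Inv G S → e x0 ∈ S → ∀ z, z ∈ S := fun S hS h z => by
    rcases hI S hS with h1 | h1
    · rw [h1] at h; exact absurd h hx0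
    · rw [h1]; trivial
  have hcard : Nat.card V = Nat.card e.range ^ H.index := by
    rw [index, ← Nat.card_fun]
    let ψ : (G ⧸ H → e.range) →+ V :=
      { toFun := fun c => ∑ ω, ω.out • (c ω : V)
        map_zero' := by simp
        map_add' := fun a b => by simp [Finset.sum_add_distrib] }
    refine (Nat.card_eq_of_bijective ψ ⟨(injective_iff_map_eq_zero ψ).2 fun c h0 => ?_,
      fun z => hall ψ.range ?_ ?_ z⟩).symm
    · funext η
      have h1 := congrArg (fun z => e (η.out⁻¹ • z)) h0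
      simp only [ψ, AddMonoidHom.coe_mk, ZeroHom.coe_mk, Finset.smul_sum, map_sum, smul_zero,
        map_zero] at h1
      rw [Finset.sum_eq_single η, inv_smul_smul, hfix _ (c η).2] at h1
      · exact Subtype.ext h1
      · intro ω _ hω
        rw [← mul_smul, ← hfix _ (c ω).2]
        refine heG _ (fun h => hω ?_) _
        rw [← QuotientGroup.out_eq' ω, ← QuotientGroup.out_eq' η]
        exact (QuotientGroup.eq.2 h).symm
      · simp
    · have h1 : ∀ (y : G) (z : e.range), y • (z : V) ∈ ψ.range := fun y z =>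
        ⟨Pi.single (y : G ⧸ H) ⟨_, hW.1 ⟨_, H.inv_mem (hmem y)⟩ z z.2⟩, by
          change ∑ ω, _ = _
          rw [Finset.sum_eq_single (y : G ⧸ H)]
          · rw [Pi.single_eq_same]
            change _ • (y⁻¹ * (y : G ⧸ H).out)⁻¹ • (z : V) = _
            rw [← mul_smul]
            congr 1
            group
          · intro ω _ hω
            rw [Pi.single_eq_of_ne hω]
            simp
          · simp⟩
      rintro g _ ⟨c, rfl⟩
      change g • ∑ ω, _ ∈ _
      rw [Finset.smul_sum]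
      exact sum_mem fun ω _ => by rw [← mul_smul]; exact h1 _ _
    · refine ⟨Pi.single ((1 : G) : G ⧸ H) ⟨_, hW.1 ⟨_, H.inv_mem (hmem 1)⟩ (e x0) ⟨x0, rfl⟩⟩, ?_⟩
      change ∑ ω, _ = _
      rw [Finset.sum_eq_single ((1 : G) : G ⧸ H)]
      · rw [Pi.single_eq_same]
        change _ • ((1 : G)⁻¹ * ((1 : G) : G ⧸ H).out)⁻¹ • e x0 = _
        rw [inv_one, one_mul, smul_inv_smul]
      · intro ω _ hω
        rw [Pi.single_eq_of_ne hω]
        simp
      · simp
  let c : G ⧸ H → H.normalCore →* H := fun ω =>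
    ((MulAut.conj ω.out⁻¹).toMonoidHom.comp H.normalCore.subtype).codRestrict H fun x => x.2 _
  have h2 := bd_prod (fun ω => (fixingSubgroup H (e.range : Set V)).comap (c ω)) (fun _ => b)
    (fun ω => h.comap (c ω)) Finset.univ ((⊥ : Subgroup G).subgroupOf H.normalCore) fun g hg => by
      have h3 : ∀ x : G, ∀ z ∈ e.range, (g : G) • x • z = x • z := fun x z hz => by
        have h5 := (mem_fixingSubgroup_iff H).1 (hg x (Finset.mem_univ _)) _
          (hW.1 ⟨_, H.inv_mem (hmem x)⟩ z hz)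
        have h6 := congrArg (fun z => (x : G ⧸ H).out • z) h5
        change _ • ((x : G ⧸ H).out⁻¹ * g * (x : G ⧸ H).out⁻¹⁻¹) • (x⁻¹ * (x : G ⧸ H).out)⁻¹ • z =
          _ • (x⁻¹ * (x : G ⧸ H).out)⁻¹ • z at h6
        simp only [← mul_smul] at h6 ⊢
        convert h6 using 2 <;> group
      let S : AddSubgroup V :=
        { carrier := {z | ∀ x : G, (g : G) • x • z = x • z}
          add_mem' := fun {a b} ha hb x => by rw [smul_add, smul_add, ha x, hb x]
          zero_mem' := fun x => by rw [smul_zero, smul_zero]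
          neg_mem' := fun {a} ha x => by rw [smul_neg, smul_neg, ha x] }
      refine FaithfulSMul.eq_of_smul_eq_smul (α := V) fun z => ?_
      simpa using hall S (fun y z hz x => by rw [← mul_smul x y]; exact hz _)
        (fun x => h3 x _ ⟨x0, rfl⟩) z 1
  refine ⟨_, (primperm hn hc hH).rel h2, ?_⟩
  rw [hcard, Finset.prod_const, Finset.card_univ, ← Nat.card_eq_fintype_card, ← index,
    ← mul_assoc, ← pow_succ', Nat.sub_add_cancel (Nat.pos_of_ne_zero index_ne_zero_of_finite),
    ← mul_pow]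
  exact (Nat.pow_le_pow_left hb _).trans (w_pow Nat.card_pos.ne' _)

theorem step {n : ℕ} (hn : LL n) : LL (n + 1) := by
  intro G V _ _ _ _ _ _ _ hc hG hI
  have hc' : Nat.card G ≤ n := by omega
  obtain ⟨U, F, -, hmax, hB, hS⟩ := exists_St2 (G := G)
  haveI := hS.un
  haveI := hS.fn
  haveI : IsMulCommutative U := ⟨⟨fun a b => Subtype.ext (hS.cm (hS.le b.2) a.2).eq⟩⟩
  by_cases hblock : ∃ κ ∈ KR V U, κ ≠ 0 ∧ ¬ Function.Injective κ
  · obtain ⟨κ, h1, h2, h3⟩ := hblock
    obtain ⟨H, e, a1, a2, a3, a4, a5⟩ := exists_block hI h1 h2 h3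
    exact imprim hn hc' hI a1 e a2 a3 a4 a5
  obtain ⟨K, _, _, _, ι, hι⟩ := exists_Sc (V := V) (N := U) fun κ h3 h4 =>
    by_contra fun h5 => hblock ⟨κ, h3, h4, h5⟩
  haveI := Fintype.ofFinite K
  obtain ⟨p, _, ⟨f, hf⟩, hp, hq⟩ := FiniteField.card' K
  rw [← Nat.card_eq_fintype_card, PNat.mk_coe] at hq
  haveI : Module.Finite K V := Module.Finite.of_finite
  have hV := Module.natCard_eq_pow_finrank (K := K) (V := V)
  have hd : 0 < Module.finrank K V := Module.finrank_pos
  have hs := index_le hS hι hp hq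
  have hu := card_dvd hι
  have hq1 : 1 < Nat.card K := Finite.one_lt_card
  have hu' : Nat.card U < Nat.card K := by
    have := Nat.le_of_dvd (by omega) hu
    omega
  have hs' : 2 ^ (centralizer (U : Set G)).index ≤ Nat.card K :=
    hq ▸ (Nat.pow_le_pow_right two_pos hs).trans (Nat.pow_le_pow_left hp.two_le _)
  have hw : p ≠ 2 ∨ 4 < f * Module.finrank K V →
      w (Nat.card V) = (Nat.card K ^ Module.finrank K V) ^ 2 := fun h => by
    rw [hV, hq]
    by_cases h2 : p = 2
    · subst h2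
      rw [← pow_mul, w_two, w2, if_neg (by omega), ← pow_mul, mul_comm _ 2, pow_mul 2 2]; rfl
    · exact w_odd (hp.odd_of_ne_two h2).pow.pow
  by_cases hFU : F ≤ U
  · have hA : centralizer (U : Set G) ≤ U := (centralizer_le hFU).trans hS.self
    have h1 : Bd (⊥ : Subgroup G) ((centralizer (U : Set G)).index * Nat.card U) :=
      (bd_index ⊥).mono le_rfl (by
        rw [index_bot, ← (centralizer (U : Set G)).index_mul_card]
        exact Nat.mul_le_mul_left _ (card_le_of_le hA))
    have hg := fun c h0 h => gam hS hι hA (c := c) h0 h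
    generalize (centralizer (U : Set G)).index = s at *
    generalize Nat.card U = u at *
    generalize Module.finrank K V = d at *
    by_cases h : p ≠ 2 ∨ 4 < f * d
    · refine ⟨_, h1, ?_⟩
      rw [hw h]
      by_cases h4 : Nat.card K = 4
      · have h5 : s ≤ 2 := by
          by_contra h
          have := (Nat.pow_le_pow_right two_pos (show 3 ≤ s by omega)).trans hs'
          omega
        have h6 : p = 2 := (Nat.prime_dvd_prime_iff_eq hp Nat.prime_two).1
          (hp.dvd_of_dvd_pow (n := 2) (by rw [show 2 ^ 2 = p ^ f from h4.symm.trans hq]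
                                          exact dvd_pow_self p hf.ne'))
        subst h6
        have h7 : f = 2 := Nat.pow_right_injective le_rfl (hq.symm.trans h4)
        subst h7
        have h8 : 4 ^ 3 ≤ 4 ^ d := Nat.pow_le_pow_right (by norm_num) (by omega)
        rw [h4] at hu' ⊢
        nlinarith
      · exact (num1 hs' hu' h4).trans (Nat.pow_le_pow_left (Nat.le_self_pow hd.ne' _) _)
    push Not at h
    obtain ⟨rfl, h⟩ := h
    rw [hV, hq, ← pow_mul, w_two, w2, if_pos h]
    rw [hq] at hu' hg hV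
    have h3 : 3 ^ f ≤ 3 ^ (f * d) := Nat.pow_le_pow_right (by norm_num) (by nlinarith)
    have h4 : f ≤ 4 := by nlinarith
    interval_cases f
    · exact ⟨_, h1, by nlinarith⟩
    · rcases (show d = 1 ∨ d = 2 by omega) with rfl | rfl
      · refine ⟨3, bd_bot fun H => ?_, by norm_num⟩
        have := gl2 Nat.prime_two (H := H) hV fun v => by
          rw [← Nat.cast_smul_eq_nsmul K, CharP.cast_eq_zero, zero_smul]
        omega
      · exact ⟨_, h1, by
          have := Nat.mul_le_mul hs (show u ≤ 3 by omega)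
          omega⟩
    · refine ⟨9, bd_bot fun H => ?_, h3⟩
      have := hg 1 one_pos (fun m hm => by nlinarith) H
      omega
    · refine ⟨27, bd_bot fun H => ?_, h3⟩
      have := hg 3 three_pos (fun m hm => by nlinarith) H
      omega
  obtain ⟨e, b, he, he2, hed, hr, h, hb, hb'⟩ := prim hS hι hn hmax hB hc' hFU
  obtain ⟨r, hr1, hr2⟩ := Nat.exists_prime_and_dvd (show e ≠ 1 by omega)
  have h3 : r < Nat.card K := (Nat.le_of_dvd Nat.card_pos (hr r hr1 hr2)).trans_lt hu'
  have h4 := hr1.two_le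
  refine ⟨_, ((bd_index _).rel h).rel (bd_index _), ?_⟩
  rw [bot_subgroupOf, index_bot, ← relIndex_bot_left, ← relIndex_mul_relIndex ⊥ U F bot_le hS.le,
    relIndex_bot_left, he, hw]
  · refine le_trans (le_of_eq (by ring)) ((num2 hs' hu' (by omega) he2 (numX he2 hb hb')).trans ?_)
    exact Nat.pow_le_pow_left (Nat.pow_le_pow_right (by omega) hed) _
  · by_cases h2 : p = 2
    · subst h2
      right
      have h5 : e ≠ 2 := by
        rintro rfl
        have h6 := (hr 2 Nat.prime_two dvd_rfl).trans hu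
        have h7 : 2 ∣ Nat.card K := hq ▸ dvd_pow_self 2 hf.ne'
        omega
      have h6 : f ≠ 1 := by
        rintro rfl
        omega
      nlinarith [show 2 ≤ f by omega, show 3 ≤ Module.finrank K V by omega]
    · exact Or.inl h2

theorem ll (n : ℕ) : LL n := by
  induction n with
  | zero => intro G V _ _ _ _ _ _ _ hc; exact absurd hc (Nat.not_lt_zero _)
  | succ n ih => exact step ih

theorem perm_trans (m : ℕ) : ∀ (G : Type) [Group G] [Finite G] [Group.IsSolvable G]
    (L : Subgroup G), L.index = m → Bd L.normalCore (3 ^ (m - 1)) := by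
  induction m using Nat.strong_induction_on with
  | _ m ih =>
  intro G _ _ _ L hL
  rcases eq_top_or_exists_le_coatom L with rfl | ⟨H, hH, hLH⟩
  · exact (bd_index ⊤).mono (normal_le_normalCore.2 le_rfl)
      (by rw [index_top]; exact Nat.one_le_pow _ _ three_pos)
  haveI : Fintype (G ⧸ H) := Fintype.ofFinite _
  have h1 := relIndex_mul_index hLH
  have h2 : H.index ≠ 1 := fun e => hH.1 (index_eq_one.1 e)
  have h3 : H.index ≠ 0 := index_ne_zero_of_finite
  have h4 : L.relIndex H ≠ 0 := index_ne_zero_of_finite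
  have h := ih (L.relIndex H) (by
    rw [← hL, ← h1]
    exact lt_mul_of_one_lt_right (Nat.pos_of_ne_zero h4) (by omega)) H (L.subgroupOf H) rfl
  let c : G ⧸ H → H.normalCore →* H := fun ω =>
    ((MulAut.conj ω.out⁻¹).toMonoidHom.comp H.normalCore.subtype).codRestrict H fun x => x.2 _
  have h5 := bd_prod (fun ω => (L.subgroupOf H).normalCore.comap (c ω)) (fun _ => _)
    (fun ω => h.comap (c ω)) Finset.univ (L.normalCore.subgroupOf H.normalCore) fun g hg y => by
      have h6 : ((y⁻¹ : G) : G ⧸ H).out⁻¹ * y⁻¹ ∈ H :=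
        QuotientGroup.eq.1 (QuotientGroup.out_eq' ((y⁻¹ : G) : G ⧸ H))
      have h7 := hg (y⁻¹ : G) (Finset.mem_univ _) ⟨_, H.inv_mem h6⟩
      change (_ * y⁻¹)⁻¹ * (((y⁻¹ : G) : G ⧸ H).out⁻¹ * g * ((y⁻¹ : G) : G ⧸ H).out⁻¹⁻¹) *
        (_ * y⁻¹)⁻¹⁻¹ ∈ L at h7
      change y * g * y⁻¹ ∈ L
      convert h7 using 1
      group
  refine ((primperm (ll _) le_rfl hH).rel h5).mono le_rfl (le_of_eq ?_)
  rw [Finset.prod_const, Finset.card_univ, ← Nat.card_eq_fintype_card, ← index, ← pow_mul,
    ← pow_add, ← hL, ← h1]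
  congr 1
  obtain ⟨a, ha⟩ := Nat.exists_eq_succ_of_ne_zero h3
  obtain ⟨b, hb⟩ := Nat.exists_eq_succ_of_ne_zero h4
  rw [ha, hb, Nat.succ_sub_one, Nat.succ_sub_one, Nat.succ_mul, Nat.add_succ_sub_one, add_comm]

theorem sum_pred {ι : Type} [Fintype ι] (d : ι → ℕ) (h : ∀ i, d i ≠ 0) :
    ∑ i, (d i - 1) + Fintype.card ι = ∑ i, d i := by
  rw [← Finset.card_univ, Finset.card_eq_sum_ones, ← Finset.sum_add_distrib]
  exact Finset.sum_congr rfl fun i _ => Nat.sub_add_cancel (Nat.pos_of_ne_zero (h i))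

/-- Solvable permutation groups of degree `t` have at most `3 ^ (t - 1)` classes. -/
theorem perm_gen (G Ω : Type) [Group G] [Finite G] [Group.IsSolvable G] [Finite Ω] [Nonempty Ω]
    [MulAction G Ω] : Bd (aK G Ω) (3 ^ (Nat.card Ω - 1)) := by
  haveI := Fintype.ofFinite (MulAction.orbitRel.Quotient G Ω)
  have h := bd_prod (fun o : MulAction.orbitRel.Quotient G Ω =>
    (MulAction.stabilizer G o.out).normalCore) _ (fun o => perm_trans _ G _ rfl) Finset.univ
    (aK G Ω) fun g hg => mem_aK.2 fun v => by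
      obtain ⟨y, hy⟩ : v ∈ MulAction.orbit G (Quotient.mk (MulAction.orbitRel G Ω) v).out :=
        MulAction.mem_orbit_symm.1 (Quotient.mk_out (s := MulAction.orbitRel G Ω) v)
      have h1 := hg (Quotient.mk (MulAction.orbitRel G Ω) v) (Finset.mem_univ _) y⁻¹
      rw [MulAction.mem_stabilizer_iff, inv_inv, mul_smul, mul_smul, inv_smul_eq_iff] at h1
      exact hy ▸ h1
  refine h.mono le_rfl ?_
  rw [Finset.prod_pow_eq_pow_sum]
  refine Nat.pow_le_pow_right three_pos ?_
  have h1 := sum_pred (fun o : MulAction.orbitRel.Quotient G Ω =>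
    (MulAction.stabilizer G o.out).index) fun _ => index_ne_zero_of_finite
  have h2 : Nat.card Ω = ∑ o : MulAction.orbitRel.Quotient G Ω,
      (MulAction.stabilizer G o.out).index := by
    rw [Nat.card_congr (MulAction.selfEquivSigmaOrbits G Ω), Nat.card_sigma]
    exact Finset.sum_congr rfl fun o _ => by
      rw [MulAction.index_stabilizer, Nat.card_coe_set_eq]
  haveI : Nonempty (MulAction.orbitRel.Quotient G Ω) := ⟨Quotient.mk _ (Classical.arbitrary Ω)⟩
  have h3 : 0 < Fintype.card (MulAction.orbitRel.Quotient G Ω) := Fintype.card_pos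
  omega

end Cfsg.Agent.CH.Kc
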