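import Cfsg.Agent.Small.PermP
import Cfsg.Agent.Solv.Core
import Cfsg.Agent.CharDeep.MGroup

/-! Groups with a Sylow `p`-subgroup `⟨x⟩` of order `p` and a faithful character of degree
`< p - 1`: `O_p'(G)` centralises `x` (`pPrimeCore_le`), `K` is scalar on an exceptional character
of degree `p - e` (`le_charCenter`), passage to `G / Z(G)` (`quot_center`). -/

namespace Cfsg.Agent.CH.Low

open Finset Cfsg.Agent.Char Cfsg.Agent.Small
open scoped ComplexConjugate

variable {p : ℕ} [hp : Fact p.Prime] {G : Type*} [Group G] [Finite G] {x : G} {K : Subgroup G}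

omit [Finite G] in
theorem ne_one (h : DefOne p x K) : x ≠ 1 := fun e => by
  have := h.ord
  rw [e, orderOf_one] at this
  exact hp.out.one_lt.ne this

theorem normal_of_cent (h : DefOne p x K) (hc : ∀ g ∈ Nx x, x * g = g * x) {χ : G → ℂ}
    (hχ : IsCharacter G χ) (hf : ∀ g, χ g = χ 1 → g = 1) (hd : charDegree χ + 1 < p) :
    (Subgroup.zpowers x).Normal := by
  by_contra hn
  have := Fintype.ofFinite (Subgroup.normalClosure {x})
  obtain ⟨φ, h1, h2⟩ := h.exists_nonlinear hn hχ hf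
  obtain ⟨K', h'⟩ := h.exists_defOne_subgroup (H := Subgroup.normalClosure {x})
    (Subgroup.subset_normalClosure rfl)
  have := Fintype.ofFinite K'
  have h4 := (hχ.restrict _).apply_one_re_le_of_classInner_ne_zero φ.2 h2
  rw [φ.2.apply_one_eq_charDegree, OneMemClass.coe_one, hχ.apply_one_eq_charDegree] at h4
  have h5 : charDegree φ.1 ≤ charDegree χ := by exact_mod_cast h4
  have hr : (expo h'.ord).range = ⊥ := by
    rw [eq_bot_iff]
    rintro _ ⟨n, rfl⟩
    rw [Subgroup.mem_bot, expo_eq_one_iff]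
    exact Subtype.ext (hc _ ((Nx_subgroup _).le n.2))
  have hr1 : Nat.card (expo h'.ord).range = 1 := by rw [hr]; simp
  have hpos := φ.2.charDegree_pos
  obtain ⟨θ, X, ψ, δ, ε, a, s, rfl, h6 | h6⟩ := h'.low_cases (χ := φ) (by omega) fun e => by
    have h7 := h.eq_top_normalClosure _ φ.2.isClassFunction.normal_charKer
      (φ.2.isCharacter.mem_charKer.2 e)
    exact h1 (by rw [φ.2.charKer_eq_top_iff.1 h7]; exact charDegree_eq_of_apply_one (by simp))
  · have h7 := (ψ a).2.charDegree_sq_le_index ⊤ (h.eq_top_normalClosure _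
      (ψ a).2.isClassFunction.normal_charCenter (s.mem_charCenter_of_card a h6.1 h6.2 hr1)).ge
    rw [Subgroup.index_top] at h7
    exact h1 (by nlinarith)
  · have h7 := h'.index_inert_mul θ
    rw [h6.2.2.1, hr1, one_mul] at h7
    omega

theorem pPrimeCore_le (h : DefOne p x K) {χ : G → ℂ} (hχ : IsCharacter G χ)
    (hf : ∀ g, χ g = χ 1 → g = 1) (hd : charDegree χ + 1 < p) : pPrimeCore p G ≤ K := by
  set L := pPrimeCore p G
  have hL : ¬ p ∣ Nat.card L := Solv.not_dvd_card_pPrimeCore p G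
  let H : Subgroup G := L ⊔ Subgroup.zpowers x
  have hx : x ∈ H := Subgroup.mem_sup_right (Subgroup.mem_zpowers x)
  obtain ⟨K', h'⟩ := h.exists_defOne_subgroup hx
  have hn := normal_of_cent h' (χ := fun g : H => χ g) (fun g hg => by
    rw [Nx_subgroup] at hg
    obtain ⟨l, hl, u, hu, e⟩ := Subgroup.mem_sup_of_normal_left.1 g.2
    have h1 : l ∈ Nx x := by
      have : l = g * u⁻¹ := by rw [← e]; simp
      exact this ▸ Subgroup.mul_mem _ hg (Subgroup.inv_mem _ (Subgroup.le_normalizer hu))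
    have h2 := h.comm ⟨l, h.comm_of_mem_Nx hL hl h1⟩
    obtain ⟨k, rfl⟩ := hu
    apply Subtype.ext
    simp only [Subgroup.coe_mul] at h2 ⊢
    rw [← e, ← mul_assoc, h2, mul_assoc, mul_assoc, ((Commute.refl x).zpow_right k).eq])
    (hχ.restrict H) (fun g e => Subtype.ext (hf g e)) hd
  intro l hl
  refine h.comm_of_mem_Nx hL hl ?_
  have h1 : (⟨l, Subgroup.mem_sup_left hl⟩ : H) ∈ Nx (⟨x, hx⟩ : H) := by
    rw [Nx, Subgroup.normalizer_eq_top]; trivial
  rwa [Nx_subgroup] at h1

theorem center_le (h : DefOne p x K) (hn : ¬ (Subgroup.zpowers x).Normal) :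
    Subgroup.center G ≤ K := fun z hz => by
  refine (h.mem z).2 ⟨Subgroup.mem_center_iff.1 hz x, fun hd => hn ?_⟩
  obtain ⟨k, hk⟩ := hd
  have h0 : orderOf z ≠ 0 := (orderOf_pos z).ne'
  have hk0 : k ≠ 0 := by rintro rfl; exact h0 (by rw [hk, mul_zero])
  have h1 : orderOf (z ^ k) = p := by
    rw [orderOf_pow_of_dvd hk0 (hk ▸ Dvd.intro_left p rfl), hk, Nat.mul_div_cancel _ (by omega)]
  obtain ⟨j, hj, hc⟩ := h.exists_conj_of_orderOf h1
  obtain ⟨c, hc⟩ := isConj_iff.1 hc
  rw [Subgroup.mem_center_iff.1 (Subgroup.pow_mem _ hz k) c, mul_inv_cancel_right] at hc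
  refine h.normal_of_forall_mem_Nx fun g => mem_Nx_of_conj_xp h.ord hj ?_
  rw [← hc, Subgroup.mem_center_iff.1 (Subgroup.pow_mem _ hz k), mul_inv_cancel_right, hc]
  exact xp_mem x j

/-- Passage to `G / Z(G)`. -/
theorem quot_center (h : DefOne p x (Subgroup.center G)) {χ : G → ℂ} (hχ : IsCharacter G χ)
    (hf : ∀ g, χ g = χ 1 → g = 1) (hd : charDegree χ + 1 < p)
    (hn : ¬ (Subgroup.zpowers x).Normal) :
    ∃ h' : DefOne p (x : G ⧸ Subgroup.center G) ⊥, E[h'] = E[h] ∧
      pPrimeCore p (G ⧸ Subgroup.center G) = ⊥ ∧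
      Nat.card (Sylow p (G ⧸ Subgroup.center G)) ≠ 1 := by
  have hZ := h.not_dvd_card
  have h1 := h.defOne_quotient hZ
  rw [(Subgroup.map_eq_bot_iff _).2 (by rw [QuotientGroup.ker_mk'])] at h1
  have hk : (Nat.card (QuotientGroup.mk' (Subgroup.center G)).ker).Coprime p := by
    rw [QuotientGroup.ker_mk']
    exact ((Nat.Prime.coprime_iff_not_dvd hp.out).2 hZ).symm
  refine ⟨h1, h.range_expo_mk _, ?_, fun e => hn ?_⟩
  · rw [← Solv.map_pPrimeCore (QuotientGroup.mk'_surjective _) hk, Subgroup.map_eq_bot_iff,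
      QuotientGroup.ker_mk']
    exact pPrimeCore_le h hχ hf hd
  · have h2 := normal_of_card_sylow_eq_one e h1.sylow
    rw [h1.coe_sylow] at h2
    refine h.normal_of_forall_mem_Nx fun g => ?_
    obtain ⟨s, hs, h3⟩ := h.exists_mul_mem_Nx (Subgroup.center G) (g := g * x * g⁻¹) (by
      rw [Nx, Subgroup.normalizer_eq_top]; trivial)
    have h4 := Subgroup.mul_mem _ (Subgroup.inv_mem _ (h.K_le hs)) h3
    rwa [inv_mul_cancel_left] at h4

variable [Fintype K] {h : DefOne p x K} {θ : IrrCharacter K} {X : Finset (IrrCharacter G)}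
  {φ : (ZMod p)ˣ → IrrCharacter G} {δ : IrrCharacter G → ℤ} {ε : ℤ}

theorem res_eq (s : Shape h θ X φ δ ε) (a : (ZMod p)ˣ) (hε : ε = -1)
    (h1 : charDegree θ.1 = 1) (hd : charDegree (φ a).1 + Nat.card (h.EE θ) = p) :
    (fun y : K => (φ a).1 y) = (φ a).1 1 • θ.1 := by
  have hχ := (φ a).2.isCharacter
  have h2 := h.uu_eq_sum_aa hχ θ.2.isCharacter 0
  have h3 := s.sum_aa_φ a
  have h4 := s.mult_φ_pos a hε
  simp only [if_true, mul_zero, ee_zero, mul_one] at h2
  rw [← Int.cast_sum, h3, hε, uu] at h2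
  simp only [xp_zero, one_mul] at h2
  obtain ⟨c, hc, e⟩ := (hχ.restrict K).exists_nat_coeff
  have h5 : charDegree (φ a).1 ≤ c θ := by
    rw [hc θ] at h2
    have h6 : (c θ : ℤ) = p * mult x (φ a).1 θ.1 (0 : ZMod p) - Nat.card (h.EE θ) := by
      apply Int.cast_injective (α := ℂ)
      push_cast at h2 ⊢
      linear_combination h2
    have h7 := Nat.mul_le_mul_left p h4
    have h8 : (p : ℤ) ≤ p * mult x (φ a).1 θ.1 (0 : ZMod p) := by exact_mod_cast by simpa using h7
    omega
  classical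
  have h6 := charDegree_eq_sum e
  rw [← add_sum_erase _ _ (mem_univ θ), h1, mul_one,
    show charDegree (fun y : K => (φ a).1 y) = charDegree (φ a).1 from rfl] at h6
  have h7 := sum_eq_zero_iff.1 (show ∑ ψ ∈ univ.erase θ, c ψ * charDegree ψ.1 = 0 by omega)
  rw [e, ← add_sum_erase _ _ (mem_univ θ), sum_eq_zero fun ψ hψ => by
    rw [(mul_eq_zero.1 (h7 ψ hψ)).resolve_right ψ.2.charDegree_pos.ne']; simp, add_zero,
    hχ.apply_one_eq_charDegree, show c θ = charDegree (φ a).1 by omega]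

theorem le_charCenter (s : Shape h θ X φ δ ε) (a : (ZMod p)ˣ) (hε : ε = -1)
    (h1 : charDegree θ.1 = 1) (hd : charDegree (φ a).1 + Nat.card (h.EE θ) = p) :
    K ≤ charCenter (φ a).1 :=
  CharDeep.le_charCenter_of_res_eq_smul K (φ a).2.isCharacter θ.2.isCharacter
    (by rw [θ.2.apply_one_eq_charDegree, h1, Nat.cast_one]) (res_eq s a hε h1 hd)

theorem apply_X_central (s : Shape h θ X φ δ ε) (hK : K ≤ Subgroup.center G)
    (hi : (h.inert θ).index = 1) (h1 : charDegree θ.1 = 1) {χ : IrrCharacter G} (hχ : χ ∈ X)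
    (y : K) : χ.1 y = χ.1 1 * θ.1 y := by
  have hθ : ∀ n, h.cj n θ = θ := fun n =>
    h.mem_inert.1 (by rw [Subgroup.index_eq_one.1 hi]; trivial)
  have h2 := fun y => h.apply_eq_of_invariant (s.X_mem hχ) hθ one_ne_zero y
  simp only [s.uu_X hχ one_ne_zero] at h2
  obtain ⟨ω, -, hω⟩ := χ.2.center_le_charCenter (hK y.2)
  have h3 := h2 1
  have h4 := h2 y
  rw [h.comm_xp, hω] at h4
  rw [OneMemClass.coe_one, mul_one, θ.2.apply_one_eq_charDegree, h1, Nat.cast_one, mul_one] at h3
  have h5 := hω 1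
  rw [mul_one] at h5
  rw [h5, ← one_mul ω, ← s.δ_sq hχ, ← one_mul (θ.1 y), ← s.δ_sq hχ, mul_assoc _ _ (θ.1 y), ← h4, h3]
  ring

omit [Finite G] in
/-- A group with `G' ∩ Z = 1` and perfect central quotient is `G / Z × Z`. -/
theorem equiv_prod (h1 : Disjoint (commutator G) (Subgroup.center G))
    (h2 : commutator (G ⧸ Subgroup.center G) = ⊤) :
    Nonempty (G ≃* (G ⧸ Subgroup.center G) × Subgroup.center G) := by
  let f : commutator G →* G ⧸ Subgroup.center G :=
    (QuotientGroup.mk' _).comp (commutator G).subtype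
  have hf : Function.Bijective f := by
    constructor
    · rw [injective_iff_map_eq_one]
      intro a ha
      exact Subtype.ext (Subgroup.disjoint_def.1 h1 a.2 ((QuotientGroup.eq_one_iff _).1 ha))
    · intro q
      have h3 : q ∈ (commutator G).map (QuotientGroup.mk' (Subgroup.center G)) := by
        rw [commutator_def, Subgroup.map_commutator, Subgroup.map_top_of_surjective _
          (QuotientGroup.mk'_surjective _), ← commutator_def, h2]
        trivial
      obtain ⟨a, ha, rfl⟩ := h3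
      exact ⟨⟨a, ha⟩, rfl⟩
  let g : commutator G × Subgroup.center G →* G :=
    MonoidHom.noncommCoprod (commutator G).subtype (Subgroup.center G).subtype
      fun a b => Subgroup.mem_center_iff.1 b.2 a
  have hg : Function.Bijective g := by
    constructor
    · rw [injective_iff_map_eq_one]
      rintro ⟨a, b⟩ e
      have e' : (a : G) * b = 1 := e
      have h3 : (a : G) = 1 := Subgroup.disjoint_def.1 h1 a.2 (by
        rw [eq_inv_of_mul_eq_one_left e']; exact Subgroup.inv_mem _ b.2)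
      rw [h3, one_mul] at e'
      exact Prod.ext (Subtype.ext h3) (Subtype.ext e')
    · intro c
      obtain ⟨a, ha⟩ := hf.2 c
      exact ⟨(a, ⟨(a : G)⁻¹ * c, QuotientGroup.eq.1 ha⟩), mul_inv_cancel_left _ _⟩
  exact ⟨(MulEquiv.ofBijective g hg).symm.trans
    ((MulEquiv.ofBijective f hf).prodCongr (MulEquiv.refl _))⟩

end Cfsg.Agent.CH.Low
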