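import Cfsg.Agent.CH.Low1

/-! Feit's theorem on faithful characters of degree `p - 2` (Sylow `p`-subgroup of order `p`):
the class-multiplication sums `SS` agree for all blocks (`SS_eq`), which forces a linear
character and one of degree `p - 1` in the block (`exists_linear`). -/

namespace Cfsg.Agent.CH.Low

open Finset Cfsg.Agent.Char Cfsg.Agent.Small
open scoped ComplexConjugate

theorem norm_identity (A C : ℂ) {a c : ℝ} (ha : 0 < a) (hc : 0 < c) :
    ‖A‖ ^ 2 / a + ‖C‖ ^ 2 / c - ‖A + C‖ ^ 2 / (a + c) =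
      ‖c * A - a * C‖ ^ 2 / (a * c * (a + c)) := by
  simp only [Complex.sq_norm, Complex.normSq_apply, Complex.add_re, Complex.add_im,
    Complex.sub_re, Complex.sub_im, Complex.mul_re, Complex.mul_im, Complex.ofReal_re,
    Complex.ofReal_im]
  field_simp
  ring

theorem lower {p f c : ℕ} (hp : 0 < p) (hc : 0 < c) (hf : p * f ≤ c + 1) {C : ℂ}
    (hC : ‖1 + C‖ ≤ f) :
    (((p : ℝ) - 1) / p) ^ 2 ≤ ‖(1 : ℂ)‖ ^ 2 / 1 + ‖C‖ ^ 2 / c - ‖1 + C‖ ^ 2 / (1 + c) := by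
  have hc' : (0 : ℝ) < c := by exact_mod_cast hc
  have hp' : (1 : ℝ) ≤ p := by exact_mod_cast hp
  have hf' : (p : ℝ) * f ≤ c + 1 := by exact_mod_cast hf
  rw [norm_identity _ _ one_pos hc']
  have h1 : (c : ℝ) + 1 - f ≤ ‖((c : ℝ) : ℂ) * 1 - ((1 : ℝ) : ℂ) * C‖ := by
    have h2 := norm_sub_norm_le (((c + 1 : ℝ) : ℂ)) (1 + C)
    rw [Complex.norm_real, Real.norm_of_nonneg (by positivity)] at h2
    have h3 : ((c + 1 : ℝ) : ℂ) - (1 + C) = ((c : ℝ) : ℂ) * 1 - ((1 : ℝ) : ℂ) * C := by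
      push_cast; ring
    rw [h3] at h2
    linarith
  have h2 : (p - 1) / p * (c + 1) ≤ (c : ℝ) + 1 - f := by
    rw [div_mul_eq_mul_div, div_le_iff₀ (by linarith)]
    nlinarith
  have h3 : 0 ≤ ((p : ℝ) - 1) / p := div_nonneg (by linarith) (by linarith)
  have h4 := pow_le_pow_left₀ (by positivity) (h2.trans h1) 2
  rw [le_div_iff₀ (by positivity)]
  refine le_trans ?_ h4
  rw [mul_pow]
  exact mul_le_mul_of_nonneg_left (by nlinarith) (by positivity)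

theorem upper {p u a d : ℕ} (hp : 7 ≤ p) (hu : 1 ≤ u) (ha : a = u * p + 1) (hd : d + 2 = p)
    {A C : ℂ} (hC : ‖C‖ = 1) (hB : ‖A + C‖ ≤ u) :
    ‖A‖ ^ 2 / a + ‖C‖ ^ 2 / d - ‖A + C‖ ^ 2 / (a + d) < (((p : ℝ) - 1) / p) ^ 2 := by
  have hp' : (7 : ℝ) ≤ p := by exact_mod_cast hp
  have hu' : (1 : ℝ) ≤ u := by exact_mod_cast hu
  have ha' : (a : ℝ) = u * p + 1 := by exact_mod_cast ha
  have hd' : (d : ℝ) = p - 2 := by rw [← hd]; push_cast; ring
  have ha0 : (0 : ℝ) < a := by rw [ha']; positivity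
  have hd0 : (0 : ℝ) < d := by linarith
  rw [norm_identity _ _ ha0 hd0]
  have h1 : ‖((d : ℝ) : ℂ) * A - ((a : ℝ) : ℂ) * C‖ ≤ (2 * u + 1) * (p - 1) := by
    have h2 : ((d : ℝ) : ℂ) * A - ((a : ℝ) : ℂ) * C =
        ((d : ℝ) : ℂ) * (A + C) - ((a + d : ℝ) : ℂ) * C := by push_cast; ring
    rw [h2]
    refine (norm_sub_le _ _).trans ?_
    rw [norm_mul, norm_mul, Complex.norm_real, Complex.norm_real, Real.norm_of_nonneg hd0.le,
      Real.norm_of_nonneg (by positivity), hC]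
    have := mul_le_mul_of_nonneg_left hB hd0.le
    rw [ha', hd'] at *
    nlinarith
  have h2 := pow_le_pow_left₀ (norm_nonneg _) h1 2
  rw [div_lt_iff₀ (by positivity), div_pow, div_mul_eq_mul_div, lt_div_iff₀ (by positivity)]
  refine lt_of_le_of_lt (mul_le_mul_of_nonneg_right h2 (by positivity)) ?_
  rw [mul_pow, mul_comm ((2 * (u : ℝ) + 1) ^ 2), mul_assoc]
  refine mul_lt_mul_of_pos_left ?_ (by nlinarith)
  have h3 : (u : ℝ) * (u + 1) * p ^ 2 ≤ a * (a + d) := by rw [ha', hd']; nlinarith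
  have h4 : (2 * (u : ℝ) + 1) ^ 2 < 5 * (u * (u + 1)) := by nlinarith
  have h5 : (0 : ℝ) < u * (u + 1) * p ^ 2 := by positivity
  calc (2 * (u : ℝ) + 1) ^ 2 * p ^ 2 < 5 * (u * (u + 1)) * p ^ 2 :=
        mul_lt_mul_of_pos_right h4 (by positivity)
    _ ≤ d * (a * (a + d)) := by
        rw [mul_assoc]; exact mul_le_mul (by linarith) h3 h5.le hd0.le
    _ = a * d * (a + d) := by ring

variable {p : ℕ} [hp : Fact p.Prime] {G : Type*} [Group G] [Finite G] {x : G} {K : Subgroup G}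
  [Fintype K]

/-- The contribution of the block over `θ` to the number of factorisations `x = j₁ j₂`. -/
noncomputable def SS (p : ℕ) [Fact p.Prime] (x j : G) (θ : K → ℂ) : ℂ :=
  ∑ χ : IrrCharacter G, (‖χ.1 j‖ ^ 2 / charDegree χ.1 : ℝ) * conj (uu x χ.1 θ (1 : ZMod p))

theorem sum_pairs (h : DefOne p x K) (j : G) (θ : K → ℂ) :
    ∑ y : K, θ y * Nat.card {w : G × G // w.1 * j * w.1⁻¹ * (w.2 * j⁻¹ * w.2⁻¹) = x * y} =
      Nat.card G * Nat.card K * SS p x j θ := by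
  have := Fintype.ofFinite G
  simp only [card_mul_conj_pairs, SS, uu, classInner, xp_one h.ord, mul_sum, map_mul, map_sum,
    Complex.conj_conj, map_inv₀, map_natCast]
  rw [sum_comm]
  refine sum_congr rfl fun χ _ => sum_congr rfl fun y _ => ?_
  have := natCard_cast_ne_zero (G := K)
  rw [χ.2.apply_inv, Complex.mul_conj', χ.2.apply_one_eq_charDegree]
  push_cast
  field_simp

omit [Fintype K] in
theorem no_pairs (h : DefOne p x K) (hK : K ≤ Subgroup.center G) {ζ : G → ℂ}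
    (hζ : IsIrrCharacter G ζ) (hf : ∀ g, ζ g = ζ 1 → g = 1) {j : Nx x}
    (hj : (expo h.ord j : ZMod p) = -1) (h2 : p ≠ 2) (h0 : ζ j ≠ 0) {y : K} (u v : G)
    (e : u * j * u⁻¹ * (v * (j : G)⁻¹ * v⁻¹) = x * y) : y = 1 := by
  have hm : (-1 : ZMod p) ≠ 1 := fun e => h2 ((Nat.prime_dvd_prime_iff_eq hp.out Nat.prime_two).1
    ((ZMod.natCast_eq_zero_iff 2 p).1 (by push_cast; linear_combination -e)))
  have hc : ∀ z : K, ∀ g : G, g * z = z * g := fun z g => Subgroup.mem_center_iff.1 (hK z.2) g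
  obtain ⟨i, z, hz⟩ := h.dec (j * j) ((expo_eq_one_iff h.ord (j * j)).1 (Units.ext (by
    rw [map_mul, Units.val_mul, hj]; simp)))
  have hi : i = 0 := by
    have h1 := h.conj_mul j i z
    rw [← hz, ← mul_assoc, mul_inv_cancel_right, hz, hj] at h1
    have h3 := (h.eq_of_mul_eq h1).1
    by_contra h4
    exact hm (mul_right_cancel₀ h4 (by rw [← h3, one_mul]))
  rw [hi, xp_zero, one_mul] at hz
  set g := u * j * u⁻¹ with hg
  set g' := v * j * v⁻¹ with hg'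
  have h1 : g * g = z := by rw [hg, _root_.conj_mul, hz, hc z u, mul_inv_cancel_right]
  have h3 : g' * g' = z := by rw [hg', _root_.conj_mul, hz, hc z v, mul_inv_cancel_right]
  have h4 : g * g'⁻¹ = x * y := by rw [← e, hg']; simp [mul_assoc]
  have h5 : g * (xp x (1 : ZMod p) * y) * g⁻¹ = xp x (-1 : ZMod p) * (y⁻¹ : K) := by
    rw [xp_neg h.ord, xp_one h.ord, Subgroup.coe_inv, ← Subgroup.coe_inv, hc y⁻¹,
      Subgroup.coe_inv, ← mul_inv_rev, ← h4, ← mul_assoc, h1, ← h3]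
    group
  have h6 := h.mem_Nx_of_conj one_ne_zero h5
  have h7 : expo h.ord ⟨g, h6⟩ ≠ 1 := fun e => by
    have h8 := h.conj_mul ⟨g, h6⟩ 1 y
    rw [e, h5] at h8
    exact hm (by simpa using (h.eq_of_mul_eq h8).1)
  have h8 : ζ g = ζ (g * xp x (-1 : ZMod p)) :=
    hζ.isClassFunction.apply_eq_of_isConj (isConj_mul_xp h.ord h7 (-1))
  obtain ⟨ω, -, hω⟩ := hζ.center_le_charCenter (hK y.2)
  have h9 : y * g' = g⁻¹ * (g * xp x (-1 : ZMod p)) * g⁻¹⁻¹ := by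
    rw [xp_neg h.ord, xp_one h.ord, inv_mul_cancel_left, inv_inv, eq_inv_mul_iff_mul_eq,
      ← mul_assoc, ← h4, inv_mul_cancel_right]
  have h10 := hω g'
  rw [h9, hζ.isClassFunction, ← h8, hg, hg', hζ.isClassFunction, hζ.isClassFunction] at h10
  have h11 := hω 1
  rw [mul_one, mul_right_cancel₀ h0 (h10.symm.trans (one_mul _).symm), one_mul] at h11
  exact Subtype.ext (hf _ h11)

omit [Fintype K] in
theorem not_dvd_orderOf (h : DefOne p x K) {j : Nx x} (hj : expo h.ord j ≠ 1) :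
    ¬ p ∣ orderOf (j : G) := by
  rintro ⟨k, hk⟩
  have h0 : orderOf (j : G) ≠ 0 := (orderOf_pos _).ne'
  have hk0 : k ≠ 0 := by rintro rfl; exact h0 (by rw [hk, mul_zero])
  have h1 : orderOf ((j : G) ^ k) = p := by
    rw [orderOf_pow_of_dvd hk0 (hk ▸ Dvd.intro_left p rfl), hk, Nat.mul_div_cancel _ (by omega)]
  obtain ⟨i, hi⟩ := (mem_zpowers_iff_xp h.ord).1
    (h.mem_zpowers_of_mem_Nx (Subgroup.pow_mem _ j.2 k) h1)
  have h2 : i ≠ 0 := by
    rintro rfl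
    rw [hi, xp_zero, orderOf_one] at h1
    exact hp.out.one_lt.ne h1
  have h3 := conj_xp_expo h.ord j i
  rw [← hi, ((Commute.refl (j : G)).pow_right k).eq, mul_inv_cancel_right, hi] at h3
  exact hj (Units.ext (mul_right_cancel₀ h2 (by rw [← xp_injective h.ord h3]; simp)))

theorem SS_eq (h : DefOne p x K) (hK : K ≤ Subgroup.center G) {ζ : G → ℂ}
    (hζ : IsIrrCharacter G ζ) (hf : ∀ g, ζ g = ζ 1 → g = 1) {j : Nx x}
    (hj : (expo h.ord j : ZMod p) = -1) (h2 : p ≠ 2) (h0 : ζ j ≠ 0) {θ θ' : K → ℂ}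
    (e : θ 1 = θ' 1) : SS p x j θ = SS p x j θ' := by
  have key : ∀ θ : K → ℂ, θ 1 * Nat.card {w : G × G //
      w.1 * j * w.1⁻¹ * (w.2 * (j : G)⁻¹ * w.2⁻¹) = x * (1 : K)} =
        Nat.card G * Nat.card K * SS p x j θ := fun θ => by
    rw [← sum_pairs h, sum_eq_single 1 (fun y _ hy => ?_) (by simp)]
    have : IsEmpty {w : G × G // w.1 * j * w.1⁻¹ * (w.2 * (j : G)⁻¹ * w.2⁻¹) = x * y} :=
      ⟨fun w => hy (no_pairs h hK hζ hf hj h2 h0 _ _ w.2)⟩
    simp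
  apply mul_left_cancel₀ (mul_ne_zero (natCard_cast_ne_zero (G := G))
    (natCard_cast_ne_zero (G := K)))
  rw [← key, ← key, e]

variable {h : DefOne p x K} {θ : IrrCharacter K} {X : Finset (IrrCharacter G)}
  {φ : (ZMod p)ˣ → IrrCharacter G} {δ : IrrCharacter G → ℤ} {ε : ℤ}

theorem SS_shape (s : Shape h θ X φ δ ε) {j : G} (hj : ¬ p ∣ orderOf j) (a : (ZMod p)ˣ) :
    SS p x j θ.1 = (∑ χ ∈ X, δ χ * (‖χ.1 j‖ ^ 2 / charDegree χ.1) -
      ε * (‖(φ a).1 j‖ ^ 2 / charDegree (φ a).1) : ℝ) := by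
  rw [SS, s.sum_irr_split, sum_eq_zero (s := Rest _ _ _) fun χ hχ => by
    rw [h.uu_eq_zero_of_notMem (mem_Rest.1 hχ) one_ne_zero]; simp, add_zero]
  have h1 := s.card_smul_sum_Phi fun χ => uu x χ.1 θ.1 (1 : ZMod p)
  simp only [s.uu_φ _ one_ne_zero] at h1
  rw [← mul_sum, sum_eta_ne_zero _ one_ne_zero, nsmul_eq_mul] at h1
  have h2 : ∑ χ ∈ Phi φ, uu x χ.1 θ.1 (1 : ZMod p) = -ε := by
    apply mul_left_cancel₀ (natCard_cast_ne_zero (G := h.EE θ))
    rw [h1]; ring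
  rw [sum_congr rfl (s₂ := Phi φ) (g := fun χ => (‖(φ a).1 j‖ ^ 2 / charDegree (φ a).1 : ℝ) *
    conj (uu x χ.1 θ.1 (1 : ZMod p))) fun χ hχ => by
      obtain ⟨b, rfl⟩ := mem_Phi.1 hχ
      rw [s.φ_regular hj b a, s.degree_φ_eq b a], ← mul_sum, ← map_sum, h2]
  rw [sum_congr rfl (s₂ := X) (g := fun χ => ((δ χ * (‖χ.1 j‖ ^ 2 / charDegree χ.1) : ℝ) : ℂ))
    fun χ hχ => by rw [s.uu_X hχ one_ne_zero]; simp [mul_comm]]
  simp
  ring

theorem SS_principal (h : DefOne p x K) (hE : Nat.card E[h] = 2) {j : Nx x}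
    (hj : expo h.ord j ≠ 1) (hj' : ¬ p ∣ orderOf (j : G)) :
    ∃ r : ℝ, SS p x j (irrOne K).1 = r ∧ (((p : ℝ) - 1) / p) ^ 2 ≤ r := by
  classical
  obtain ⟨X, φ, δ, ε, s⟩ := h.exists_pshape
  obtain ⟨ψ, h1, rfl, h2⟩ := s.exists_two hE
  refine ⟨_, SS_shape s.toShape hj' 1, ?_⟩
  have hψ : ψ ∈ ({irrOne G, ψ} : Finset _) := by simp
  have h3 := s.regular' hj' 1
  rw [erase_insert (by simpa using h1.symm), sum_singleton] at h3
  have h4 := h2 1
  have h5 := ψ.2.charDegree_pos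
  have h6 := (φ 1).2.charDegree_pos
  rw [sum_pair h1.symm, s.δ_one, charDegree_irrOne, irrOne_apply]
  rcases s.ε_sign with e | e <;> rcases s.δ_sign ψ hψ with e' | e' <;> rw [e, e'] at h3 h4 ⊢
  · have h7 := s.φ_pos 1 e
    have h8 := norm_le_fixd h.ord (φ 1).2.isCharacter hj
    have h9 : (φ 1).1 j = 1 + ψ.1 j := by simpa using h3
    have h10 : (charDegree (φ 1).1 : ℝ) = 1 + charDegree ψ.1 := by
      exact_mod_cast (show charDegree (φ 1).1 = 1 + charDegree ψ.1 by omega)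
    rw [h9] at h8
    have := lower hp.out.pos h5 (by omega) h8
    rw [h9, h10]
    push_cast
    linarith
  · omega
  · omega
  · have h7 := s.X_neg hψ e'
    have h8 := norm_le_fixd h.ord ψ.2.isCharacter hj
    have h9 : ψ.1 j = 1 + (φ 1).1 j := by push_cast at h3; linear_combination h3
    have h10 : (charDegree ψ.1 : ℝ) = 1 + charDegree (φ 1).1 := by
      exact_mod_cast (show charDegree ψ.1 = 1 + charDegree (φ 1).1 by omega)
    rw [h9] at h8
    have := lower hp.out.pos h6 (f := fixd p x ψ.1) (by have := hp.out.pos; omega) h8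
    rw [h9, h10]
    push_cast
    linarith

theorem exists_linear (s : Shape h θ X φ δ ε) (hK : K ≤ Subgroup.center G) (a : (ZMod p)ˣ)
    (hf : ∀ g, (φ a).1 g = (φ a).1 1 → g = 1) (h7 : 7 ≤ p) (hε : ε = -1)
    (h1 : fixd p x (φ a).1 = 1) (hi : (h.inert θ).index = 1) (hθ : charDegree θ.1 = 1)
    (hd : charDegree (φ a).1 + 2 = p) (hE : Nat.card (h.EE θ) = 2) :
    ∃ ξ ∈ X, ∃ ξ' ∈ X, δ ξ = 1 ∧ δ ξ' = -1 ∧ charDegree ξ.1 = 1 ∧ charDegree ξ'.1 + 1 = p := by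
  classical
  have hE' : Nat.card E[h] = 2 := by rw [← h.index_inert_mul θ, hi, hE]
  obtain ⟨⟨_, j, rfl⟩, hj⟩ := exists_prime_orderOf_dvd_card' (G := E[h]) 2 (by rw [hE'])
  have hj1 : expo h.ord j ≠ 1 := fun e => by
    rw [← Subgroup.orderOf_coe] at hj; simp [e] at hj
  have hj2 : (expo h.ord j : ZMod p) = -1 := by
    have h2 := congrArg (fun u : E[h] => ((u : (ZMod p)ˣ) : ZMod p)) (hj ▸ pow_orderOf_eq_one
      (⟨expo h.ord j, j, rfl⟩ : E[h]))
    simp only [SubmonoidClass.coe_pow, Units.val_pow_eq_pow_val, OneMemClass.coe_one,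
      Units.val_one] at h2
    exact (sq_eq_one_iff.1 h2).resolve_left fun e => hj1 (Units.ext e)
  have hj3 := not_dvd_orderOf h hj1
  have hn := norm_eq_one_of_fixd h.ord (φ a).2.isCharacter h1 hj1
  have hθ1 : θ.1 1 = (irrOne K).1 1 := by simp [θ.2.apply_one_eq_charDegree, hθ]
  have h2 := SS_eq h hK (φ a).2 hf hj2 (by omega) (fun e => by simp [e] at hn) hθ1
  obtain ⟨r, hr, h3⟩ := SS_principal h hE' hj1 hj3
  rw [hr, SS_shape s hj3 a, Complex.ofReal_inj] at h2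
  obtain ⟨ξ, ξ', hne, rfl⟩ := card_eq_two.1 (s.card_X.trans hE)
  have h4 := s.degree_eq a
  have h5 := s.regular hj3 a
  wlog e : δ ξ = 1 ∧ δ ξ' = -1 generalizing ξ ξ'
  · have h6 : ξ ∈ ({ξ, ξ'} : Finset _) := by simp
    have h8 : ξ' ∈ ({ξ, ξ'} : Finset _) := by simp
    have h9 : δ ξ' = 1 ∧ δ ξ = -1 := by
      rw [sum_pair hne, hε] at h4
      rcases s.δ_sign ξ h6 with e1 | e1 <;> rcases s.δ_sign ξ' h8 with e2 | e2
      · rw [e1, e2] at h4; omega
      · exact absurd ⟨e1, e2⟩ e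
      · exact ⟨e2, e1⟩
      · have := s.fixd_X_neg h6 e1
        have := ξ'.2.charDegree_pos
        rw [e1, e2] at h4
        rw [hi, hθ] at *
        omega
    rw [pair_comm] at s h2 h4 h5 ⊢
    exact this ξ' ξ hne.symm s h2 h4 h5 h9
  have h6 : ξ ∈ ({ξ, ξ'} : Finset _) := by simp
  have h8 : ξ' ∈ ({ξ, ξ'} : Finset _) := by simp
  have h9 := s.fixd_X_pos h6 e.1
  have h10 := s.fixd_X_neg h8 e.2
  rw [sum_pair hne, hε, e.1, e.2] at h2 h4 h5
  rw [hi, hθ] at h9 h10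
  have h11 : fixd p x ξ.1 = fixd p x ξ'.1 + 1 := by
    apply Nat.eq_of_mul_eq_mul_left hp.out.pos
    rw [mul_add]; omega
  refine ⟨ξ, h6, ξ', h8, e.1, e.2, ?_⟩
  rcases Nat.eq_zero_or_pos (fixd p x ξ'.1) with h12 | h12
  · rw [h11, h12] at h9; rw [h12] at h10; omega
  exfalso
  have h13 : ξ'.1 j = ξ.1 j + (φ a).1 j := by push_cast at h5; linear_combination h5
  have h14 := norm_le_fixd h.ord ξ'.2.isCharacter hj1
  have h15 : (charDegree ξ'.1 : ℝ) = charDegree ξ.1 + charDegree (φ a).1 := by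
    exact_mod_cast (show charDegree ξ'.1 = charDegree ξ.1 + charDegree (φ a).1 by omega)
  rw [h13] at h14 h2
  have := upper h7 h12 (a := charDegree ξ.1) (by rw [h11, mul_add] at h9; linarith) hd hn h14
  rw [h15] at h2
  push_cast at h2
  linarith

end Cfsg.Agent.CH.Low
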