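import Cfsg.Agent.CH.Low1
import Cfsg.Agent.Classical.DicksonPGL
import Cfsg.Agent.Small.Brauer2

/-! `O₃(K) / ±1 ≤ PGL₂(K)` for algebraically closed `K` (`exists_pgl`), and groups with a
self-centralising Sylow subgroup of order `p` inside `PGL₂(K)` (`card_of_pgl`, `psl_of_pgl`). -/

namespace Cfsg.Agent.CH.Low

open Matrix MulAction Cfsg.Agent.Small Cfsg.Agent.Classical
open scoped MatrixGroups

variable {K : Type*} [Field K]

/-- The symmetric square of a `2 × 2` matrix. -/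
def sym2 (P : Matrix (Fin 2) (Fin 2) K) : Matrix (Fin 3) (Fin 3) K :=
  !![P 0 0 ^ 2, 2 * P 0 0 * P 0 1, P 0 1 ^ 2;
    P 0 0 * P 1 0, P 0 0 * P 1 1 + P 1 0 * P 0 1, P 0 1 * P 1 1;
    P 1 0 ^ 2, 2 * P 1 0 * P 1 1, P 1 1 ^ 2]

/-- The Gram matrix of the polar form of `b² - a c`. -/
def JJ (K : Type*) [Field K] : Matrix (Fin 3) (Fin 3) K := !![0, 0, -1; 0, 2, 0; -1, 0, 0]

theorem sym2_mul (P Q : Matrix (Fin 2) (Fin 2) K) : sym2 (P * Q) = sym2 P * sym2 Q := by
  ext i j
  fin_cases i <;> fin_cases j <;> simp [sym2, mul_apply, Fin.sum_univ_succ] <;> ring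

theorem sym2_one : sym2 (1 : Matrix (Fin 2) (Fin 2) K) = 1 := by
  ext i j
  fin_cases i <;> fin_cases j <;> simp [sym2]

theorem exists_iso [IsAlgClosed K] {a b d : K} (h : b ^ 2 = a * d) :
    ∃ s t, a = s ^ 2 ∧ b = s * t ∧ d = t ^ 2 := by
  by_cases ha : a = 0
  · obtain ⟨t, ht⟩ := IsAlgClosed.exists_pow_nat_eq d two_pos
    rw [ha, zero_mul, pow_eq_zero_iff two_ne_zero] at h
    exact ⟨0, t, by simp [ha], by simp [h], ht.symm⟩
  · obtain ⟨s, hs⟩ := IsAlgClosed.exists_pow_nat_eq a two_pos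
    have h0 : s ≠ 0 := by rintro rfl; exact ha (by simpa using hs.symm)
    refine ⟨s, b / s, hs.symm, by field_simp, ?_⟩
    rw [div_pow, h, hs]; field_simp

theorem exists_sym2 [IsAlgClosed K] (h2 : (2 : K) ≠ 0) {σ : Matrix (Fin 3) (Fin 3) K}
    (hσ : σᵀ * JJ K * σ = JJ K) : ∃ P : SL(2, K), σ = sym2 P ∨ σ = -sym2 P := by
  have e := fun i j => congrFun (congrFun hσ i) j
  have e00 := e 0 0
  have e22 := e 2 2
  have e02 := e 0 2
  have e01 := e 0 1
  have e21 := e 2 1
  have e11 := e 1 1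
  simp [JJ, mul_apply, Fin.sum_univ_succ] at e00 e22 e02 e01 e21 e11
  obtain ⟨s, t, hs1, hs2, hs3⟩ := exists_iso (a := σ 0 0) (b := σ 1 0) (d := σ 2 0)
    (mul_left_cancel₀ h2 (by linear_combination e00))
  obtain ⟨u, v, hu1, hu2, hu3⟩ := exists_iso (a := σ 0 2) (b := σ 1 2) (d := σ 2 2)
    (mul_left_cancel₀ h2 (by linear_combination e22))
  rw [hs1, hs2, hs3] at e02 e01
  rw [hu1, hu2, hu3] at e02 e21
  wlog hD : s * v - t * u = 1 generalizing u v
  · have h1 : (s * v - t * u) ^ 2 = 1 := by linear_combination -e02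
    refine this (-u) (-v) (by linear_combination e21) (by linear_combination e02)
      (by linear_combination hu1) (by linear_combination hu2) (by linear_combination hu3) ?_
    linear_combination -(sq_eq_one_iff.1 h1).resolve_left hD
  obtain ⟨l, hl⟩ : ∃ l, l = -(t * v) * σ 0 1 + (s * v + t * u) * σ 1 1 - s * u * σ 2 1 := ⟨_, rfl⟩
  have h0 : σ 0 1 = 2 * s * u * l := by
    linear_combination -s ^ 2 * e21 - u ^ 2 * e01 - 2 * s * u * hl -
      σ 0 1 * (1 + s * v - t * u) * hD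
  have h1 : σ 1 1 = (s * v + t * u) * l := by
    linear_combination -s * t * e21 - u * v * e01 - (s * v + t * u) * hl -
      σ 1 1 * (1 + s * v - t * u) * hD
  have h3 : σ 2 1 = 2 * t * v * l := by
    linear_combination -t ^ 2 * e21 - v ^ 2 * e01 - 2 * t * v * hl -
      σ 2 1 * (1 + s * v - t * u) * hD
  have h4 : l ^ 2 = 1 := by
    rw [h0, h1, h3] at e11
    apply mul_left_cancel₀ h2
    linear_combination e11 - 2 * l ^ 2 * (1 + s * v - t * u) * hD
  rcases sq_eq_one_iff.1 h4 with rfl | rfl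
  · refine ⟨⟨!![s, u; t, v], by rw [det_fin_two_of]; linear_combination hD⟩, Or.inl ?_⟩
    ext i j
    fin_cases i <;> fin_cases j <;> simp [sym2, hs1, hs2, hs3, hu1, hu2, hu3, h0, h1, h3]
  · obtain ⟨i, hi⟩ := IsAlgClosed.exists_pow_nat_eq (-1 : K) two_pos
    refine ⟨⟨!![s * i, -u * i; t * i, -v * i], by
      rw [det_fin_two_of]; linear_combination hD - (s * v - t * u) * hi⟩, Or.inr ?_⟩
    ext a b
    fin_cases a <;> fin_cases b <;> simp [sym2, hs1, hs2, hs3, hu1, hu2, hu3, h0, h1, h3] <;>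
      ring_nf <;> simp [hi, sub_eq_add_neg]

theorem toPGL_eq_one_iff (h2 : (2 : K) ≠ 0) (P : SL(2, K)) :
    Matrix.SpecialLinearGroup.toPGL P = 1 ↔ sym2 P.1 = 1 ∨ sym2 P.1 = -1 := by
  rw [← MonoidHom.mem_ker, Matrix.SpecialLinearGroup.toPGL_ker, Matrix.SpecialLinearGroup.mem_center_iff]
  constructor
  · rintro ⟨r, hr, e⟩
    left
    rw [← e]
    ext i j
    rw [Fintype.card_fin] at hr
    fin_cases i <;> fin_cases j <;> simp [sym2, hr, ← sq]
  · intro h
    have hd := P.det_coe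
    rw [det_fin_two] at hd
    have ht : P.1 1 0 = 0 := by
      rcases h with h | h <;> simpa [sym2] using congrFun (congrFun h 2) 0
    have hu : P.1 0 1 = 0 := by
      rcases h with h | h <;> simpa [sym2] using congrFun (congrFun h 0) 2
    rw [ht, mul_zero, sub_zero] at hd
    rcases h with h | h
    · have h1 : P.1 0 0 ^ 2 = 1 := by simpa [sym2] using congrFun (congrFun h 0) 0
      refine ⟨P.1 0 0, by simpa using h1, ?_⟩
      have h3 : P.1 0 0 = P.1 1 1 := by linear_combination P.1 1 1 * h1 - P.1 0 0 * hd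
      ext i j
      fin_cases i <;> fin_cases j <;> simp [ht, hu, ← h3]
    · have h1 : P.1 0 0 * P.1 1 1 = -1 := by simpa [sym2, ht] using congrFun (congrFun h 1) 1
      exact absurd (by linear_combination h1 - hd) h2

theorem exists_pgl [IsAlgClosed K] (h2 : (2 : K) ≠ 0) {G : Type*} [Group G]
    (σ : G →* Matrix (Fin 3) (Fin 3) K) (hσ : ∀ g, (σ g)ᵀ * JJ K * σ g = JJ K) :
    ∃ φ : G →* PGL(2, K), ∀ g, φ g = 1 ↔ σ g = 1 ∨ σ g = -1 := by
  choose P hP using fun g => exists_sym2 h2 (hσ g)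
  refine ⟨MonoidHom.mk' (fun g => Matrix.SpecialLinearGroup.toPGL (P g)) fun a b => ?_, fun g => ?_⟩
  · rw [← map_mul, ← inv_mul_eq_one, ← map_inv, ← map_mul, toPGL_eq_one_iff h2]
    have h1 : sym2 ((P (a * b))⁻¹).1 * sym2 (P (a * b)).1 = 1 := by
      rw [← sym2_mul, ← Matrix.SpecialLinearGroup.coe_mul, inv_mul_cancel, Matrix.SpecialLinearGroup.coe_one,
        sym2_one]
    have h3 := map_mul σ a b
    rw [Matrix.SpecialLinearGroup.coe_mul, Matrix.SpecialLinearGroup.coe_mul, sym2_mul, sym2_mul]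
    have h4 : sym2 (P a).1 * sym2 (P b).1 = sym2 (P (a * b)).1 ∨
        sym2 (P a).1 * sym2 (P b).1 = -sym2 (P (a * b)).1 := by
      rcases hP a with e1 | e1 <;> rcases hP b with e2 | e2 <;> rcases hP (a * b) with e3 | e3 <;>
        rw [e1, e2, e3] at h3 <;> (try simp only [neg_mul, mul_neg, neg_neg] at h3) <;>
        first | exact Or.inl h3.symm | exact Or.inr h3.symm | exact Or.inl (neg_inj.1 h3.symm) |
          exact Or.inr (neg_eq_iff_eq_neg.1 h3.symm)
    rcases h4 with e | e <;> rw [e]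
    · exact Or.inl h1
    · exact Or.inr (by rw [mul_neg, h1])
  · rw [MonoidHom.mk'_apply, toPGL_eq_one_iff h2]
    rcases hP g with e | e <;> rw [e]
    rw [neg_inj, neg_eq_iff_eq_neg, or_comm]

variable {p : ℕ} [hp : Fact p.Prime] {G : Type*} [Group G] [Finite G] {x : G}

theorem card_of_pgl [IsAlgClosed K] [CharP K p] (h : DefOne p x ⊥) (h5 : 3 < p)
    (hn : Nat.card (Sylow p G) ≠ 1) (φ : G →* PGL(2, K)) (hφ : Function.Injective φ) :
    Nat.card (Sylow p G) = p + 1 ∧ (Nat.card E[h] + 1 = p ∨ 2 * Nat.card E[h] + 1 = p) := by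
  let _ := MulAction.compHom (P1 K) φ
  have H := p1Like_compHom p φ hφ
  have hxp : x ^ p = 1 := h.ord ▸ pow_orderOf_eq_one x
  obtain ⟨y, hy, hy'⟩ := H.unip x (ne_one h) hxp
  have hQ : H.Q y = Subgroup.zpowers x := by
    have h1 : IsPGroup p (H.Q y) := fun g => ⟨1, Subtype.ext (by simpa using g.2.1)⟩
    exact (h.sylow.is_maximal' h1 (by
      rw [h.coe_sylow]; exact Subgroup.zpowers_le_of_mem ⟨hxp, hy⟩)).trans h.coe_sylow
  have hS : stabilizer G y = Nx x := by
    ext g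
    rw [mem_stabilizer_iff]
    constructor
    · intro hg
      refine mem_Nx_of_conj_xp h.ord one_ne_zero ?_
      rw [xp_one h.ord, ← hQ]
      exact ⟨by rw [conj_pow, hxp]; simp, by
        rw [mul_smul, mul_smul, inv_smul_eq_iff.2 hg.symm, hy, hg]⟩
    · intro hg
      have h1 : g⁻¹ * x * g⁻¹⁻¹ ∈ H.Q y := by
        rw [hQ]
        exact (Subgroup.mem_normalizer_iff.1 (Subgroup.inv_mem _ hg) x).1 (Subgroup.mem_zpowers x)
      refine hy' _ ?_
      have h2 := h1.2
      rw [inv_inv, mul_smul, mul_smul, inv_smul_eq_iff] at h2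
      exact h2
  have hc : Nat.card (H.Q y) = p := by rw [hQ, Nat.card_zpowers, h.ord]
  have h1 := ncard_orbit_mul_card_stabilizer (G := G) y
  rw [hS, ← (Nx x).index_mul_card, ← h.card_sylow] at h1
  have h2 := Nat.eq_of_mul_eq_mul_right Nat.card_pos h1
  rcases dickson_char_abs H (ne_one h) hxp hy (c := Nat.card E[h])
    (by rw [hS, h.card_Nx, hc]; simp [mul_comm]) (by rw [hc]; exact card_EE_dvd _) (by
      by_contra! h3
      refine hn ?_
      rw [h.card_sylow, ← hS, Subgroup.index_eq_one, eq_top_iff]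
      exact fun g _ => h3 g) with h3 | h3 | h3
  · rwa [h2, hc] at h3
  · omega
  · omega

theorem psl_of_pgl [IsAlgClosed K] [CharP K p] (h : DefOne p x ⊥) (h5 : 3 < p)
    (hO : pPrimeCore p G = ⊥) (hn : Nat.card (Sylow p G) ≠ 1)
    (hE : 2 * Nat.card E[h] + 1 = p) (φ : G →* PGL(2, K)) (hφ : Function.Injective φ)
    {F : Type*} [Field F] [Fintype F] (hF : Fintype.card F = p) :
    Nonempty (G ≃* Matrix.ProjectiveSpecialLinearGroup (Fin 2) F) := by
  have hx : x ∈ commutator G := h.mem_commutator_iff.2 (h.range_ne_bot hO hn)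
  have h1 := (card_of_pgl (h.subgroup_bot hx) h5 (by rwa [h.card_sylow_normal _ hx])
    (φ.comp (commutator G).subtype) (hφ.comp Subtype.val_injective)).2
  have h2 := h.index_mul_card_E hx
  have h3 := Nat.pos_of_ne_zero ((commutator G).index_ne_zero_of_finite)
  have h4 : (commutator G).index = 1 := by
    by_contra h4
    have := Nat.mul_le_mul_right (Nat.card E[h.subgroup_bot hx])
      (show 2 ≤ (commutator G).index by omega)
    omega
  have := h.isSimpleGroup_of_perfect (Subgroup.index_eq_one.1 h4) hO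
  exact equiv_PSL_of_card hE.symm (by omega) (by
    rw [h.card_eq_bot, (card_of_pgl h h5 hn φ hφ).1]; ring) hF

end Cfsg.Agent.CH.Low
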