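import Cfsg.Agent.CH.Low3
import Cfsg.Agent.Small.Tate

/-! A module with an invariant symmetric form on which an element `x` of order `p` (generating a
Sylow subgroup) has a suitable Jordan block of size three has a three-dimensional orthogonal
summand (`exists_three`), whence a map to `PGL₂` (`exists_pgl_of_form`). -/

namespace Cfsg.Agent.CH.Low

open Module Matrix Cfsg.Agent.Small
open scoped MatrixGroups

variable {k M G : Type*} [Field k] [AddCommGroup M] [Module k M] [Group G]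
  {π : Representation k G M} {B : M →ₗ[k] M →ₗ[k] k} {x : G}

theorem adj_one (hB : ∀ g u v, B (π g u) (π g v) = B u v) (Y Z : M) :
    B ((π x - 1) Y) Z = -B Y (π x⁻¹ ((π x - 1) Z)) := by
  have h1 : ∀ v, π x⁻¹ (π x v) = v := fun v => by rw [← End.mul_apply, ← map_mul]; simp
  have h2 := hB x⁻¹ (π x Y) Z
  simp only [LinearMap.sub_apply, End.one_apply, map_sub, h1] at h2 ⊢
  rw [← h2]; ring

theorem adj (hB : ∀ g u v, B (π g u) (π g v) = B u v) (m : ℕ) (Y Z : M)
    (h : ((π x - 1) ^ m) Z = 0) : B (((π x - 1) ^ m) Y) Z = 0 := by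
  induction m generalizing Z with
  | zero => simp at h; simp [h]
  | succ m ih =>
    have hc : Commute ((π x - 1) ^ m) (π x⁻¹) :=
      ((((Commute.refl x).inv_right).map π).sub_left (Commute.one_left _)).pow_left m
    rw [pow_succ', End.mul_apply, adj_one hB, ih, neg_zero]
    rw [← End.mul_apply, hc.eq, End.mul_apply, ← End.mul_apply (_ ^ m), ← pow_succ, h, map_zero]

theorem exists_three [Finite G] [FiniteDimensional k M] {p : ℕ} [hp : Fact p.Prime] [CharP k p]
    (hx : orderOf x = p) (hG : ¬ p ∣ (Subgroup.zpowers x).index)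
    (hB : ∀ g u v, B (π g u) (π g v) = B u v) (hT : (π x - 1) ^ (p - 1) = 0) {L F : M}
    (hL : (π x - 1) L = 0) (hF : (π x - 1) ((π x - 1) F) = L) (hβ : B L F ≠ 0)
    (hN : ∀ n ∈ Nx x, ∃ c : k, π n L = c • L) :
    ∃ (A : Submodule k M) (a : M), (∀ g, ∀ v ∈ A, π g v ∈ A) ∧ a ∈ A ∧
      (π x - 1) ((π x - 1) a) = L ∧ B L a ≠ 0 ∧
      ∀ y ∈ A, ∃ c₀ c₁ c₂ : k, y = c₀ • L + c₁ • (π x - 1) a + c₂ • a := by
  set T := π x - 1 with hTd
  have hF3 : (T ^ 3) F = 0 := by simp [pow_succ', hF, hL]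
  let β : End k M := (B.flip F).smulRight F
  have hβa : ∀ v, β v = B v F • F := fun v => rfl
  have h1 : T * T * T * β = 0 := by ext v; simp [hβa, hF, hL]
  have h2 : β * (T * T * T) = 0 := by
    ext v
    have := adj hB 3 v F hF3
    simp only [pow_succ, pow_zero, one_mul] at this
    rw [End.mul_apply, hβa, this, zero_smul, LinearMap.zero_apply]
  obtain ⟨φ, s, hφ, hs, hsN, hφv⟩ := exists_relTrace π x hx hG
    (T * T * β + T * β * T + β * T * T) (by
      change _ * T = T * _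
      simp only [add_mul, mul_add, ← mul_assoc] at h1 h2 ⊢
      rw [h1, h2]; abel)
  have hψ : ∀ v, T v = 0 → (T * T * β + T * β * T + β * T * T) v = B v F • L := fun v hv => by
    simp [hβa, hv, hF]
  have hπ : ∀ (n : G) v, π n (π n⁻¹ v) = v := fun n v => by rw [← End.mul_apply, ← map_mul]; simp
  have hφ1 : ∀ v, T v = 0 → φ v = ∑ n ∈ s, B (π n⁻¹ v) F • π n L := fun v hv => by
    have := hφv v hv
    rw [hT, LinearMap.range_zero, Submodule.mem_bot, sub_eq_zero] at this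
    rw [this]
    refine Finset.sum_congr rfl fun n hn => ?_
    rw [hψ _ (map_mem_ker π x (Subgroup.inv_mem _ (hsN n hn)) hv), map_smul]
  have hφ2 : ∀ v, T v = 0 → ∃ c : k, φ v = c • L := fun v hv => by
    rw [hφ1 v hv]
    have : ∑ n ∈ s, B (π n⁻¹ v) F • π n L ∈ Submodule.span k {L} :=
      Submodule.sum_mem _ fun n hn => by
        obtain ⟨c, hc⟩ := hN n (hsN n hn)
        rw [hc, smul_smul]
        exact Submodule.smul_mem _ _ (Submodule.mem_span_singleton_self L)
    obtain ⟨c, hc⟩ := Submodule.mem_span_singleton.1 this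
    exact ⟨c, hc.symm⟩
  have hφ3 : φ L = ((s.card : k) * B L F) • L := by
    rw [hφ1 L hL, Finset.sum_congr rfl (g := fun _ => B L F • L) fun n hn => ?_]
    · simp [mul_smul, Nat.cast_smul_eq_nsmul]
    obtain ⟨c, hc⟩ := hN n⁻¹ (Subgroup.inv_mem _ (hsN n hn))
    have h3 : c • π n L = L := by rw [← map_smul, ← hc, hπ]
    rw [hc, map_smul, LinearMap.smul_apply, smul_eq_mul, mul_comm, mul_smul, h3]
  obtain ⟨N, hN1⟩ := Filter.eventually_atTop.1 (LinearMap.eventually_isCompl_ker_pow_range_pow φ)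
  have hc := hN1 (N + 1) (by omega)
  have hcg : ∀ g, Commute (φ ^ (N + 1)) (π g) := fun g => Commute.pow_left (hφ g) _
  have hcT : ∀ m, Commute (φ ^ m) T := fun m =>
    ((show Commute φ (π x) from hφ x).sub_right (Commute.one_right _)).pow_left m
  set A := LinearMap.range (φ ^ (N + 1))
  have hTA : ∀ v ∈ A, T v ∈ A := by
    rintro _ ⟨v, rfl⟩
    exact ⟨T v, by rw [← End.mul_apply, (hcT _).eq, End.mul_apply]⟩
  have hTK : ∀ v ∈ LinearMap.ker (φ ^ (N + 1)), T v ∈ LinearMap.ker (φ ^ (N + 1)) := by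
    intro v hv
    rw [LinearMap.mem_ker] at hv ⊢
    rw [← End.mul_apply, (hcT _).eq, End.mul_apply, hv, map_zero]
  have hdec : ∀ v, ∃ u ∈ LinearMap.ker (φ ^ (N + 1)), ∃ w ∈ A, u + w = v := fun v =>
    Submodule.mem_sup.1 (hc.sup_eq_top ▸ Submodule.mem_top)
  have hdis := Submodule.disjoint_def.1 hc.disjoint
  have hLA : L ∈ A := by
    have h3 : ∀ m, (φ ^ m) L = ((s.card : k) * B L F) ^ m • L := fun m => by
      induction m with
      | zero => simp
      | succ m ih => rw [pow_succ', End.mul_apply, ih, map_smul, hφ3, smul_smul, pow_succ]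
    refine ⟨(((s.card : k) * B L F) ^ (N + 1))⁻¹ • L, ?_⟩
    rw [map_smul, h3, smul_smul, inv_mul_cancel₀ (pow_ne_zero _ (mul_ne_zero hs hβ)), one_smul]
  have hker : ∀ y ∈ A, T y = 0 → ∃ c : k, y = c • L := by
    rintro _ ⟨z, rfl⟩ hz
    obtain ⟨u, hu, w, hw, rfl⟩ := hdec z
    rw [map_add, LinearMap.mem_ker.1 hu, zero_add] at hz ⊢
    have h3 : T w = 0 := hdis _ (by
      rw [LinearMap.mem_ker, ← End.mul_apply, (hcT _).eq, End.mul_apply, hz]) (hTA w hw)
    rw [pow_succ', End.mul_apply]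
    exact hφ2 _ (by rw [← End.mul_apply, ← (hcT _).eq, End.mul_apply, h3, map_zero])
  obtain ⟨u, hu, a, ha, rfl⟩ := hdec F
  have h3 : T (T u) = 0 := hdis _ (hTK _ (hTK _ hu)) (by
    rw [show T (T u) = L - T (T a) by rw [← hF]; simp]
    exact A.sub_mem hLA (hTA _ (hTA _ ha)))
  have h4 : T (T a) = L := by rw [← hF, map_add, map_add, h3, zero_add]
  have h5 : B L a ≠ 0 := by
    have := adj (x := x) hB 2 a u (show (T ^ 2) u = 0 by simpa [pow_succ] using h3)
    rw [← hTd, pow_two, End.mul_apply, h4] at this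
    rwa [map_add, this, zero_add] at hβ
  refine ⟨A, a, ?_, ha, h4, h5, fun y hy => ?_⟩
  · rintro g _ ⟨v, rfl⟩
    exact ⟨π g v, by rw [← End.mul_apply, (hcg g).eq, End.mul_apply]⟩
  have hpow : ∀ m, (T ^ m) y ∈ A := fun m => by
    induction m with
    | zero => exact hy
    | succ m ih => rw [pow_succ', End.mul_apply]; exact hTA _ ih
  have h6 : ∀ m, (T ^ (m + 3)) y = 0 → (T ^ 3) y = 0 := fun m => by
    induction m with
    | zero => exact id
    | succ m ih =>
      intro h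
      refine ih ?_
      obtain ⟨c, hc⟩ := hker _ (hpow (m + 3)) (by rwa [← End.mul_apply, ← pow_succ'])
      have h7 := adj (x := x) hB 3 ((T ^ m) y) a
        (show (T ^ 3) a = 0 by simp [pow_succ', h4, hL])
      rw [← hTd, ← End.mul_apply, ← pow_add, add_comm, hc, map_smul, LinearMap.smul_apply,
        smul_eq_mul, mul_eq_zero, or_iff_left h5] at h7
      rw [hc, h7, zero_smul]
  have h7 := h6 (p - 1) (by rw [add_comm, pow_add, hT, mul_zero, LinearMap.zero_apply])
  obtain ⟨c₂, e₂⟩ := hker _ (hTA _ (hTA _ hy)) (by simpa [pow_succ'] using h7)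
  obtain ⟨c₁, e₁⟩ := hker (T (y - c₂ • a)) (hTA _ (A.sub_mem hy (A.smul_mem _ ha)))
    (by simp [e₂, h4])
  obtain ⟨c₀, e₀⟩ := hker (y - c₂ • a - c₁ • T a)
    (A.sub_mem (A.sub_mem hy (A.smul_mem _ ha)) (A.smul_mem _ (hTA _ ha)))
    (by rw [map_sub, e₁, map_smul, h4, sub_self])
  exact ⟨c₀, c₁, c₂, by rw [← e₀]; abel⟩

theorem exists_sigma (hB : ∀ g u v, B (π g u) (π g v) = B u v) (h2 : (2 : k) ≠ 0)
    {A : Submodule k M} (hA : ∀ g, ∀ v ∈ A, π g v ∈ A) {e : Fin 3 → M} (he : ∀ i, e i ∈ A)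
    {c : k} (hc : c ≠ 0) (hg : ∀ i j, B (e i) (e j) = c * JJ k i j)
    (hs : ∀ y ∈ A, ∃ r : Fin 3 → k, y = ∑ i, r i • e i) :
    ∃ σ : G →* Matrix (Fin 3) (Fin 3) k, (∀ g, (σ g)ᵀ * JJ k * σ g = JJ k) ∧
      (∀ g j, π g (e j) = ∑ i, σ g i j • e i) ∧ ∀ g, π g = 1 → σ g = 1 := by
  have hu : ∀ r r' : Fin 3 → k, ∑ i, r i • e i = ∑ i, r' i • e i → r = r' := fun r r' h => by
    have h1 := fun j => congrArg (B (e j)) h
    have h3 := h1 0
    have h4 := h1 1
    have h5 := h1 2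
    simp [Fin.sum_univ_succ, hg, JJ, hc, h2] at h3 h4 h5
    ext i
    fin_cases i <;> assumption
  choose r hr using fun g j => hs _ (hA g _ (he j))
  have h1 : ∀ g, π g = 1 → (of fun i j => r g j i) = 1 := fun g h => by
    ext i j
    have := hu (r g j) (Pi.single j 1) (by rw [← hr, h]; simp [Pi.single_apply])
    simp [this, one_apply, Pi.single_apply]
  refine ⟨⟨⟨fun g => of fun i j => r g j i, h1 1 (map_one π)⟩, fun g h => ?_⟩, fun g => ?_,
    hr, h1⟩
  · ext i j
    have := hu (r (g * h) j) (fun i => ∑ l, r g l i * r h j l) (by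
      rw [← hr, map_mul, End.mul_apply, hr h j, map_sum]
      simp only [map_smul, hr g, Finset.smul_sum, Finset.sum_smul, smul_smul]
      rw [Finset.sum_comm]
      simp only [mul_comm])
    simp [this, mul_apply]
  · ext i j
    apply mul_left_cancel₀ hc
    rw [← hg, ← hB g, hr, hr]
    simp only [map_sum, map_smul, LinearMap.sum_apply, LinearMap.smul_apply, hg, mul_apply,
      MonoidHom.coe_mk, OneHom.coe_mk, transpose_apply, of_apply, Finset.mul_sum, Finset.sum_mul,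
      smul_eq_mul]
    exact Finset.sum_congr rfl fun _ _ => Finset.sum_congr rfl fun _ _ => by ring

theorem exists_pgl_of_form [Finite G] [FiniteDimensional k M] {p : ℕ} [hp : Fact p.Prime]
    [CharP k p] (h2 : p ≠ 2) (hx : orderOf x = p) (hG : ¬ p ∣ (Subgroup.zpowers x).index)
    (hB : ∀ g u v, B (π g u) (π g v) = B u v) (hs : ∀ u v, B u v = B v u)
    (hT : (π x - 1) ^ (p - 1) = 0) {L F : M}
    (hL : (π x - 1) L = 0) (hF : (π x - 1) ((π x - 1) F) = L) (hβ : B L F ≠ 0)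
    (hN : ∀ n ∈ Nx x, ∃ c : k, π n L = c • L) :
    ∃ φ : G →* PGL(2, AlgebraicClosure k), φ x ≠ 1 ∧ ∀ g, π g = 1 → φ g = 1 := by
  obtain ⟨A, a, hA, ha, h1, h3, h4⟩ := exists_three hx hG hB hT hL hF hβ hN
  have h2k : (2 : k) ≠ 0 := fun e => h2 ((Nat.prime_dvd_prime_iff_eq hp.out Nat.prime_two).1
    ((CharP.cast_eq_zero_iff k p 2).1 (by exact_mod_cast e)))
  have hTA : ∀ v ∈ A, (π x - 1) v ∈ A := fun v hv => A.sub_mem (hA x v hv) hv
  have hxL : π x L = L := by simpa [sub_eq_zero] using hL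
  have hxL' : π x⁻¹ L = L := by
    conv_lhs => rw [← hxL, ← End.mul_apply, ← map_mul]
    simp
  have g1 : B ((π x - 1) a) L = 0 := by rw [adj_one hB, hL]; simp
  have g2 : B L L = 0 := by
    conv_lhs => enter [1]; rw [← h1]
    rw [adj_one hB, hL]; simp
  have g3 : B ((π x - 1) a) ((π x - 1) a) = -B L a := by rw [adj_one hB, h1, hxL', hs]
  have hL0 : L ≠ 0 := by rintro rfl; exact h3 (by simp)
  set H := (π x - 1) a with hH
  obtain ⟨β, hβ'⟩ : ∃ β, B L a = β := ⟨_, rfl⟩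
  obtain ⟨γ, hγ⟩ : ∃ γ, B H a = γ := ⟨_, rfl⟩
  obtain ⟨δ, hδ⟩ : ∃ δ, B a a = δ := ⟨_, rfl⟩
  rw [hβ'] at g3 h3
  have g4 : B L H = 0 := by rw [hs, g1]
  have g5 : B a L = β := by rw [hs, hβ']
  have g6 : B a H = γ := by rw [hs, hγ]
  let e : Fin 3 → M := ![(2 : k)⁻¹ • L, H,
    a + (γ / β) • H + (-(δ + γ ^ 2 / β) / (2 * β)) • L]
  obtain ⟨σ, hσ, hσe, hσ1⟩ := exists_sigma hB h2k hA (e := e) (c := -β / 2) (fun i => by
      have hHA := hTA a ha
      have hLA : L ∈ A := h1 ▸ hTA _ hHA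
      fin_cases i
      · exact A.smul_mem _ hLA
      · exact hHA
      · exact A.add_mem (A.add_mem ha (A.smul_mem _ hHA)) (A.smul_mem _ hLA))
    (div_ne_zero (neg_ne_zero.2 h3) h2k) (fun i j => by
      fin_cases i <;> fin_cases j <;>
        simp [e, JJ, g1, g2, g3, g4, g5, g6, hβ', hγ, hδ] <;> field_simp <;> ring)
    (fun y hy => by
      obtain ⟨c₀, c₁, c₂, rfl⟩ := h4 y hy
      refine ⟨![2 * (c₀ - c₂ * (-(δ + γ ^ 2 / β) / (2 * β))), c₁ - c₂ * (γ / β), c₂], ?_⟩
      simp only [Fin.sum_univ_succ, e]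
      simp only [cons_val_zero, cons_val_succ, Finset.univ_eq_empty, Finset.sum_empty, add_zero]
      match_scalars <;> field_simp <;> ring)
  let ι := algebraMap k (AlgebraicClosure k)
  have hι : Function.Injective (ι.mapMatrix : Matrix (Fin 3) (Fin 3) k → _) :=
    map_injective ι.injective
  obtain ⟨φ, hφ⟩ := exists_pgl (K := AlgebraicClosure k)
    (by rw [← map_ofNat ι]; exact (map_ne_zero ι).2 h2k)
    (ι.mapMatrix.toMonoidHom.comp σ) fun g => by
      have h5 : JJ (AlgebraicClosure k) = ι.mapMatrix (JJ k) := by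
        ext i j
        fin_cases i <;> fin_cases j <;> simp [JJ, map_ofNat]
      conv_rhs => rw [h5, ← hσ g, map_mul, map_mul, ← h5]
      rfl
  refine ⟨φ, fun h => ?_, fun g h => (hφ g).2 (Or.inl (by simp [hσ1 g h]))⟩
  rcases (hφ x).1 h with h5 | h5
  · have h6 := hσe x 1
    rw [hι (h5.trans (map_one _).symm)] at h6
    apply hL0
    rw [← h1, LinearMap.sub_apply, sub_eq_zero]
    simpa [e, one_apply] using h6
  · have h6 := hσe x 0
    rw [hι (h5.trans (by rw [map_neg, map_one] : _ = ι.mapMatrix (-1)))] at h6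
    simp [e, one_apply, hxL, Fin.sum_univ_succ] at h6
    rw [eq_neg_iff_add_eq_zero, ← two_smul k, smul_smul, mul_inv_cancel₀ h2k, one_smul] at h6
    exact hL0 h6

end Cfsg.Agent.CH.Low
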