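import Cfsg.Agent.CH.Low4
import Cfsg.Agent.Small.DefLow

/-! A single unipotent Jordan block lies in an `sl₂`-triple (`exists_sl2`); applied to the
adjoint module `End V` of a modular reduction of a character of degree `(p - 1) / 2` this gives a
map to `PGL₂` (`exists_pgl_of_char`). -/

namespace Cfsg.Agent.CH.Low

open Module Polynomial Cfsg.Agent.Small Cfsg.Agent.Char
open scoped MatrixGroups

section
variable {k V : Type*} [Field k] [AddCommGroup V] [Module k V]

theorem exists_jordan [Nontrivial V] {T : End k V} (hT : IsNilpotent T)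
    (hk : ∀ u v, T u = 0 → T v = 0 → u ≠ 0 → ∃ c : k, v = c • u) :
    ∃ (m : ℕ) (v : V) (b : Basis (Fin m) k V), (∀ j, b j = (T ^ (j : ℕ)) v) ∧ T ^ m = 0 := by
  classical
  have h1 := Nat.find_spec hT
  obtain ⟨m, hm⟩ : ∃ m, Nat.find hT = m + 1 := Nat.exists_eq_succ_of_ne_zero fun e => by
    rw [e, pow_zero] at h1
    exact one_ne_zero h1
  obtain ⟨v, hv⟩ : ∃ v, (T ^ m) v ≠ 0 := by
    by_contra! h
    exact Nat.find_min hT (m := m) (by omega) (LinearMap.ext h)
  rw [hm] at h1
  have h2 : ∀ i j (y : V), (T ^ i) ((T ^ j) y) = (T ^ (i + j)) y := fun i j y => by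
    rw [pow_add, End.mul_apply]
  refine ⟨m + 1, v, Basis.mk (v := fun j : Fin (m + 1) => (T ^ (j : ℕ)) v) ?_ ?_,
    fun j => Basis.mk_apply _ _ j, h1⟩
  · rw [Fintype.linearIndependent_iff]
    intro c hc i
    induction i using WellFoundedLT.induction with
    | _ i ih =>
    have h3 := congrArg (T ^ (m - i)) hc
    rw [map_sum, map_zero, Finset.sum_eq_single i] at h3
    · rw [map_smul, h2, Nat.sub_add_cancel (by omega)] at h3
      exact (smul_eq_zero.1 h3).resolve_right hv
    · intro j _ hj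
      rcases lt_or_gt_of_ne hj with hj | hj
      · rw [ih j hj, zero_smul, map_zero]
      · rw [map_smul, h2, pow_eq_zero_of_le (by have := Fin.lt_def.1 hj; omega) h1]
        simp
    · simp
  · have h3 : ∀ i ≤ m + 1, ∀ y, (T ^ i) y = 0 →
        y ∈ Submodule.span k (Set.range fun j : Fin (m + 1) => (T ^ (j : ℕ)) v) := by
      intro i
      induction i with
      | zero => intro _ y hy; rw [show y = 0 from hy]; exact Submodule.zero_mem _
      | succ i ih =>
        intro hi y hy
        obtain ⟨c, hc⟩ := hk ((T ^ m) v) ((T ^ i) y)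
          (by rw [← End.mul_apply, ← pow_succ', h1]; rfl)
          (by rwa [← End.mul_apply, ← pow_succ']) hv
        have h4 := ih (by omega) (y - c • (T ^ (m - i)) v) (by
          rw [map_sub, map_smul, h2, hc, Nat.add_sub_cancel' (by omega), sub_self])
        rw [← sub_add_cancel y (c • (T ^ (m - i)) v)]
        exact Submodule.add_mem _ h4 (Submodule.smul_mem _ _
          (Submodule.subset_span ⟨⟨m - i, by omega⟩, rfl⟩))
    exact fun y _ => h3 _ le_rfl y (by rw [h1]; rfl)

theorem sum_aux (m : ℕ) :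
    6 * ∑ j ∈ Finset.range m, (j : k) * (m - j) = (m - 1) * m * (m + 1) := by
  have h1 : ∀ n : ℕ, 6 * ∑ j ∈ Finset.range n, (j : k) * (m - j) =
      3 * m * (n - 1) * n - (n - 1) * n * (2 * n - 1) := fun n => by
    induction n with
    | zero => simp
    | succ n ih => rw [Finset.sum_range_succ, mul_add, ih]; push_cast; ring
  rw [h1]; ring

theorem exists_sl2 {m : ℕ} {T : End k V} {v : V} (b : Basis (Fin m) k V)
    (hb : ∀ j, b j = (T ^ (j : ℕ)) v) (hT : T ^ m = 0) (h2 : (2 : k) ≠ 0) :
    ∃ (F : End k V) (t : k), T * T * F - T * F * T - (T * F * T - F * T * T) = T ∧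
      12 * t = -((m - 1) * m * (m + 1)) ∧
      ∀ f : k[X], LinearMap.trace k V (aeval T f * F) = f.coeff 1 * t := by
  classical
  let a : ℕ → k := fun j => -((j : k) * (m - j)) / 2
  let w : ℕ → V := fun j => (T ^ j) v
  have hw : ∀ j, m ≤ j → w j = 0 := fun j hj => by
    simp only [w, pow_eq_zero_of_le hj hT, LinearMap.zero_apply]
  have hTw : ∀ i j, (T ^ i) (w j) = w (i + j) := fun i j => by
    simp only [w, pow_add, End.mul_apply]
  have hTw1 : ∀ j, T (w j) = w (j + 1) := fun j => by rw [add_comm, ← hTw, pow_one]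
  let F : End k V := b.constr k fun j => a j • w (j - 1)
  have hF : ∀ j, F (w j) = a j • w (j - 1) := fun j => by
    rcases lt_trichotomy j m with h | rfl | h
    · exact (congrArg F (hb ⟨j, h⟩).symm).trans (b.constr_basis k _ _)
    · simp [hw j le_rfl, a]
    · rw [hw j h.le, hw _ (by omega), map_zero, smul_zero]
  have hr : ∀ (i : ℕ) (j : Fin m), b.repr (w i) j = if i = j then 1 else 0 := fun i j => by
    rcases lt_or_ge i m with h | h
    · rw [show w i = b ⟨i, h⟩ from (hb ⟨i, h⟩).symm, b.repr_self, Finsupp.single_apply]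
      simp [Fin.ext_iff]
    · rw [hw i h, if_neg (by omega)]; simp
  have htr : ∀ i, LinearMap.trace k V (T ^ i * F) =
      if i = 1 then ∑ j ∈ Finset.range m, a j else 0 := fun i => by
    rw [LinearMap.trace_eq_matrix_trace k b, Matrix.trace, ← Fin.sum_univ_eq_sum_range,
      Finset.sum_congr rfl (g := fun j : Fin m => if i = 1 then a j else 0) fun j _ => ?_]
    · split_ifs <;> simp
    · rw [Matrix.diag_apply, LinearMap.toMatrix_apply, hb, End.mul_apply, hF, map_smul, hTw,
        map_smul, Finsupp.smul_apply, hr]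
      rcases Nat.eq_zero_or_pos j with h | h
      · simp [h, a]
      · simp only [smul_eq_mul, mul_ite, mul_one, mul_zero]
        exact if_congr (by omega) rfl rfl
  refine ⟨F, ∑ j ∈ Finset.range m, a j, b.ext fun j => ?_, ?_, fun f => ?_⟩
  · simp only [hb, LinearMap.sub_apply, End.mul_apply]
    change T (T (F (w j))) - T (F (T (w j))) - (T (F (T (w j))) - F (T (T (w j)))) = T (w j)
    simp only [hTw1, hF, map_smul, Nat.add_sub_cancel]
    have h3 : a j • w (j - 1 + 1 + 1) = a j • w (j + 1) := by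
      rcases Nat.eq_zero_or_pos j with h | h
      · simp [h, a]
      · rw [Nat.sub_add_cancel h]
    rw [h3, ← sub_smul, ← sub_smul, ← sub_smul]
    convert one_smul k _
    simp only [a]
    push_cast
    field_simp
    ring
  · rw [← sum_aux, Finset.mul_sum, Finset.mul_sum, ← Finset.sum_neg_distrib]
    refine Finset.sum_congr rfl fun j _ => ?_
    simp only [a]
    field_simp
    ring
  · induction f using Polynomial.induction_on' with
    | add f g hf hg => simp only [map_add, add_mul, hf, hg, coeff_add]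
    | monomial i c =>
      rw [aeval_monomial, ← Algebra.smul_def, smul_mul_assoc, map_smul, htr, coeff_monomial]
      split_ifs <;> simp

variable {G : Type*} [Group G] [Finite G] {p : ℕ} [hp : Fact p.Prime] {x : G}

theorem exists_pgl_of_jordan [FiniteDimensional k V] [CharP k p] (ρ : Representation k G V)
    (hx : orderOf x = p) (hG : ¬ p ∣ (Subgroup.zpowers x).index) (h5 : 3 < p)
    (hd : 2 * finrank k V + 1 = p)
    (hk : ∀ u v, (ρ x - 1) u = 0 → (ρ x - 1) v = 0 → u ≠ 0 → ∃ c : k, v = c • u) :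
    ∃ φ : G →* PGL(2, AlgebraicClosure k), φ x ≠ 1 ∧
      ∀ g, (∀ Y, ρ g * Y = Y * ρ g) → φ g = 1 := by
  classical
  have : Nontrivial V := Module.nontrivial_of_finrank_pos (R := k) (by omega)
  have hlt : ∀ n : ℕ, 0 < n → n < p → (n : k) ≠ 0 := fun n h0 h1 e =>
    Nat.not_dvd_of_pos_of_lt h0 h1 ((CharP.cast_eq_zero_iff k p n).1 e)
  set T := ρ x - 1 with hT
  have hu : ρ x = 1 + T := by rw [hT]; abel
  obtain ⟨m, v, b, hb, hm⟩ := exists_jordan (T := T) ⟨p, by
    rw [hT, sub_one_pow_char (k := k), ← map_pow, ← hx, pow_orderOf_eq_one, map_one, sub_self]⟩ hk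
  have hmd : finrank k V = m := by simpa using finrank_eq_card_basis b
  obtain ⟨F₀, t, hF₀, ht, htr⟩ := exists_sl2 b hb hm (by exact_mod_cast hlt 2 (by omega) (by omega))
  have ht0 : t ≠ 0 := by
    rintro rfl
    have h1 := hlt (m - 1) (by omega) (by omega)
    have h2 := hlt (m + 1) (by omega) (by omega)
    rw [Nat.cast_sub (by omega)] at h1
    push_cast at h1 h2
    exact mul_ne_zero (mul_ne_zero h1 (hlt m (by omega) (by omega))) h2 (by simpa using ht.symm)
  let π : Representation k G (End k V) := ρ.linHom ρ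
  have hπ : ∀ g Y, π g Y = ρ g * Y * ρ g⁻¹ := fun g Y => (mul_assoc _ _ _).symm
  have hi : ∀ g, ρ g⁻¹ * ρ g = 1 := fun g => by rw [← map_mul]; simp
  have hi' : ∀ g, ρ g * ρ g⁻¹ = 1 := fun g => by rw [← map_mul]; simp
  have hcT : Commute (ρ x⁻¹) T :=
    (((Commute.refl x).inv_left).map ρ).sub_right (Commute.one_right _)
  have hπ1 : ∀ Y, (π x - 1) Y = (T * Y - Y * T) * ρ x⁻¹ := fun Y => by
    rw [LinearMap.sub_apply, hπ, hT, End.one_apply, sub_mul, sub_mul, mul_sub, sub_mul, sub_mul,
      mul_assoc Y, hi']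
    simp
  let c : ZMod p →+* k := ZMod.castHom dvd_rfl k
  let l : k[X] := ∑ s : ZMod p, C (c s⁻¹) * (1 + X) ^ s.val
  have hl0 : l.coeff 0 = 0 := by
    simp only [l, finsetSum_coeff, coeff_C_mul, coeff_one_add_X_pow, Nat.choose_zero_right,
      Nat.cast_one, mul_one]
    rw [← map_sum, Fintype.sum_equiv (Equiv.inv _) _ (fun s => s ^ 1) (by simp),
      FiniteField.sum_pow_lt_card_sub_one _ _ (by rw [ZMod.card]; omega), map_zero]
  have hl1 : l.coeff 1 = -1 := by
    simp only [l, finsetSum_coeff, coeff_C_mul, coeff_one_add_X_pow, Nat.choose_one_right]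
    rw [Finset.sum_congr rfl (g := fun s => 1 - if s = 0 then 1 else 0) fun s _ => ?_]
    · simp
    · rw [← map_natCast c, ZMod.natCast_zmod_val, ← map_mul]
      split_ifs with h
      · simp [h]
      · simp [h]
  have hl : l = X * l.divX := by simpa [hl0] using (X_mul_divX_add l).symm
  have hL : aeval T l = ∑ s : ZMod p, c s⁻¹ • ρ (xp x s) := by
    simp only [l, map_sum, map_mul, map_pow, map_add, map_one, aeval_X, aeval_C, ← hu, xp,
      Algebra.smul_def]
  have hc : ∀ f : k[X], Commute (aeval T f) T := fun f => by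
    simpa using (Commute.all f X).map (aeval T)
  let W := aeval T (l.divX * (1 + X) ^ 2)
  have hW : W * ρ x⁻¹ * ρ x⁻¹ = aeval T l.divX := by
    simp only [W, map_mul, map_pow, map_add, map_one, aeval_X, ← hu, pow_two, mul_assoc]
    rw [← mul_assoc (ρ x) (ρ x⁻¹), hi', one_mul, hi', mul_one]
  obtain ⟨φ, h1, h2⟩ := exists_pgl_of_form (π := π) (x := x)
    (B := (LinearMap.mul k (End k V)).compr₂ (LinearMap.trace k V)) (L := aeval T l) (F := F₀ * W)
    (by omega) hx hG (fun g Y Z => by
      simp only [LinearMap.compr₂_apply, LinearMap.mul_apply', hπ]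
      rw [mul_assoc, mul_assoc, LinearMap.trace_mul_comm]
      simp only [← mul_assoc]
      rw [mul_assoc Y, hi, mul_one, mul_assoc, hi, mul_one])
    (fun Y Z => LinearMap.trace_mul_comm k Y Z) (by
      have h1 : π x - 1 = (LinearMap.mulLeft k T + LinearMap.mulRight k (-T)) *
          LinearMap.mulRight k (ρ x⁻¹) := by
        ext1 Y
        rw [hπ1]
        simp [sub_eq_add_neg, add_mul, mul_assoc, hcT.eq]
      have h2 : Commute (LinearMap.mulRight k (-T)) (LinearMap.mulRight k (ρ x⁻¹)) := by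
        ext1 Y
        simp [mul_assoc, hcT.eq]
      rw [h1, Commute.mul_pow ((LinearMap.commute_mulLeft_right _ _).add_left h2),
        Commute.add_pow_eq_zero_of_add_le_succ_of_pow_eq_zero
          (LinearMap.commute_mulLeft_right _ _) (m := m) (n := m)
          (by rw [LinearMap.pow_mulLeft, hm]; simp)
          (by rw [LinearMap.pow_mulRight, neg_pow T, hm]; simp) (by omega), zero_mul])
    (by rw [hπ1, (hc l).eq, sub_self, zero_mul]) (by
      have h1 : T * W = W * T := (hc _).symm.eq
      rw [hπ1, hπ1, hl, map_mul, aeval_X, ← hW]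
      conv_rhs => enter [1]; rw [← hF₀]
      simp only [mul_sub, sub_mul, mul_assoc, hcT.eq]
      simp only [← mul_assoc W T, ← h1, mul_assoc, ← hcT.eq])
    (by
      simp only [LinearMap.compr₂_apply, LinearMap.mul_apply']
      rw [← mul_assoc, LinearMap.trace_mul_comm, ← mul_assoc, ← map_mul, htr]
      conv_lhs => enter [1, 1, 2]; rw [hl]
      rw [mul_left_comm, coeff_X_mul]
      simp [pow_two, hl1, ht0])
    (fun n hn => ⟨c (expo hx ⟨n, hn⟩ : ZMod p), by
      rw [hL, map_sum, Finset.smul_sum]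
      refine Fintype.sum_equiv (Units.mulLeft (expo hx ⟨n, hn⟩)) _ _ fun s => ?_
      rw [map_smul, hπ, ← map_mul, ← map_mul, conj_xp_expo hx ⟨n, hn⟩, smul_smul, ← map_mul,
        Units.mulLeft_apply, mul_inv, ← mul_assoc, mul_inv_cancel₀ (Units.ne_zero _), one_mul]⟩)
  refine ⟨φ, h1, fun g hg => h2 g (LinearMap.ext fun Y => ?_)⟩
  rw [hπ, hg, mul_assoc, hi', mul_one, End.one_apply]

theorem exists_pgl_of_char {K : Subgroup G} (h : DefOne p x K) (hK : K ≤ Subgroup.center G)
    (h5 : 3 < p) {χ : G → ℂ} (hχ : IsIrrCharacter G χ) (hd : 2 * charDegree χ + 1 = p) :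
    ∃ (F : Type) (_ : Field F) (_ : IsAlgClosed F) (_ : CharP F p) (φ : G →* PGL(2, F)),
      φ x ≠ 1 ∧ ∀ z ∈ Subgroup.center G, φ z = 1 := by
  classical
  have := Fintype.ofFinite G
  obtain ⟨R, _, k, _, _, _, ι, red, n, A, hms, htr, hloc⟩ := exists_local_model p hχ
  let L := Matrix.toLinAlgEquiv' (R := k) (n := Fin n)
  let ρ : Representation k G (Fin n → k) :=
    L.toMulEquiv.toMonoidHom.comp (mapHom red A)
  have hρ : ∀ g, ρ g = L ((A g).map red) := fun g => rfl
  have hn : charDegree χ = n := charDegree_eq_of_apply_one (by rw [← htr]; simp)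
  have hZ : ∀ z ∈ Subgroup.center G, ∀ Y, ρ z * Y = Y * ρ z := fun z hz Y => by
    let L' := Matrix.toLinAlgEquiv' (R := ℂ) (n := Fin n)
    let σ : Representation ℂ G (Fin n → ℂ) := L'.toMulEquiv.toMonoidHom.comp (mapHom ι A)
    have hσ : σ.character = χ := funext fun g => by
      rw [← htr, AddMonoidHom.map_trace]
      exact Matrix.trace_toLin'_eq _
    obtain ⟨ω, hω⟩ := (mem_charCenter_character σ z).1 (hσ ▸ hχ.center_le_charCenter hz)
    have h1 : (A z).map ι = ω • 1 := L'.injective (by rw [map_smul, map_one]; exact hω)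
    have h2 : ∀ B, A z * B = B * A z := fun B => Matrix.map_injective hms.inj (by
      simp only [Matrix.map_mul, h1, smul_mul_assoc, mul_smul_comm, one_mul, mul_one])
    obtain ⟨Y, rfl⟩ := L.surjective Y
    choose f hf using hms.surj
    rw [hρ, ← map_mul, ← map_mul, show Y = (Y.map f).map red by ext; simp [hf], ← Matrix.map_mul,
      ← Matrix.map_mul, h2]
  have hlocρ : ∀ φ : End k (Fin n → k), (∀ g, φ * ρ g = ρ g * φ) → IsUnit φ ∨ IsUnit (1 - φ) := by
    intro φ hφ
    obtain ⟨φ, rfl⟩ := L.surjective φ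
    have := hloc φ fun g => L.injective (by rw [map_mul, map_mul]; exact hφ g)
    exact this.imp (fun h => h.map L) fun h => by simpa using h.map L
  have hlocT := tate_local ρ x h.ord h.notdvd hlocρ
  let τ := tateRep ρ x p
  let P' := (Subgroup.zpowers x).subgroupOf (Nx x)
  let τ' : Representation k (Nx x ⧸ P') (Tate ρ x p) :=
    QuotientGroup.lift P' τ fun u hu => tateRep_of_mem_zpowers ρ x p u hu
  have hcard : (Nat.card (Nx x ⧸ P') : k) ≠ 0 := by
    rw [Ne, CharP.cast_eq_zero_iff k p]
    exact fun h1 => h.notdvd (h1.trans (Subgroup.relIndex_dvd_index_of_le Subgroup.le_normalizer))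
  have hm' : ∀ a : Nx x ⧸ P', a ^ Nat.card G = 1 := fun a => by
    obtain ⟨a, rfl⟩ := QuotientGroup.mk_surjective a
    rw [← QuotientGroup.mk_pow, show a ^ Nat.card G = 1 from Subtype.ext (by simp)]
    rfl
  have hs := eq_bot_or_top_of_local τ' hcard fun φ hφ => hlocT φ fun a => hφ a
  have hsc := eq_smul_of_comm_of_simple τ' hms hm' hcard hs
  have hcomm := (QuotientGroup.lift P' (expo h.ord) fun u hu => by
    obtain ⟨j, hj⟩ := hu
    rw [MonoidHom.mem_ker, expo_eq_one_iff, ← show x ^ j = u from hj]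
    exact ((Commute.refl x).zpow_right j).eq).isMulCommutative_of_isCyclic_of_ker_le_center (by
      intro c hc
      obtain ⟨c, rfl⟩ := QuotientGroup.mk_surjective c
      obtain ⟨a, y, hy⟩ := h.dec c ((expo_eq_one_iff h.ord c).1 hc)
      have h1 : (c : Nx x ⧸ P') = (⟨y, h.K_le y.2⟩ : Nx x) := QuotientGroup.eq.2 (by
        change (c : G)⁻¹ * y ∈ Subgroup.zpowers x
        rw [hy, h.comm_xp, mul_inv_rev, mul_assoc, inv_mul_cancel, mul_one]
        exact Subgroup.inv_mem _ (xp_mem x a))
      rw [h1, Subgroup.mem_center_iff]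
      intro g
      obtain ⟨g, rfl⟩ := QuotientGroup.mk_surjective g
      rw [← QuotientGroup.mk_mul, ← QuotientGroup.mk_mul]
      exact congrArg _ (Subtype.ext (Subgroup.mem_center_iff.1 (hK y.2) g)))
  have hT : (ρ x - 1) ^ (p - 1) = 0 := by
    have h1 : IsNilpotent (ρ x - 1) := ⟨p, by
      rw [sub_one_pow_char (k := k), ← map_pow, ← h.ord, pow_orderOf_eq_one, map_one, sub_self]⟩
    have h2 := LinearMap.aeval_self_charpoly (ρ x - 1)
    rw [h1.charpoly_eq_X_pow_finrank, map_pow, aeval_X] at h2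
    exact pow_eq_zero_of_le (by simp; omega) h2
  have hmk : ∀ u : LinearMap.ker (ρ x - 1), (Submodule.Quotient.mk u : Tate ρ x p) = 0 →
      (u : Fin n → k) = 0 := fun u hu => by
    rw [Submodule.Quotient.mk_eq_zero, hT, LinearMap.range_zero] at hu
    exact hu
  obtain ⟨φ, h1, h2⟩ := exists_pgl_of_jordan ρ h.ord h.notdvd h5 (by simpa [hn] using hd)
    fun u v hu hv hu0 => by
      rcases hs (Submodule.span k {Submodule.Quotient.mk ⟨u, hu⟩}) (fun g w hw => by
        obtain ⟨c, hc⟩ := hsc (τ' g) fun g' => by rw [← map_mul, ← map_mul, hcomm.is_comm.comm]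
        rw [hc]
        exact Submodule.smul_mem _ _ hw) with h1 | h1
      · exact absurd (hmk _ (Submodule.span_singleton_eq_bot.1 h1)) hu0
      · obtain ⟨c, hc⟩ := Submodule.mem_span_singleton.1
          (h1.ge (Submodule.mem_top (x := (Submodule.Quotient.mk ⟨v, hv⟩ : Tate ρ x p))))
        have h2 := hmk (c • ⟨u, hu⟩ - ⟨v, hv⟩) (by
          rw [Submodule.Quotient.mk_sub, Submodule.Quotient.mk_smul, hc, sub_self])
        exact ⟨c, (sub_eq_zero.1 h2).symm⟩
  exact ⟨_, inferInstance, inferInstance, inferInstance, φ, h1, fun z hz => h2 z (hZ z hz)⟩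

end

end Cfsg.Agent.CH.Low
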