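import Cfsg.Agent.S0070
import Cfsg.Agent.S0586
import Cfsg.Agent.S0205
import Cfsg.Agent.Solv.Fitting

/-! Regular orbits of odd-order groups on pairs of vectors: reductions. -/

set_option autoImplicit false

namespace Cfsg.Agent.CH.Reg

open Subgroup
open scoped IsMulCommutative

universe u

section Defs

variable (G : Type*) {V : Type*} [Group G] [AddCommGroup V] [DistribMulAction G V]

/-- An invariant additive subgroup. -/
def Inv (U : AddSubgroup V) : Prop := ∀ a : G, ∀ v ∈ U, a • v ∈ U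

/-- A minimal invariant subgroup (possibly zero). -/
def MinInv (M : AddSubgroup V) : Prop :=
  Inv G M ∧ ∀ U : AddSubgroup V, Inv G U → U ≤ M → U = ⊥ ∨ U = M

/-- The restricted action on an invariant subgroup. -/
@[reducible] def subAct (M : AddSubgroup V) (h : Inv G M) : DistribMulAction G M where
  smul a v := ⟨a • (v : V), h a v v.2⟩
  one_smul v := Subtype.ext (one_smul G (v : V))
  mul_smul a b v := Subtype.ext (mul_smul a b (v : V))
  smul_zero a := Subtype.ext (smul_zero a)
  smul_add a v w := Subtype.ext (smul_add a (v : V) (w : V))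

variable (V) in
/-- Irreducibility. -/
def Irr : Prop := ∀ U : AddSubgroup V, Inv G U → U = ⊥ ∨ U = ⊤

end Defs

/-- The induction statement: faithful irreducible case, groups of order `< n`. -/
def FI (n : ℕ) : Prop :=
  ∀ (G V : Type u) [Group G] [Finite G] [AddCommGroup V] [Finite V] [DistribMulAction G V]
    [FaithfulSMul G V], Nat.card G < n → Odd (Nat.card G) → Irr G V →
    ∃ v w : V, ∀ a : G, a • v = v → a • w = w → a = 1

theorem odd_of_dvd {a b : ℕ} (h : a ∣ b) (hb : Odd b) : Odd a := Odd.of_dvd_nat hb h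

theorem exists_sq_pow {G : Type*} [Group G] [Finite G] (hG : Odd (Nat.card G)) (g : G) :
    ∃ k : ℕ, g = (g ^ 2) ^ k := by
  obtain ⟨k, hk⟩ := hG
  refine ⟨k + 1, ?_⟩
  have h := pow_card_eq_one' (G := G) (x := g)
  rw [← pow_mul, show 2 * (k + 1) = Nat.card G + 1 by omega, pow_succ, h, one_mul]

theorem eq_one_of_sq {G : Type*} [Group G] [Finite G] (hG : Odd (Nat.card G)) {g : G}
    (h : g ^ 2 = 1) : g = 1 := by
  obtain ⟨k, hk⟩ := exists_sq_pow hG g
  rw [hk, h, one_pow]

theorem smul_eq_of_sq {G X : Type*} [Group G] [Finite G] [MulAction G X]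
    (hG : Odd (Nat.card G)) {g : G} {x : X} (h : g • g • x = x) : g • x = x := by
  obtain ⟨k, hk⟩ := exists_sq_pow hG g
  have h2 : g ^ 2 ∈ MulAction.stabilizer G x := by
    rw [MulAction.mem_stabilizer_iff, pow_two, mul_smul, h]
  have := (MulAction.stabilizer G x).pow_mem h2 k
  rw [← hk] at this
  exact this

theorem irr_nf {n : ℕ} (hn : FI.{u} n) {G : Type*} {V : Type u} [Group G] [Finite G]
    [AddCommGroup V] [Finite V] [DistribMulAction G V] (hc : Nat.card G < n)
    (hG : Odd (Nat.card G)) (hI : Irr G V) :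
    ∃ v w : V, ∀ a : G, a • v = v → a • w = w → ∀ x : V, a • x = x := by
  let f : G →* Equiv.Perm V := MulAction.toPermHom G V
  letI : DistribMulAction f.range V :=
    { (inferInstance : MulAction f.range V) with
      smul_zero := by rintro ⟨_, a, rfl⟩; exact smul_zero a
      smul_add := by rintro ⟨_, a, rfl⟩ x y; exact smul_add a x y }
  have hd : Nat.card f.range ∣ Nat.card G := Subgroup.card_range_dvd f
  haveI : Finite f.range := Finite.of_surjective _ f.rangeRestrict_surjective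
  obtain ⟨v, w, h⟩ := hn f.range V (lt_of_le_of_lt (Nat.le_of_dvd Nat.card_pos hd) hc)
    (odd_of_dvd hd hG) (fun U hU => hI U fun a x hx => hU ⟨f a, a, rfl⟩ x hx)
  refine ⟨v, w, fun a hv hw x => ?_⟩
  have h1 := h ⟨f a, a, rfl⟩ hv hw
  have h2 : f a = 1 := congrArg Subtype.val h1
  have : f a x = x := by rw [h2]; rfl
  exact this

theorem min_nf {n : ℕ} (hn : FI.{u} n) {G : Type*} {V : Type u} [Group G] [Finite G]
    [AddCommGroup V] [Finite V] [DistribMulAction G V] (hc : Nat.card G < n)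
    (hG : Odd (Nat.card G)) {M : AddSubgroup V} (hM : MinInv G M) :
    ∃ v ∈ M, ∃ w ∈ M, ∀ a : G, a • v = v → a • w = w → ∀ x ∈ M, a • x = x := by
  letI := subAct G M hM.1
  have hI : Irr G M := by
    intro U hU
    have h1 : Inv G (U.map M.subtype) := by
      rintro a _ ⟨x, hx, rfl⟩
      exact ⟨a • x, hU a x hx, rfl⟩
    rcases hM.2 _ h1 (AddSubgroup.map_subtype_le U) with h | h
    · left
      exact (AddSubgroup.map_eq_bot_iff_of_injective U M.subtype_injective).1 h
    · right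
      rw [eq_top_iff]
      intro x _
      have : (x : V) ∈ U.map M.subtype := by rw [h]; exact x.2
      obtain ⟨y, hy, e⟩ := this
      rwa [← Subtype.ext e]
  obtain ⟨v, w, h⟩ := irr_nf hn hc hG hI
  refine ⟨v, v.2, w, w.2, fun a hv hw x hx => ?_⟩
  exact congrArg Subtype.val (h a (Subtype.ext hv) (Subtype.ext hw) ⟨x, hx⟩)

/-- Sums of irreducible modules. -/
theorem gen {n : ℕ} (hn : FI.{u} n) {G : Type*} {V : Type u} [Group G] [Finite G]
    [AddCommGroup V] [Finite V] [DistribMulAction G V] (hc : Nat.card G < n)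
    (hG : Odd (Nat.card G))
    (hS : ∀ U : AddSubgroup V, Inv G U → U ≠ ⊤ → ∃ M, MinInv G M ∧ ¬ M ≤ U) :
    ∃ v w : V, ∀ a : G, a • v = v → a • w = w → ∀ x : V, a • x = x := by
  let S : Set (AddSubgroup V) := {U | Inv G U ∧ ∃ v ∈ U, ∃ w ∈ U,
    ∀ a : G, a • v = v → a • w = w → ∀ x ∈ U, a • x = x}
  have h0 : (⊥ : AddSubgroup V) ∈ S := by
    refine ⟨fun a v hv => ?_, 0, zero_mem _, 0, zero_mem _, fun a _ _ x hx => ?_⟩
    · rw [AddSubgroup.mem_bot] at hv ⊢; rw [hv, smul_zero]
    · rw [AddSubgroup.mem_bot] at hx; rw [hx, smul_zero]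
  obtain ⟨U, ⟨hU, v, hv, w, hw, h⟩, hmax⟩ := (Set.toFinite S).exists_maximal ⟨_, h0⟩
  by_cases ht : U = ⊤
  · exact ⟨v, w, fun a h1 h2 x => h a h1 h2 x (ht ▸ AddSubgroup.mem_top x)⟩
  exfalso
  obtain ⟨M, hM, hMU⟩ := hS U hU ht
  obtain ⟨v', hv', w', hw', h'⟩ := min_nf hn hc hG hM
  have hbot : U ⊓ M = ⊥ := by
    rcases hM.2 (U ⊓ M) (fun a x hx => ⟨hU a x hx.1, hM.1 a x hx.2⟩) inf_le_right with h1 | h1
    · exact h1
    · exact absurd (h1 ▸ inf_le_left) hMU
  have key : ∀ (a : G) (x y : V), x ∈ U → y ∈ M → a • (x + y) = x + y → a • x = x ∧ a • y = y := by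
    intro a x y hx hy e
    have h1 : a • x - x ∈ U ⊓ M := by
      refine ⟨U.sub_mem (hU a x hx) hx, ?_⟩
      have : a • x - x = y - a • y := by
        rw [smul_add] at e
        rw [sub_eq_sub_iff_add_eq_add, e, add_comm]
      rw [this]
      exact M.sub_mem hy (hM.1 a y hy)
    rw [hbot, AddSubgroup.mem_bot, sub_eq_zero] at h1
    refine ⟨h1, ?_⟩
    rw [smul_add, h1] at e
    exact add_left_cancel e
  have hmem : U ⊔ M ∈ S := by
    refine ⟨fun a x hx => ?_, v + v', AddSubgroup.add_mem_sup hv hv', w + w',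
      AddSubgroup.add_mem_sup hw hw', fun a h1 h2 x hx => ?_⟩
    · obtain ⟨y, hy, z, hz, rfl⟩ := AddSubgroup.mem_sup.1 hx
      rw [smul_add]
      exact AddSubgroup.add_mem_sup (hU a y hy) (hM.1 a z hz)
    · obtain ⟨y, hy, z, hz, rfl⟩ := AddSubgroup.mem_sup.1 hx
      obtain ⟨e1, e2⟩ := key a v v' hv hv' h1
      obtain ⟨e3, e4⟩ := key a w w' hw hw' h2
      rw [smul_add, h a e1 e3 y hy, h' a e2 e4 z hz]
  exact hMU (le_sup_right.trans (hmax hmem le_sup_left))

/-- The conjugation action on an abelian normal subgroup, additively. -/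
@[reducible] def conjAct {H : Type*} [Group H] (N : Subgroup H) [hN : N.Normal]
    [IsMulCommutative N] : DistribMulAction H (Additive N) where
  smul h x := Additive.ofMul ⟨h * (x.toMul : H) * h⁻¹, hN.conj_mem _ x.toMul.2 h⟩
  one_smul x := by
    apply Additive.toMul.injective
    apply Subtype.ext
    change 1 * (x.toMul : H) * 1⁻¹ = x.toMul
    group
  mul_smul a b x := by
    apply Additive.toMul.injective
    apply Subtype.ext
    change a * b * (x.toMul : H) * (a * b)⁻¹ = a * (b * (x.toMul : H) * b⁻¹) * a⁻¹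
    group
  smul_zero a := by
    apply Additive.toMul.injective
    apply Subtype.ext
    change a * (1 : H) * a⁻¹ = 1
    group
  smul_add a x y := by
    apply Additive.toMul.injective
    apply Subtype.ext
    change a * ((x.toMul : H) * y.toMul) * a⁻¹ = a * (x.toMul : H) * a⁻¹ * (a * (y.toMul : H) * a⁻¹)
    group

/-- Multiplicative form: a subgroup `K` acting on an abelian normal subgroup `N` that is a product
of `K`-irreducible pieces. -/
theorem gen_mul {n : ℕ} (hn : FI.{u} n) {H : Type u} [Group H] [Finite H] (hH : Odd (Nat.card H))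
    (K N : Subgroup H) (hc : Nat.card K < n) [hN : N.Normal] [IsMulCommutative N]
    (hS : ∀ U : Subgroup H, U ≤ N → (∀ k ∈ K, ∀ u ∈ U, k * u * k⁻¹ ∈ U) → U ≠ N →
      ∃ M : Subgroup H, M ≤ N ∧ (∀ k ∈ K, ∀ u ∈ M, k * u * k⁻¹ ∈ M) ∧
        (∀ W : Subgroup H, W ≤ M → (∀ k ∈ K, ∀ u ∈ W, k * u * k⁻¹ ∈ W) → W = ⊥ ∨ W = M) ∧
        ¬ M ≤ U) :
    ∃ v ∈ N, ∃ w ∈ N, ∀ k ∈ K, k * v * k⁻¹ = v → k * w * k⁻¹ = w →
      ∀ x ∈ N, k * x * k⁻¹ = x := by
  letI := conjAct N
  let up : AddSubgroup (Additive N) → Subgroup H := fun U =>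
    (AddSubgroup.toSubgroup' U).map N.subtype
  let dn : Subgroup H → AddSubgroup (Additive N) := fun U =>
    Subgroup.toAddSubgroup (U.subgroupOf N)
  have mem_up : ∀ U (x : H), x ∈ up U ↔ ∃ h : x ∈ N, Additive.ofMul (⟨x, h⟩ : N) ∈ U := by
    intro U x
    constructor
    · rintro ⟨y, hy, rfl⟩
      exact ⟨y.2, hy⟩
    · rintro ⟨h, hx⟩
      exact ⟨⟨x, h⟩, hx, rfl⟩
  have mem_dn : ∀ U (x : Additive N), x ∈ dn U ↔ (x.toMul : H) ∈ U := fun U x => Iff.rfl
  have inv_up : ∀ U, Inv K U → ∀ k ∈ K, ∀ u ∈ up U, k * u * k⁻¹ ∈ up U := by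
    intro U hU k hk u hu
    obtain ⟨h, hu⟩ := (mem_up U u).1 hu
    exact (mem_up U _).2 ⟨hN.conj_mem u h k, hU ⟨k, hk⟩ _ hu⟩
  obtain ⟨v, w, h⟩ := gen (G := K) (V := Additive N) hn hc
    (odd_of_dvd (Subgroup.card_subgroup_dvd_card K) hH) (by
      intro U hU hne
      obtain ⟨M, hMN, hMi, hMm, hMU⟩ := hS (up U) (map_subtype_le _) (inv_up U hU) (by
        intro e
        apply hne
        rw [eq_top_iff]
        intro x _
        have : (x.toMul : H) ∈ up U := by rw [e]; exact x.toMul.2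
        exact ((mem_up U _).1 this).2)
      refine ⟨dn M, ⟨fun k x hx => hMi k k.2 _ hx, fun W hW hWM => ?_⟩, fun hle => hMU ?_⟩
      · rcases hMm (up W) (fun x hx => by
          obtain ⟨h, hx⟩ := (mem_up W x).1 hx
          exact hWM hx) (inv_up W hW) with e | e
        · left
          rw [eq_bot_iff]
          intro x hx
          have : (x.toMul : H) ∈ up W := (mem_up W _).2 ⟨x.toMul.2, hx⟩
          rw [e, Subgroup.mem_bot] at this
          rw [AddSubgroup.mem_bot]
          apply Additive.toMul.injective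
          exact Subtype.ext this
        · right
          refine le_antisymm hWM fun x hx => ?_
          have : (x.toMul : H) ∈ up W := by rw [e]; exact hx
          exact ((mem_up W _).1 this).2
      · intro x hx
        exact (mem_up U x).2 ⟨hMN hx, hle hx⟩)
  refine ⟨v.toMul, v.toMul.2, w.toMul, w.toMul.2, fun k hk h1 h2 x hx => ?_⟩
  have := h ⟨k, hk⟩ (Additive.toMul.injective (Subtype.ext h1))
    (Additive.toMul.injective (Subtype.ext h2)) (Additive.ofMul ⟨x, hx⟩)
  exact congrArg (fun y : Additive N => (y.toMul : H)) this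

end Cfsg.Agent.CH.Reg
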