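import Cfsg.Agent.CH.Reg1
import Cfsg.Agent.SolvStr.Frattini

/-! Regular orbits of odd-order groups on pairs of vectors: Fitting bound, Gluck's lemma for
primitive groups, the imprimitive step. -/

set_option autoImplicit false

namespace Cfsg.Agent.CH.Reg

open Subgroup
open scoped IsMulCommutative

universe u

theorem fit_bound {n : ℕ} (hn : FI.{u} n) {H : Type u} [Group H] [Finite H]
    (hH : Odd (Nat.card H)) (hc : Nat.card H < n) :
    (fittingSubgroup H).index ≤ Nat.card (fittingSubgroup H) ^ 2 := by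
  let π := QuotientGroup.mk' (frattini H)
  have hd : Nat.card (H ⧸ frattini H) ∣ Nat.card H := Subgroup.card_quotient_dvd_card _
  have hodd : Odd (Nat.card (H ⧸ frattini H)) := odd_of_dvd hd hH
  haveI : Group.IsSolvable (H ⧸ frattini H) := S0205.result hodd
  have hΦ : frattini (H ⧸ frattini H) = ⊥ := SolvStr.frattini_quotient_frattini
  set N := fittingSubgroup (H ⧸ frattini H) with hNdef
  have hab : ⁅N, N⁆ = ⊥ := by
    rw [eq_bot_iff, ← hΦ]
    exact SolvStr.commutator_le_frattini_of_normal N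
  haveI : IsMulCommutative N := by
    rw [Subgroup.commutator_eq_bot_iff_le_centralizer] at hab
    exact ⟨⟨fun a b => Subtype.ext (hab b.2 a a.2)⟩⟩
  obtain ⟨v, hv, w, hw, h⟩ := gen_mul hn hodd ⊤ N
    (by rw [card_top]; exact lt_of_le_of_lt (Nat.le_of_dvd Nat.card_pos hd) hc) (by
      intro U hUN _ hne
      by_contra hcon
      apply hne
      refine le_antisymm hUN ?_
      rw [hNdef, S0586.result hΦ]
      refine sSup_le ?_
      rintro M ⟨hM, -, hMc, hmin⟩
      by_contra hMU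
      refine hcon ⟨M, Solv.le_fitting_of_isMulCommutative, fun k _ u hu => hM.conj_mem u hu k,
        fun W hW hWi => hmin W ⟨fun u hu k => hWi k (mem_top k) u hu⟩ hW, hMU⟩)
  have hNn : N.Normal := inferInstance
  let f : (H ⧸ frattini H) ⧸ N → N × N := fun ω =>
    (⟨ω.out * v * ω.out⁻¹, hNn.conj_mem v hv _⟩, ⟨ω.out * w * ω.out⁻¹, hNn.conj_mem w hw _⟩)
  have hf : Function.Injective f := by
    intro a b e
    have e1 : a.out * v * a.out⁻¹ = b.out * v * b.out⁻¹ := 
      congrArg (fun p : N × N => (p.1 : H ⧸ frattini H)) e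
    have e2 : a.out * w * a.out⁻¹ = b.out * w * b.out⁻¹ := 
      congrArg (fun p : N × N => (p.2 : H ⧸ frattini H)) e
    have h1 := h (a.out⁻¹ * b.out) (mem_top _)
      (by rw [show a.out⁻¹ * b.out * v * (a.out⁻¹ * b.out)⁻¹ =
        a.out⁻¹ * (b.out * v * b.out⁻¹) * a.out by group, ← e1]; group)
      (by rw [show a.out⁻¹ * b.out * w * (a.out⁻¹ * b.out)⁻¹ =
        a.out⁻¹ * (b.out * w * b.out⁻¹) * a.out by group, ← e2]; group)
    have h2 : a.out⁻¹ * b.out ∈ N := by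
      apply Solv.centralizer_fitting_le
      intro x hx
      have := h1 x hx
      rw [mul_inv_eq_iff_eq_mul] at this
      exact this.symm
    rw [← QuotientGroup.out_eq' a, ← QuotientGroup.out_eq' b]
    exact QuotientGroup.eq.2 h2
  have h3 : N.index ≤ Nat.card N ^ 2 := by
    have := Nat.card_le_card_of_injective f hf
    rwa [Nat.card_prod, ← pow_two] at this
  have h4 : N = (fittingSubgroup H).map π := S0070.result
  rw [h4, SolvStr.index_map_mk' Solv.frattini_le_fitting] at h3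
  refine h3.trans (Nat.pow_le_pow_left (Nat.le_of_dvd Nat.card_pos ?_) 2)
  exact Subgroup.card_map_dvd _ _

theorem four_aux {N : Type*} [Group N] (φ : N ≃* N) {v w : N}
    (hv : φ v = v ∨ φ v = v⁻¹ ∨ φ v = w ∨ φ v = w⁻¹)
    (hw : φ w = v ∨ φ w = v⁻¹ ∨ φ w = w ∨ φ w = w⁻¹) : φ (φ (φ (φ v))) = v := by
  have key : φ (φ v) = v ∨ φ (φ v) = v⁻¹ := by
    rcases hv with h | h | h | h
    · left; rw [h, h]
    · left; rw [h, map_inv, h, inv_inv]
    · rcases hw with h' | h' | h' | h'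
      · left; rw [h, h']
      · right; rw [h, h']
      · left
        have : v = w := φ.injective (h.trans h'.symm)
        rw [h, h', this]
      · left
        have : v = w⁻¹ := φ.injective (by rw [map_inv, h', inv_inv, h])
        rw [h, h', this]
    · rcases hw with h' | h' | h' | h'
      · right; rw [h, map_inv, h']
      · left; rw [h, map_inv, h', inv_inv]
      · left
        have : v = w⁻¹ := φ.injective (by rw [map_inv, h', h])
        rw [h, map_inv, h', this]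
      · left
        have : v = w := φ.injective (h.trans h'.symm)
        rw [h, map_inv, h', inv_inv, this]
  rcases key with h | h
  · rw [h, h]
  · rw [h, map_inv, map_inv, h, inv_inv]

theorem trans_aux {N : Type*} [CommGroup N] [Finite N] (hN : Odd (Nat.card N)) (φ : N ≃* N)
    {v w t : N} (hv : v ≠ 1) (hw : w ≠ 1)
    (h : ∀ δ, δ = v ∨ δ = v⁻¹ ∨ δ = w ∨ δ = w⁻¹ →
      t * φ δ = v ∨ t * φ δ = v⁻¹ ∨ t * φ δ = w ∨ t * φ δ = w⁻¹) : t = 1 := by
  classical
  let Δ : Finset N := {v, v⁻¹, w, w⁻¹}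
  have ne : ∀ x : N, x ≠ 1 → x ≠ x⁻¹ := fun x hx e =>
    hx (eq_one_of_sq hN (by rw [pow_two]; nth_rw 2 [e]; exact mul_inv_cancel x))
  have h1 : ∏ δ ∈ Δ, δ = 1 ∧ (Δ.card = 2 ∨ Δ.card = 4) := by
    by_cases e : w = v ∨ w = v⁻¹
    · have : Δ = {v, v⁻¹} := by
        rcases e with rfl | rfl <;> ext x <;> simp [Δ] <;> tauto
      rw [this, Finset.prod_pair (ne v hv), Finset.card_pair (ne v hv)]
      simp
    · push Not at e
      have a1 : v ∉ ({v⁻¹, w, w⁻¹} : Finset N) := by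
        simp only [Finset.mem_insert, Finset.mem_singleton, not_or]
        exact ⟨ne v hv, e.1.symm, fun h => e.2 (by rw [h, inv_inv])⟩
      have a2 : v⁻¹ ∉ ({w, w⁻¹} : Finset N) := by
        simp only [Finset.mem_insert, Finset.mem_singleton, not_or]
        exact ⟨e.2.symm, fun h => e.1 (inv_injective h).symm⟩
      simp only [Δ]
      rw [Finset.prod_insert a1, Finset.prod_insert a2, Finset.prod_pair (ne w hw),
        Finset.card_insert_of_notMem a1, Finset.card_insert_of_notMem a2,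
        Finset.card_pair (ne w hw)]
      simp
  have hinj : Function.Injective fun δ => t * φ δ := fun a b e =>
    φ.injective (mul_left_cancel e)
  have h2 : Δ.image (fun δ => t * φ δ) = Δ := by
    apply Finset.eq_of_subset_of_card_le
    · intro x hx
      obtain ⟨δ, hδ, rfl⟩ := Finset.mem_image.1 hx
      simpa [Δ] using h δ (by simpa [Δ] using hδ)
    · rw [Finset.card_image_of_injective _ hinj]
  have h3 : ∏ δ ∈ Δ, δ = ∏ δ ∈ Δ, t * φ δ := by
    conv_lhs => rw [← h2]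
    rw [Finset.prod_image fun a _ b _ e => hinj e]
  rw [Finset.prod_mul_distrib, Finset.prod_const, ← map_prod, h1.1, map_one, mul_one] at h3
  rcases h1.2 with e | e <;> rw [e] at h3
  · exact eq_one_of_sq hN h3.symm
  · refine eq_one_of_sq hN (eq_one_of_sq hN ?_)
    rw [← pow_mul]; exact h3.symm

theorem gluck_free {n : ℕ} (hn : FI.{u} n) {G : Type u} [Group G] [Finite G]
    (hG : Odd (Nat.card G)) (hc : Nat.card G ≤ n) {H : Subgroup G} (hH : IsCoatom H)
    (hcore : H.normalCore = ⊥) :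
    ∃ D : Set G, (∀ x ∈ D, ∀ h ∈ H, x * h ∈ D) ∧ ∀ g : G, (∀ x ∈ D, g * x ∈ D) → g = 1 := by
  haveI : Group.IsSolvable G := S0205.result hG
  obtain ⟨N, ⟨hN, hN1⟩, hmin⟩ := (Set.toFinite {N : Subgroup G | N.Normal ∧ N ≠ ⊥}).exists_minimal
    ⟨⊤, inferInstance, fun e => hH.1 (top_le_iff.1 (e ▸ bot_le))⟩
  have hmin' : ∀ W : Subgroup G, W.Normal → W ≤ N → W = ⊥ ∨ W = N := fun W hW hWN =>
    (em (W = ⊥)).imp id fun h => le_antisymm hWN (hmin ⟨hW, h⟩ hWN)
  have hab : ⁅N, N⁆ = ⊥ := by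
    have := Group.IsSolvable.commutator_lt_of_ne_bot hN1
    exact (hmin' _ inferInstance this.le).resolve_right this.ne
  haveI : IsMulCommutative N := by
    rw [Subgroup.commutator_eq_bot_iff_le_centralizer] at hab
    exact ⟨⟨fun a b => Subtype.ext (hab b.2 a a.2)⟩⟩
  have hsup : N ⊔ H = ⊤ := SolvStr.sup_eq_top_of_coreFree hH hcore hN1
  have hinf : N ⊓ H = ⊥ := by
    haveI := SolvStr.normal_inf_of_sup_eq_top hsup
    rw [eq_bot_iff, ← hcore]
    exact normal_le_normalCore.2 inf_le_right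
  have hcent := SolvStr.centralizer_inf_eq_bot_of_coreFree hH hcore hN1
  have hdec : ∀ g : G, ∃ t ∈ N, ∃ k ∈ H, t * k = g := fun g =>
    mem_sup_of_normal_left.1 (hsup ▸ mem_top g)
  have hlt : Nat.card H < Nat.card G := by
    by_contra h
    exact hH.1 (Subgroup.eq_top_of_le_card H (not_lt.1 h))
  obtain ⟨v, hv, w, hw, h⟩ := gen_mul hn hG H N (lt_of_lt_of_le hlt hc) (by
    intro U hUN _ hne
    refine ⟨N, le_rfl, fun k _ u hu => hN.conj_mem u hu k, fun W hW hWi => hmin' W ⟨?_⟩ hW,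
      fun h => hne (le_antisymm hUN h)⟩
    intro u hu g
    obtain ⟨t, ht, k, hk, rfl⟩ := hdec g
    have h1 := hWi k hk u hu
    have h2 : t * (k * u * k⁻¹) = k * u * k⁻¹ * t :=
      congrArg Subtype.val (mul_comm' (⟨t, ht⟩ : N) ⟨_, hW h1⟩)
    rwa [show t * k * u * (t * k)⁻¹ = t * (k * u * k⁻¹) * t⁻¹ by group, h2, mul_inv_cancel_right])
  obtain ⟨v, hv, w, hw, hv1, hw1, h⟩ : ∃ v ∈ N, ∃ w ∈ N, v ≠ 1 ∧ w ≠ 1 ∧ ∀ k ∈ H,
      k * v * k⁻¹ = v → k * w * k⁻¹ = w → ∀ x ∈ N, k * x * k⁻¹ = x := by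
    by_cases e1 : v = 1 <;> by_cases e2 : w = 1
    · obtain ⟨t, ht, ht1⟩ := (N.bot_or_exists_ne_one).resolve_left hN1
      exact ⟨t, ht, t, ht, ht1, ht1, fun k hk _ _ => h k hk (by simp [e1]) (by simp [e2])⟩
    · exact ⟨w, hw, w, hw, e2, e2, fun k hk h1 _ => h k hk (by simp [e1]) h1⟩
    · exact ⟨v, hv, v, hv, e1, e1, fun k hk h1 _ => h k hk h1 (by simp [e2])⟩
    · exact ⟨v, hv, w, hw, e1, e2, h⟩
  let v' : N := ⟨v, hv⟩
  let w' : N := ⟨w, hw⟩
  refine ⟨{x | ∃ δ : N, (δ = v' ∨ δ = v'⁻¹ ∨ δ = w' ∨ δ = w'⁻¹) ∧ (δ : G)⁻¹ * x ∈ H}, ?_, ?_⟩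
  · rintro x ⟨δ, hδ, hx⟩ k hk
    exact ⟨δ, hδ, by rw [← mul_assoc]; exact H.mul_mem hx hk⟩
  intro g hg
  obtain ⟨t, ht, k, hk, rfl⟩ := hdec g
  let φ : N ≃* N := MulAut.conjNormal k
  have hφ : ∀ δ : N, (φ δ : G) = k * δ * k⁻¹ := fun δ => rfl
  have key : ∀ δ : N, δ = v' ∨ δ = v'⁻¹ ∨ δ = w' ∨ δ = w'⁻¹ →
      ⟨t, ht⟩ * φ δ = v' ∨ ⟨t, ht⟩ * φ δ = v'⁻¹ ∨ ⟨t, ht⟩ * φ δ = w' ∨ ⟨t, ht⟩ * φ δ = w'⁻¹ := by
    intro δ hδ
    obtain ⟨δ', hδ', hx⟩ := hg δ ⟨δ, hδ, by simp⟩
    have h1 : ((δ'⁻¹ * (⟨t, ht⟩ * φ δ) : N) : G) ∈ N ⊓ H := by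
      refine ⟨Subtype.property _, ?_⟩
      have := H.mul_mem hx (H.inv_mem hk)
      simpa [hφ, mul_assoc] using this
    rw [hinf, mem_bot, OneMemClass.coe_eq_one, inv_mul_eq_one] at h1
    rwa [← h1]
  have ht1 : (⟨t, ht⟩ : N) = 1 :=
    trans_aux (odd_of_dvd (card_subgroup_dvd_card N) hG) φ
      (fun e => hv1 (congrArg Subtype.val e)) (fun e => hw1 (congrArg Subtype.val e)) key
  simp only [ht1, one_mul] at key
  have e1 := four_aux φ (key v' (by simp)) (key w' (by simp))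
  have e2 := four_aux φ (v := w') (w := v') (by have := key w' (by simp); tauto)
    (by have := key v' (by simp); tauto)
  have e3 : k ^ 4 * v * (k ^ 4)⁻¹ = v := by
    have := congrArg Subtype.val e1
    simp only [hφ] at this
    refine Eq.trans ?_ this
    simp only [v', pow_succ, pow_zero]; group
  have e4 : k ^ 4 * w * (k ^ 4)⁻¹ = w := by
    have := congrArg Subtype.val e2
    simp only [hφ] at this
    refine Eq.trans ?_ this
    simp only [w', pow_succ, pow_zero]; group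
  have e5 : k ^ 4 ∈ centralizer (N : Set G) ⊓ H := by
    refine ⟨fun x hx => ?_, H.pow_mem hk 4⟩
    have := h _ (H.pow_mem hk 4) e3 e4 x hx
    rw [mul_inv_eq_iff_eq_mul] at this
    exact this.symm
  rw [hcent, mem_bot] at e5
  have e6 : k = 1 := eq_one_of_sq hG (eq_one_of_sq hG (by rw [← pow_mul]; exact e5))
  have e7 : t = 1 := congrArg Subtype.val ht1
  rw [e6, e7, one_mul]

/-- Gluck's lemma for primitive groups of odd order. -/
theorem gluck {n : ℕ} (hn : FI.{u} n) {G : Type u} [Group G] [Finite G]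
    (hG : Odd (Nat.card G)) (hc : Nat.card G ≤ n) {H : Subgroup G} (hH : IsCoatom H) :
    ∃ D : Set G, (∀ x ∈ D, ∀ h ∈ H, x * h ∈ D) ∧
      ∀ g : G, (∀ x ∈ D, g * x ∈ D) → g ∈ H.normalCore := by
  let π := QuotientGroup.mk' H.normalCore
  have hd : Nat.card (G ⧸ H.normalCore) ∣ Nat.card G := Subgroup.card_quotient_dvd_card _
  obtain ⟨D, h1, h2⟩ := gluck_free hn (odd_of_dvd hd hG)
    ((Nat.le_of_dvd Nat.card_pos hd).trans hc) (SolvStr.isCoatom_map_mk' hH H.normalCore_le) (by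
      rw [eq_bot_iff]
      intro x hx
      obtain ⟨x, rfl⟩ := QuotientGroup.mk'_surjective H.normalCore x
      rw [mem_bot, QuotientGroup.mk'_apply, QuotientGroup.eq_one_iff]
      intro b
      have := hx (π b)
      rw [← map_inv, ← map_mul, ← map_mul] at this
      obtain ⟨y, hy, e⟩ := this
      have h3 : y⁻¹ * (b * x * b⁻¹) ∈ H.normalCore := QuotientGroup.eq.1 e
      have := H.mul_mem hy (H.normalCore_le h3)
      rwa [mul_inv_cancel_left] at this)
  refine ⟨π ⁻¹' D, fun x hx h hh => ?_, fun g hg => ?_⟩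
  · rw [Set.mem_preimage, map_mul]
    exact h1 _ hx _ ⟨h, hh, rfl⟩
  · have := h2 (π g) fun x hx => by
      obtain ⟨x, rfl⟩ := QuotientGroup.mk'_surjective H.normalCore x
      have := hg x hx
      rwa [Set.mem_preimage, map_mul] at this
    exact (QuotientGroup.eq_one_iff g).1 this

end Cfsg.Agent.CH.Reg
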