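import Cfsg.Agent.CH.Reg2
import Mathlib.Algebra.Ring.Subring.Basic
import Mathlib.Algebra.Group.Hom.End
import Mathlib.Algebra.Ring.Idempotent

/-! Regular orbits of odd-order groups on pairs of vectors: imprimitive modules. -/

set_option autoImplicit false

namespace Cfsg.Agent.CH.Reg

open Subgroup

universe u

theorem imprim {n : ℕ} (hn : FI.{u} n) {G V : Type u} [Group G] [Finite G] [AddCommGroup V]
    [Finite V] [DistribMulAction G V] [FaithfulSMul G V] (hG : Odd (Nat.card G))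
    (hc : Nat.card G ≤ n) (hI : Irr G V) {H : Subgroup G} (hH : IsCoatom H) (e : V →+ V)
    (he0 : e ≠ 0) (hee : ∀ x, e (e x) = e x) (heH : ∀ h ∈ H, ∀ x, e (h • x) = h • e x)
    (heG : ∀ g, g ∉ H → ∀ x, e (g • e x) = 0) :
    ∃ v w : V, ∀ a : G, a • v = v → a • w = w → a = 1 := by
  classical
  obtain ⟨x0, hx0⟩ : ∃ x, e x ≠ 0 := by
    by_contra h
    push Not at h
    exact he0 (AddMonoidHom.ext h)
  have hlt : Nat.card H < Nat.card G := by
    by_contra h
    exact hH.1 (Subgroup.eq_top_of_le_card H (not_lt.1 h))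
  have hW : MinInv H e.range := by
    refine ⟨?_, fun U hU hUW => ?_⟩
    · rintro ⟨h, hh⟩ _ ⟨x, rfl⟩
      exact ⟨h • x, heH h hh x⟩
    by_cases hb : U = ⊥
    · exact Or.inl hb
    right
    refine le_antisymm hUW ?_
    let S : AddSubgroup V :=
      { carrier := {z | ∀ g : G, e (g • z) ∈ U}
        add_mem' := fun {a b} ha hb g => by rw [smul_add, map_add]; exact U.add_mem (ha g) (hb g)
        zero_mem' := fun g => by rw [smul_zero, map_zero]; exact U.zero_mem
        neg_mem' := fun {a} ha g => by rw [smul_neg, map_neg]; exact U.neg_mem (ha g) }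
    have hS : Inv G S := fun a z hz g => by rw [← mul_smul]; exact hz _
    have hUS : U ≤ S := by
      intro u hu g
      obtain ⟨x, rfl⟩ := hUW hu
      by_cases hg : g ∈ H
      · rw [heH g hg, hee]
        exact hU ⟨g, hg⟩ _ hu
      · rw [heG g hg]
        exact U.zero_mem
    rcases hI S hS with h | h
    · exact absurd (eq_bot_iff.2 (h ▸ hUS)) hb
    · rintro _ ⟨x, rfl⟩
      have : x ∈ S := h ▸ AddSubgroup.mem_top x
      simpa using this 1
  obtain ⟨a, ha, b, hb, hab⟩ := min_nf hn (lt_of_lt_of_le hlt hc)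
    (odd_of_dvd (card_subgroup_dvd_card H) hG) hW
  obtain ⟨a, ha, b, hb, hne, hab⟩ : ∃ a ∈ e.range, ∃ b ∈ e.range, a ≠ b ∧ ∀ h : H,
      h • a = a → h • b = b → ∀ x ∈ e.range, h • x = x := by
    by_cases h1 : a = b
    · by_cases h2 : a = 0
      · exact ⟨e x0, ⟨x0, rfl⟩, 0, zero_mem _, hx0, fun h _ _ =>
          hab h (by rw [h2, smul_zero]) (by rw [← h1, h2, smul_zero])⟩
      · exact ⟨a, ha, 0, zero_mem _, h2, fun h h3 _ => hab h h3 (h1 ▸ h3)⟩
    · exact ⟨a, ha, b, hb, h1, hab⟩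
  obtain ⟨D, hD1, hD2⟩ := gluck hn hG hc hH
  haveI : Fintype (G ⧸ H) := Fintype.ofFinite _
  have hfix : ∀ c ∈ e.range, e c = c := by rintro _ ⟨x, rfl⟩; exact hee x
  have key : ∀ (c : G ⧸ H → V), (∀ ω, c ω ∈ e.range) → ∀ y : G,
      e (y⁻¹ • ∑ ω : G ⧸ H, ω.out • c ω) = (y⁻¹ * (y : G ⧸ H).out) • c y := by
    intro c hc y
    rw [Finset.smul_sum, map_sum, Finset.sum_eq_single (y : G ⧸ H)]
    · rw [← mul_smul, heH _ (QuotientGroup.eq.1 (QuotientGroup.out_eq' (y : G ⧸ H)).symm),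
        hfix _ (hc _)]
    · intro ω _ hω
      rw [← mul_smul, ← hfix _ (hc ω)]
      refine heG _ (fun h => hω ?_) _
      rw [← QuotientGroup.out_eq' ω]
      exact (QuotientGroup.eq.2 h).symm
    · simp
  have hmem : ∀ y : G, y⁻¹ * (y : G ⧸ H).out ∈ H := fun y =>
    QuotientGroup.eq.1 (QuotientGroup.out_eq' (y : G ⧸ H)).symm
  have hDout : ∀ y : G, (y : G ⧸ H).out ∈ D ↔ y ∈ D := fun y =>
    ⟨fun h => by simpa using hD1 _ h _ (H.inv_mem (hmem y)),
      fun h => by simpa using hD1 _ h _ (hmem y)⟩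
  let c1 : G ⧸ H → V := fun ω => if ω.out ∈ D then a else b
  let c2 : G ⧸ H → V := fun ω => if ω.out ∈ D then b else a
  have hc1 : ∀ ω, c1 ω ∈ e.range := fun ω => by simp only [c1]; split_ifs <;> assumption
  have hc2 : ∀ ω, c2 ω ∈ e.range := fun ω => by simp only [c2]; split_ifs <;> assumption
  refine ⟨∑ ω : G ⧸ H, ω.out • c1 ω, ∑ ω : G ⧸ H, ω.out • c2 ω, fun g hv hw => ?_⟩
  have step : ∀ (c : G ⧸ H → V), (∀ ω, c ω ∈ e.range) →
      g • ∑ ω : G ⧸ H, ω.out • c ω = ∑ ω : G ⧸ H, ω.out • c ω → ∀ x : G,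
      ((((g * x : G) : G ⧸ H).out)⁻¹ * g * (x : G ⧸ H).out) • c x = c (g * x : G) := by
    intro c hc h x
    have h1 := key c hc (g * x)
    have h2 := key c hc x
    rw [mul_inv_rev, mul_smul, inv_smul_eq_iff.2 h.symm, h2] at h1
    have h3 := congrArg (fun z => (x⁻¹ * g⁻¹ * ((g * x : G) : G ⧸ H).out)⁻¹ • z) h1
    simp only [← mul_smul, inv_mul_cancel, one_smul] at h3
    rw [← h3]
    congr 1
    group
  have hmem2 : ∀ x : G, (((g * x : G) : G ⧸ H).out)⁻¹ * g * (x : G ⧸ H).out ∈ H := fun x => by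
    have := H.mul_mem (H.inv_mem (hmem (g * x))) (hmem x)
    convert this using 1
    group
  have hgD : ∀ x ∈ D, g * x ∈ D := by
    intro x hx
    by_contra hgx
    have h1 := step c1 hc1 hv x
    have h2 := step c2 hc2 hw x
    simp only [c1, c2, hDout, hx, hgx, if_true, if_false] at h1 h2
    apply hne
    rw [← h1]
    exact (smul_eq_of_sq hG (by rw [h1, h2])).symm
  have hg := hD2 g hgD
  have hall : ∀ x : G, ∀ z ∈ e.range, g • x • z = x • z := by
    intro x z hz
    have e1 : ((g * x : G) : G ⧸ H) = x := by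
      apply Eq.symm
      rw [QuotientGroup.eq]
      simpa [mul_assoc] using hg x⁻¹
    have h1 := step c1 hc1 hv x
    have h2 := step c2 hc2 hw x
    have h3 := hmem2 x
    rw [e1] at h1 h2 h3
    have h4 : ∀ z ∈ e.range, (((x : G ⧸ H).out)⁻¹ * g * (x : G ⧸ H).out) • z = z := by
      by_cases hx : (x : G ⧸ H).out ∈ D
      · simp only [c1, c2, hx, if_true] at h1 h2
        exact hab ⟨_, h3⟩ h1 h2
      · simp only [c1, c2, hx, if_false] at h1 h2
        exact hab ⟨_, h3⟩ h2 h1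
    have h5 := h4 _ (hW.1 ⟨_, H.inv_mem (hmem x)⟩ z hz)
    have h6 := congrArg (fun z => (x : G ⧸ H).out • z) h5
    simp only [Subgroup.smul_def, ← mul_smul] at h6
    rw [← mul_smul]
    convert h6 using 2 <;> group
  let S : AddSubgroup V :=
    { carrier := {z | ∀ x : G, g • x • z = x • z}
      add_mem' := fun {a b} ha hb x => by rw [smul_add, smul_add, ha x, hb x]
      zero_mem' := fun x => by rw [smul_zero, smul_zero]
      neg_mem' := fun {a} ha x => by rw [smul_neg, smul_neg, ha x] }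
  have hS : Inv G S := fun y z hz x => by rw [← mul_smul x y]; exact hz _
  rcases hI S hS with h | h
  · have : e x0 ∈ S := fun x => hall x _ ⟨x0, rfl⟩
    rw [h] at this
    exact absurd this hx0
  · refine FaithfulSMul.eq_of_smul_eq_smul (α := V) fun z => ?_
    have : z ∈ S := h ▸ AddSubgroup.mem_top z
    simpa using this 1

theorem exists_idem_pow {M : Type*} [Monoid M] [Finite M] (x : M) :
    ∃ k : ℕ, 0 < k ∧ x ^ k * x ^ k = x ^ k := by
  obtain ⟨i, j, hij, e⟩ : ∃ i j : ℕ, i < j ∧ x ^ i = x ^ j := by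
    obtain ⟨i, j, hne, e⟩ := Finite.exists_ne_map_eq_of_infinite fun i : ℕ => x ^ i
    rcases lt_or_gt_of_ne hne with h | h
    · exact ⟨i, j, h, e⟩
    · exact ⟨j, i, h, e.symm⟩
  obtain ⟨d, rfl⟩ := Nat.exists_eq_add_of_lt hij
  have h : ∀ t, x ^ (i + (d + 1) * t) = x ^ i := by
    intro t
    induction t with
    | zero => simp
    | succ t ih =>
      rw [show i + (d + 1) * (t + 1) = (i + d + 1) + (d + 1) * t by ring, pow_add, ← e, ← pow_add,
        ih]
  refine ⟨(d + 1) * (i + 1), by positivity, ?_⟩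
  rw [← pow_add, show (d + 1) * (i + 1) + (d + 1) * (i + 1) =
    (d * (i + 1) + 1) + (i + (d + 1) * (i + 1)) by ring, pow_add, h, ← pow_add]
  congr 1
  ring

section Ring

variable {G V : Type*} [Group G] [AddCommGroup V] [DistribMulAction G V]

variable (V) in
/-- The representation. -/
def ρ : G →* AddMonoid.End V := DistribMulAction.toAddMonoidEnd G V

@[simp] theorem ρ_apply (g : G) (v : V) : ρ V g v = g • v := rfl

/-- Conjugation of endomorphisms. -/
def cj (g : G) : AddMonoid.End V →+* AddMonoid.End V where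
  toFun κ := ρ V g * κ * ρ V g⁻¹
  map_one' := by rw [mul_one, ← map_mul, mul_inv_cancel, map_one]
  map_mul' a b := by
    have : ρ V g⁻¹ * ρ V g = 1 := by rw [← map_mul, inv_mul_cancel, map_one]
    calc ρ V g * (a * b) * ρ V g⁻¹ = ρ V g * a * (ρ V g⁻¹ * ρ V g) * b * ρ V g⁻¹ := by
          rw [this]; noncomm_ring
      _ = _ := by noncomm_ring
  map_zero' := by simp
  map_add' a b := by noncomm_ring

theorem cj_apply (g : G) (κ : AddMonoid.End V) (v : V) : cj g κ v = g • κ (g⁻¹ • v) := rfl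

theorem cj_mul (g h : G) (κ : AddMonoid.End V) : cj (g * h) κ = cj g (cj h κ) := by
  ext v
  simp only [cj_apply, mul_smul, mul_inv_rev]

theorem cj_one (κ : AddMonoid.End V) : cj (1 : G) κ = κ := by
  ext v
  simp only [cj_apply, one_smul, inv_one]

theorem cj_inv (g : G) (κ : AddMonoid.End V) : cj g⁻¹ (cj g κ) = κ := by
  rw [← cj_mul, inv_mul_cancel, cj_one]

theorem cj_inv' (g : G) (κ : AddMonoid.End V) : cj g (cj g⁻¹ κ) = κ := by
  rw [← cj_mul, mul_inv_cancel, cj_one]

theorem cj_inj (g : G) : Function.Injective (cj g : AddMonoid.End V → _) :=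
  Function.LeftInverse.injective (cj_inv g)

theorem cj_ρ (g x : G) : cj g (ρ V x) = ρ V (g * x * g⁻¹) := by
  rw [map_mul, map_mul]; rfl

variable (V) in
/-- The ring generated by a subgroup. -/
def KR (N : Subgroup G) : Subring (AddMonoid.End V) := Subring.closure (ρ V '' (N : Set G))

theorem ρ_mem {N : Subgroup G} {x : G} (hx : x ∈ N) : ρ V x ∈ KR V N :=
  Subring.subset_closure ⟨x, hx, rfl⟩

theorem cj_mem {N : Subgroup G} [hN : N.Normal] (g : G) {κ : AddMonoid.End V} (h : κ ∈ KR V N) :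
    cj g κ ∈ KR V N := by
  have : KR V N ≤ (KR V N).comap (cj g) := by
    refine Subring.closure_le.2 ?_
    rintro _ ⟨x, hx, rfl⟩
    change cj g (ρ V x) ∈ KR V N
    rw [cj_ρ]
    exact ρ_mem (hN.conj_mem x hx g)
  exact this h

theorem comm_of_cent {N : Subgroup G} {f : AddMonoid.End V} (hf : ∀ x ∈ N, ρ V x * f = f * ρ V x)
    {κ : AddMonoid.End V} (h : κ ∈ KR V N) : κ * f = f * κ := by
  have : KR V N ≤ Subring.centralizer {f} := by
    refine Subring.closure_le.2 ?_
    rintro _ ⟨x, hx, rfl⟩ _ rfl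
    exact (hf x hx).symm
  exact (this h f rfl).symm

theorem KR_comm {N : Subgroup G} [IsMulCommutative N] {a b : AddMonoid.End V} (ha : a ∈ KR V N)
    (hb : b ∈ KR V N) : a * b = b * a := by
  refine comm_of_cent (fun x hx => (comm_of_cent (fun y hy => ?_) hb).symm) ha
  rw [← map_mul, ← map_mul]
  exact congrArg (fun z : N => ρ V (z : G)) (mul_comm' (⟨y, hy⟩ : N) ⟨x, hx⟩)

theorem nil_zero [Finite V] (hI : Irr G V) {N : Subgroup G} [N.Normal] [IsMulCommutative N]
    {κ : AddMonoid.End V} (hκ : κ ∈ KR V N) {k : ℕ} (hk : κ ^ k = 0) : κ = 0 := by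
  classical
  by_contra hne
  obtain ⟨x0, hx0⟩ : ∃ x, κ x ≠ 0 := by
    by_contra h
    push Not at h
    exact hne (AddMonoidHom.ext h)
  let J : Set (AddMonoid.End V) := {f | f ∈ KR V N ∧ ∃ k : ℕ, f ^ k = 0}
  let U : AddSubgroup V :=
    { carrier := {z | ∀ f ∈ J, f z = 0}
      add_mem' := fun {a b} ha hb f hf => by rw [map_add, ha f hf, hb f hf, add_zero]
      zero_mem' := fun f _ => map_zero f
      neg_mem' := fun {a} ha f hf => by rw [map_neg, ha f hf, neg_zero] }
  have hU : Inv G U := by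
    rintro g z hz f ⟨hf, j, hj⟩
    have := hz (cj g⁻¹ f) ⟨cj_mem _ hf, j, by rw [← map_pow, hj, map_zero]⟩
    rw [cj_apply, inv_inv] at this
    simpa using congrArg (fun y => g • y) this
  rcases hI U hU with h | h
  · obtain ⟨v, hv, hmax⟩ := (Set.toFinite {v : V | v ≠ 0}).exists_maximalFor
      (fun v => {f ∈ J | f v = 0}) _ ⟨κ x0, hx0⟩
    apply hv
    rw [← AddSubgroup.mem_bot, ← h]
    rintro f ⟨hf, j, hj⟩
    have hex : ∃ j, (f ^ j) v = 0 := ⟨j, by rw [hj]; rfl⟩
    have h0 : Nat.find hex ≠ 0 := fun e => hv (by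
      have := Nat.find_spec hex
      rwa [e, pow_zero] at this)
    obtain ⟨i, hi⟩ := Nat.exists_eq_succ_of_ne_zero h0
    have h1 : (f ^ i) v ≠ 0 := Nat.find_min hex (by omega)
    have h2 : (f ^ (i + 1)) v = 0 := by have := Nat.find_spec hex; rwa [hi] at this
    have h3 : {f' ∈ J | f' v = 0} ≤ {f' ∈ J | f' ((f ^ i) v) = 0} := by
      rintro f' ⟨hf', e⟩
      refine ⟨hf', ?_⟩
      have := KR_comm hf'.1 ((KR V N).pow_mem hf i)
      change (f' * f ^ i) v = 0
      rw [this]
      change (f ^ i) (f' v) = 0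
      rw [e, map_zero]
    exact (hmax h1 h3 ⟨⟨hf, j, hj⟩, by rw [pow_succ'] at h2; exact h2⟩).2
  · exact hx0 ((h ▸ AddSubgroup.mem_top x0 : x0 ∈ U) κ ⟨hκ, k, hk⟩)

theorem exists_block [Finite G] [Finite V] (hI : Irr G V) {N : Subgroup G} [N.Normal]
    [IsMulCommutative N] {κ : AddMonoid.End V} (hκ : κ ∈ KR V N) (h0 : κ ≠ 0)
    (hinj : ¬ Function.Injective κ) :
    ∃ (H : Subgroup G) (e : V →+ V), IsCoatom H ∧ e ≠ 0 ∧ (∀ x, e (e x) = e x) ∧
      (∀ h ∈ H, ∀ x, e (h • x) = h • e x) ∧ ∀ g, g ∉ H → ∀ x, e (g • e x) = 0 := by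
  classical
  haveI : Finite (AddMonoid.End V) := DFunLike.finite _
  obtain ⟨k, hk, hid⟩ := exists_idem_pow κ
  let T : Set (AddMonoid.End V) := {f | f ∈ KR V N ∧ f * f = f ∧ f ≠ 0}
  have hT0 : κ ^ k ∈ T := ⟨(KR V N).pow_mem hκ k, hid, fun e => h0 (nil_zero hI hκ e)⟩
  obtain ⟨e1, ⟨he1, hi1, hn1⟩, hmin⟩ := (Set.toFinite T).exists_minimalFor
    (fun f : AddMonoid.End V => AddMonoidHom.range (f : V →+ V)) _ ⟨_, hT0⟩
  have hle : ∀ f ∈ KR V N, f * f = f → e1 * f ≠ 0 → f * e1 = e1 := by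
    intro f hf hff hne
    have h1 : e1 * f ∈ T := ⟨(KR V N).mul_mem he1 hf, by
      rw [mul_assoc, ← mul_assoc f, KR_comm hf he1, mul_assoc, hff, ← mul_assoc, hi1], hne⟩
    have h2 := hmin h1 (by rintro _ ⟨x, rfl⟩; exact ⟨f x, rfl⟩)
    ext x
    obtain ⟨y, hy⟩ := h2 ⟨x, rfl⟩
    change (e1 * f) y = e1 x at hy
    change f (e1 x) = e1 x
    rw [← hy]
    change (f * (e1 * f)) y = _
    rw [← mul_assoc, KR_comm hf he1, mul_assoc, hff]
  have horth1 : ∀ g : G, cj g e1 = e1 ∨ e1 * cj g e1 = 0 := by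
    intro g
    by_contra hcon
    push Not at hcon
    have h1 := hle _ (cj_mem g he1) (by rw [← map_mul, hi1]) hcon.2
    have h2 := hle _ (cj_mem g⁻¹ he1) (by rw [← map_mul, hi1]) (fun e => hcon.2 (by
      have := congrArg (cj g) e
      rwa [map_mul, cj_inv', map_zero, KR_comm (cj_mem g he1) he1] at this))
    have h3 := congrArg (cj g) h2
    rw [map_mul, cj_inv', KR_comm he1 (cj_mem g he1), h1] at h3
    exact hcon.1 h3.symm
  have horth : ∀ g h : G, cj g e1 = cj h e1 ∨ cj g e1 * cj h e1 = 0 := by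
    intro g h
    rcases horth1 (g⁻¹ * h) with e | e
    · left
      have := congrArg (cj g) e
      rw [← cj_mul, mul_inv_cancel_left] at this
      exact this.symm
    · right
      have := congrArg (cj g) e
      rwa [map_mul, ← cj_mul, mul_inv_cancel_left, map_zero] at this
  let H0 : Subgroup G :=
    { carrier := {g | cj g e1 = e1}
      mul_mem' := fun {a b} ha hb => by
        change cj (a * b) e1 = e1
        rw [cj_mul, hb, ha]
      one_mem' := cj_one e1
      inv_mem' := fun {a} ha => by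
        change cj a⁻¹ e1 = e1
        conv_lhs => rw [← ha]
        exact cj_inv a e1 }
  have hH0 : H0 ≠ ⊤ := by
    intro h
    have h1 : Inv G (AddMonoidHom.range (e1 : V →+ V)) := by
      rintro g _ ⟨x, rfl⟩
      refine ⟨g • x, ?_⟩
      have : cj g e1 = e1 := (h ▸ mem_top g : g ∈ H0)
      change e1 (g • x) = g • e1 x
      conv_lhs => rw [← this]
      rw [cj_apply, inv_smul_smul]
    rcases hI _ h1 with h2 | h2
    · apply hn1
      ext x
      exact AddSubgroup.mem_bot.1 (h2 ▸ ⟨x, rfl⟩)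
    · have h3 : AddMonoidHom.range (e1 : V →+ V) ≤ AddMonoidHom.range (κ ^ k : V →+ V) :=
        hmin hT0 (le_of_le_of_eq le_top h2.symm)
      have h4 : Function.Injective (κ ^ k : AddMonoid.End V) :=
        Finite.injective_iff_surjective.2 fun y => h3 (h2 ▸ AddSubgroup.mem_top y)
      obtain ⟨j, rfl⟩ := Nat.exists_eq_succ_of_ne_zero hk.ne'
      rw [pow_succ] at h4
      exact hinj (Function.Injective.of_comp (f := (κ ^ j : AddMonoid.End V)) h4)
  obtain ⟨H, hH, hle0⟩ := SolvStr.exists_isCoatom_ge hH0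
  haveI : Fintype H := Fintype.ofFinite _
  let S : Finset (AddMonoid.End V) := Finset.univ.image fun h : H => cj (h : G) e1
  have memS : ∀ f, f ∈ S ↔ ∃ h ∈ H, cj h e1 = f := fun f => by simp [S]
  let e : AddMonoid.End V := ∑ f ∈ S, f
  have hfe : ∀ f ∈ S, f * e = f := by
    intro f hf
    rw [Finset.mul_sum, Finset.sum_eq_single f]
    · obtain ⟨h, -, rfl⟩ := (memS f).1 hf
      rw [← map_mul, hi1]
    · intro f' hf' hne
      obtain ⟨h, -, rfl⟩ := (memS f).1 hf
      obtain ⟨h', -, rfl⟩ := (memS f').1 hf'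
      exact (horth h h').resolve_left hne.symm
    · exact fun h => absurd hf h
  have hee : e * e = e := by
    conv_lhs => arg 1; simp only [e]
    rw [Finset.sum_mul]
    exact Finset.sum_congr rfl hfe
  have hce : ∀ h ∈ H, cj h e = e := by
    intro h hh
    simp only [e]
    rw [map_sum]
    refine Finset.sum_nbij (cj h) ?_ (fun a _ b _ e => cj_inj h e) ?_ fun _ _ => rfl
    · intro f hf
      obtain ⟨h', hh', rfl⟩ := (memS f).1 hf
      exact (memS _).2 ⟨h * h', H.mul_mem hh hh', cj_mul _ _ _⟩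
    · intro f hf
      obtain ⟨h', hh', rfl⟩ := (memS f).1 hf
      exact ⟨cj (h⁻¹ * h') e1, (memS _).2 ⟨_, H.mul_mem (H.inv_mem hh) hh', rfl⟩,
        by rw [← cj_mul, mul_inv_cancel_left]⟩
  refine ⟨H, e, hH, fun h => hn1 ?_, fun x => ?_, fun h hh x => ?_, fun g hg x => ?_⟩
  · have := hfe e1 ((memS _).2 ⟨1, H.one_mem, cj_one _⟩)
    have h' : e = 0 := h
    rw [← this, h', mul_zero]
  · exact congrArg (fun f : AddMonoid.End V => f x) hee
  · change e (h • x) = h • e x
    conv_lhs => rw [← hce h hh]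
    rw [cj_apply, inv_smul_smul]
  · have : e * cj g e = 0 := by
      simp only [e]
      rw [map_sum, Finset.sum_mul_sum]
      refine Finset.sum_eq_zero fun f hf => Finset.sum_eq_zero fun f' hf' => ?_
      obtain ⟨h, hh, rfl⟩ := (memS f).1 hf
      obtain ⟨h', hh', rfl⟩ := (memS f').1 hf'
      rw [← cj_mul]
      refine (horth _ _).resolve_left fun e => hg ?_
      have h1 : h⁻¹ * (g * h') ∈ H0 := by
        change cj _ e1 = e1
        rw [cj_mul, ← e, cj_inv]
      have := H.mul_mem (H.mul_mem hh (hle0 h1)) (H.inv_mem hh')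
      simpa using this
    have h2 := congrArg (fun f : AddMonoid.End V => f (g • x)) this
    change e (cj g e (g • x)) = 0 at h2
    rwa [cj_apply, inv_smul_smul] at h2

end Ring

end Cfsg.Agent.CH.Reg
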