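import Cfsg.Agent.CH.Reg3
import Mathlib.RingTheory.IntegralDomain
import Mathlib.FieldTheory.Finiteness
import Mathlib.LinearAlgebra.FreeModule.Finite.Matrix
import Mathlib.LinearAlgebra.Dual.Lemmas
import Mathlib.Tactic.Module
import Mathlib.Tactic.LinearCombination

/-! Regular orbits of odd-order groups on pairs of vectors: fixed point estimates. -/

set_option autoImplicit false

namespace Cfsg.Agent.CH.Reg

open Subgroup
open scoped commutatorElement

universe u

theorem exists_field {G : Type*} {V : Type u} [Group G] [AddCommGroup V] [DistribMulAction G V]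
    [Finite V] [Nontrivial V] {N : Subgroup G} [IsMulCommutative N]
    (h : ∀ κ ∈ KR V N, κ ≠ 0 → Function.Injective κ) :
    ∃ (K : Type u) (_ : Field K) (_ : Finite K) (_ : Module K V) (ι : N →* Kˣ),
      (∀ (z : N) (v : V), (z : G) • v = (ι z : K) • v) ∧
      ∀ g ∈ centralizer (N : Set G), ∀ (κ : K) (v : V), g • κ • v = κ • g • v := by
  haveI : Finite (AddMonoid.End V) := DFunLike.finite _
  letI : CommRing (KR V N) :=
    { (inferInstance : Ring (KR V N)) with mul_comm := fun a b => Subtype.ext (KR_comm a.2 b.2) }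
  haveI : Nontrivial (KR V N) := by
    obtain ⟨v, hv⟩ := exists_ne (0 : V)
    exact ⟨1, 0, fun e => hv (congrArg (fun f : KR V N => (f : AddMonoid.End V) v) e)⟩
  haveI : NoZeroDivisors (KR V N) := ⟨fun {a b} e => by
    by_cases ha : a = 0
    · exact Or.inl ha
    · right
      apply Subtype.ext
      ext v
      apply h a a.2 (fun e => ha (Subtype.ext e))
      rw [show ((0 : KR V N) : AddMonoid.End V) v = 0 from rfl, map_zero]
      exact congrArg (fun f : KR V N => (f : AddMonoid.End V) v) e⟩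
  haveI : IsDomain (KR V N) := NoZeroDivisors.to_isDomain _
  letI : Field (KR V N) := (Finite.isField_of_domain (KR V N)).toField
  let ι0 : N →* KR V N :=
    { toFun := fun z => ⟨ρ V (z : G), ρ_mem z.2⟩
      map_one' := Subtype.ext (map_one _)
      map_mul' := fun a b => Subtype.ext (map_mul (ρ V) (a : G) b) }
  refine ⟨KR V N, inferInstance, inferInstance, inferInstanceAs (Module (KR V N) V),
    ι0.toHomUnits, fun z v => rfl, fun g hg κ v => ?_⟩
  have := comm_of_cent (f := ρ V g) (fun x hx => by rw [← map_mul, ← map_mul, hg x hx]) κ.2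
  exact (congrArg (fun f : AddMonoid.End V => f v) this).symm

section Fix

variable {G : Type*} (V : Type*) [Group G] [AddCommGroup V] [DistribMulAction G V]

/-- Fixed vectors. -/
def Fix (g : G) : AddSubgroup V where
  carrier := {v | g • v = v}
  add_mem' := fun {a b} ha hb => by
    change g • (a + b) = a + b
    rw [smul_add, ha, hb]
  zero_mem' := smul_zero g
  neg_mem' := fun {a} ha => by
    change g • (-a) = -a
    rw [smul_neg, ha]

variable {V}

theorem mem_Fix {g : G} {v : V} : v ∈ Fix V g ↔ g • v = v := Iff.rfl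

theorem card_Fix_conj (x y : G) : Nat.card (Fix V (y * x * y⁻¹)) = Nat.card (Fix V x) := by
  refine Nat.card_congr
    { toFun := fun v => ⟨y⁻¹ • (v : V), ?_⟩
      invFun := fun v => ⟨y • (v : V), ?_⟩
      left_inv := fun v => Subtype.ext (smul_inv_smul y (v : V))
      right_inv := fun v => Subtype.ext (inv_smul_smul y (v : V)) }
  · have := v.2
    rw [mem_Fix] at this ⊢
    conv_rhs => rw [← this]
    simp only [← mul_smul, mul_assoc, inv_mul_cancel_left]
  · have := v.2
    rw [mem_Fix] at this ⊢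
    rw [← mul_smul, inv_mul_cancel_right, mul_smul, this]

theorem card_mul_card_le [Finite V] (A B : AddSubgroup V) :
    Nat.card A * Nat.card B ≤ Nat.card V * Nat.card (A ⊓ B : AddSubgroup V) := by
  have h1 := AddSubgroup.card_mul_index A
  have h2 := AddSubgroup.card_mul_index B
  have h3 := AddSubgroup.card_mul_index (A ⊓ B)
  have h4 := AddSubgroup.index_inf_le (H := A) (K := B)
  have h5 : 0 < (A ⊓ B).index := Nat.pos_of_ne_zero AddSubgroup.index_ne_zero_of_finite
  refine Nat.le_of_mul_le_mul_right ?_ h5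
  calc Nat.card A * Nat.card B * (A ⊓ B).index ≤ Nat.card A * Nat.card B * (A.index * B.index) :=
        Nat.mul_le_mul_left _ h4
    _ = (Nat.card A * A.index) * (Nat.card B * B.index) := by ring
    _ = _ := by rw [h1, h2, mul_assoc, h3]

theorem card_Fix_sq [Finite V] (x y : G) :
    Nat.card (Fix V x) ^ 2 ≤ Nat.card V * Nat.card (Fix V ⁅y, x⁆) := by
  have h1 := card_mul_card_le (Fix V x) (Fix V (y * x * y⁻¹))
  rw [card_Fix_conj, ← pow_two] at h1
  refine h1.trans (Nat.mul_le_mul_left _ (AddSubgroup.card_le_of_le ?_))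
  rintro v ⟨h2, h3⟩
  change x • v = v at h2
  change (y * x * y⁻¹) • v = v at h3
  rw [mem_Fix, commutatorElement_def, mul_smul, inv_smul_eq_iff.2 h2.symm, h3]

theorem exists_regular [Finite G] [Finite V]
    (h : ∀ x : G, x ≠ 1 → Nat.card G * Nat.card (Fix V x) ^ 2 ≤ Nat.card V ^ 2) :
    ∃ v w : V, ∀ a : G, a • v = v → a • w = w → a = 1 := by
  classical
  haveI := Fintype.ofFinite G
  haveI := Fintype.ofFinite V
  by_contra hcon
  push Not at hcon
  let B : G → Finset (V × V) := fun x => Finset.univ.filter fun p => x • p.1 = p.1 ∧ x • p.2 = p.2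
  have hB : ∀ x, (B x).card = Nat.card (Fix V x) ^ 2 := by
    intro x
    rw [pow_two, ← Nat.card_prod, ← Nat.card_eq_finsetCard]
    refine Nat.card_congr
      { toFun := fun p => (⟨p.1.1, (Finset.mem_filter.1 p.2).2.1⟩,
          ⟨p.1.2, (Finset.mem_filter.1 p.2).2.2⟩)
        invFun := fun p => ⟨(p.1, p.2), Finset.mem_filter.2 ⟨Finset.mem_univ _, p.1.2, p.2.2⟩⟩
        left_inv := fun p => rfl
        right_inv := fun p => rfl }
  have h1 : (Finset.univ : Finset (V × V)) ⊆ (Finset.univ.erase (1 : G)).biUnion B := by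
    intro p _
    obtain ⟨a, h1, h2, h3⟩ := hcon p.1 p.2
    exact Finset.mem_biUnion.2 ⟨a, by simp [h3], by simp [B, h1, h2]⟩
  have h2 := (Finset.card_le_card h1).trans Finset.card_biUnion_le
  rw [Finset.card_univ, Fintype.card_prod, ← Nat.card_eq_fintype_card, ← pow_two] at h2
  have h3 : Nat.card G * ∑ x ∈ Finset.univ.erase (1 : G), (B x).card ≤
      (Finset.univ.erase (1 : G)).card • Nat.card V ^ 2 := by
    rw [Finset.mul_sum]
    refine Finset.sum_le_card_nsmul _ _ _ fun x hx => ?_
    rw [hB]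
    exact h x (Finset.ne_of_mem_erase hx)
  rw [Finset.card_erase_of_mem (Finset.mem_univ _), Finset.card_univ, ← Nat.card_eq_fintype_card,
    smul_eq_mul] at h3
  have h4 := (Nat.mul_le_mul_left (Nat.card G) h2).trans h3
  have h5 : 0 < Nat.card V ^ 2 := pow_pos Nat.card_pos 2
  have h6 := Nat.le_of_mul_le_mul_right h4 h5
  have h7 : 0 < Nat.card G := Nat.card_pos
  omega

end Fix

section Field

variable {G V K : Type*} [Group G] [AddCommGroup V] [DistribMulAction G V] [FaithfulSMul G V]
  [Field K] [Module K V] {Z : Subgroup G} (ι : Z →* Kˣ)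
  (hι : ∀ (z : Z) (v : V), (z : G) • v = (ι z : K) • v)
  (hlin : ∀ g ∈ centralizer (Z : Set G), ∀ (κ : K) (v : V), g • κ • v = κ • g • v)

include hι in
theorem ι_inj : Function.Injective ι := by
  rw [injective_iff_map_eq_one]
  intro z hz
  apply Subtype.ext
  refine FaithfulSMul.eq_of_smul_eq_smul (α := V) fun v => ?_
  rw [hι, hz]
  simp

include hι in
theorem Fix_eq_bot {z : G} (hz : z ∈ Z) (h1 : z ≠ 1) : Fix V z = ⊥ := by
  rw [eq_bot_iff]
  intro v hv
  have h2 : (ι ⟨z, hz⟩ : K) • v = v := (hι ⟨z, hz⟩ v).symm.trans hv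
  have h3 : (ι ⟨z, hz⟩ : K) - 1 ≠ 0 := fun e => h1 (congrArg Subtype.val
    (ι_inj ι hι (a₁ := ⟨z, hz⟩) (a₂ := 1) (by rw [map_one]; exact Units.ext (sub_eq_zero.1 e))))
  have h4 : ((ι ⟨z, hz⟩ : K) - 1) • v = 0 := by rw [sub_smul, h2, one_smul, sub_self]
  exact (smul_eq_zero.1 h4).resolve_left h3

include hι hlin in
theorem card_Fix_cube [Finite V] {x y : G} (hx : x ∈ centralizer (Z : Set G))
    (hy : y ∈ centralizer (Z : Set G)) (hz : ⁅y, x⁆ ∈ Z) (h2 : ⁅y, x⁆ ^ 2 ≠ 1) :
    Nat.card (Fix V x) ^ 3 ≤ Nat.card V := by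
  set z := ⁅y, x⁆ with hzdef
  have e1 : y * x * y⁻¹ = z * x := by rw [hzdef, commutatorElement_def]; group
  have e2 : y * (z * x) * y⁻¹ = z * (z * x) := by
    rw [← mul_assoc, ← hy z hz, ← e1]; group
  have c1 : Nat.card (Fix V (z * x)) = Nat.card (Fix V x) := by rw [← e1, card_Fix_conj]
  have c2 : Nat.card (Fix V (z * (z * x))) = Nat.card (Fix V x) := by
    rw [← e2, card_Fix_conj, c1]
  obtain ⟨η, hη⟩ : ∃ η : K, η = ((ι ⟨z, hz⟩)⁻¹ : Kˣ) := ⟨_, rfl⟩
  have hzi : ∀ v : V, z⁻¹ • v = η • v := fun v => by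
    rw [hη, ← map_inv]; exact hι (⟨z, hz⟩⁻¹) v
  have hη0 : η ≠ 0 := hη ▸ Units.ne_zero _
  have hη2 : 1 - η ^ 2 ≠ 0 := by
    intro e
    apply h2
    refine FaithfulSMul.eq_of_smul_eq_smul (α := V) fun v => ?_
    have : z⁻¹ • z⁻¹ • v = v := by rw [hzi, hzi, ← mul_smul, ← pow_two, ← sub_eq_zero.1 e, one_smul]
    rw [one_smul, pow_two, mul_smul]
    conv_lhs => rw [← this]
    rw [smul_inv_smul, smul_inv_smul]
  have hη1 : 1 - η ≠ 0 := fun e => hη2 (by rw [← sub_eq_zero.1 e]; ring)
  let f : Fix V x × Fix V (z * x) × Fix V (z * (z * x)) →+ V :=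
    { toFun := fun p => p.1 + p.2.1 + p.2.2
      map_zero' := by simp
      map_add' := fun a b => by simp only [Prod.fst_add, Prod.snd_add, AddSubgroup.coe_add]; abel }
  have hf : Function.Injective f := by
    rw [injective_iff_map_eq_zero]
    rintro ⟨⟨v0, h0⟩, ⟨v1, h1⟩, ⟨v2, h2⟩⟩ s0
    change v0 + v1 + v2 = 0 at s0
    rw [mem_Fix] at h0 h1 h2
    have a1 : x • v1 = η • v1 := by
      rw [← hzi]; conv_rhs => rw [← h1]
      rw [mul_smul, inv_smul_smul]
    have a2 : x • v2 = η ^ 2 • v2 := by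
      rw [pow_two, mul_smul, ← hzi, ← hzi]; conv_rhs => rw [← h2]
      rw [mul_smul, mul_smul, inv_smul_smul, inv_smul_smul]
    have s1 := congrArg (fun v => x • v) s0
    simp only [smul_add, smul_zero, h0, a1, a2] at s1
    have s2 := congrArg (fun v => x • v) s1
    simp only [smul_add, smul_zero, h0, hlin x hx, a1, a2] at s2
    have t0 : ((1 - η) * (1 - η ^ 2)) • v0 = 0 := by
      linear_combination (norm := module) (η ^ 3) • s0 - (η + η ^ 2) • s1 + s2
    have u0 : v0 = 0 := (smul_eq_zero.1 t0).resolve_left (mul_ne_zero hη1 hη2)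
    have t1 : (η * (1 - η)) • v1 = 0 := by
      linear_combination (norm := module) s1 - (η ^ 2) • s0 - (1 - η ^ 2) • u0
    have u1 : v1 = 0 := (smul_eq_zero.1 t1).resolve_left (mul_ne_zero hη0 hη1)
    have u2 : v2 = 0 := by rw [u0, u1, zero_add, zero_add] at s0; exact s0
    subst u0 u1 u2
    rfl
  have := Nat.card_le_card_of_injective f hf
  rwa [Nat.card_prod, Nat.card_prod, c1, c2, ← pow_two, ← pow_succ'] at this

include hι hlin in
theorem relIndex_le_finrank_sq [Finite G] [Finite V] [Nontrivial V] {F : Subgroup G}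
    (hF : F ≤ centralizer (Z : Set G)) (hc : ∀ x ∈ F, ∀ y ∈ F, ⁅x, y⁆ ∈ Z)
    (hZ : ∀ x ∈ F, (∀ y ∈ F, y * x = x * y) → x ∈ Z) :
    Z.relIndex F ≤ Module.finrank K V ^ 2 := by
  classical
  haveI : Module.Finite K V := Module.Finite.of_finite
  haveI : Fintype (F ⧸ Z.subgroupOf F) := Fintype.ofFinite _
  let lin : F → (V →ₗ[K] V) := fun x =>
    { toFun := fun v => (x : G) • v
      map_add' := smul_add _
      map_smul' := fun κ v => hlin x (hF x.2) κ v }
  let χ : F → (F →* K) := fun x =>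
    { toFun := fun y => ι ⟨⁅(y : G), (x : G)⁆, hc _ y.2 _ x.2⟩
      map_one' := by
        simp only [OneMemClass.coe_one, commutatorElement_one_left]
        exact congrArg Units.val (map_one ι)
      map_mul' := fun a b => by
        rw [mul_comm, ← Units.val_mul, ← map_mul]
        congr 2
        apply Subtype.ext
        change ⁅(a : G) * b, (x : G)⁆ = ⁅(b : G), (x : G)⁆ * ⁅(a : G), (x : G)⁆
        have h1 := hF a.2 _ (hc _ b.2 _ x.2)
        calc ⁅(a : G) * b, (x : G)⁆ = a * ⁅(b : G), (x : G)⁆ * (a : G)⁻¹ * ⁅(a : G), (x : G)⁆ := by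
              simp only [commutatorElement_def]; group
          _ = _ := by rw [← h1]; group }
  have hχ : Function.Injective fun ω : F ⧸ Z.subgroupOf F => χ ω.out := by
    intro a b e
    rw [← QuotientGroup.out_eq' a, ← QuotientGroup.out_eq' b, QuotientGroup.eq, mem_subgroupOf]
    refine hZ _ (a.out⁻¹ * b.out).2 fun y hy => ?_
    have h1 := DFunLike.congr_fun e ⟨y⁻¹, F.inv_mem hy⟩
    have h2 : ⁅y⁻¹, (a.out : G)⁆ = ⁅y⁻¹, (b.out : G)⁆ :=
      congrArg Subtype.val (ι_inj ι hι (Units.ext h1))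
    simp only [commutatorElement_def, inv_inv, mul_assoc, mul_right_inj] at h2
    rw [coe_mul, coe_inv]
    calc y * ((a.out : G)⁻¹ * b.out) = (a.out : G)⁻¹ * (a.out * (y * (a.out : G)⁻¹)) * b.out := by
          group
      _ = _ := by rw [h2]; group
  have hD := (linearIndependent_monoidHom F K).comp _ hχ
  have hL : LinearIndependent K fun ω : F ⧸ Z.subgroupOf F => lin ω.out := by
    rw [Fintype.linearIndependent_iff] at hD ⊢
    intro c hc0 ω
    obtain ⟨v, hv⟩ := exists_ne (0 : V)
    have hv' : (ω.out : G) • v ≠ 0 := by rwa [Ne, smul_eq_zero_iff_eq]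
    obtain ⟨φ, hφ⟩ : ∃ φ : Module.Dual K V, φ ((ω.out : G) • v) ≠ 0 := by
      by_contra h
      push Not at h
      exact hv' ((Module.forall_dual_apply_eq_zero_iff K _).1 h)
    have := hD (fun ω => c ω * φ ((ω.out : G) • v)) (by
      ext y
      have h1 := congrArg (fun f : V →ₗ[K] V => φ ((y : G) • f ((y : G)⁻¹ • v))) hc0
      simp only [LinearMap.sum_apply, LinearMap.smul_apply, LinearMap.zero_apply, smul_zero,
        map_zero, Finset.smul_sum, map_sum] at h1
      simp only [Finset.sum_apply, Pi.smul_apply, Function.comp_apply, Pi.zero_apply]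
      rw [← h1]
      refine Finset.sum_congr rfl fun ω _ => ?_
      rw [hlin _ (hF y.2), map_smul φ (c ω), smul_eq_mul, smul_eq_mul, mul_assoc]
      congr 1
      have h2 : (y : G) • lin ω.out ((y : G)⁻¹ • v) = χ ω.out y • (ω.out : G) • v := by
        change (y : G) • (ω.out : G) • (y : G)⁻¹ • v = _
        refine Eq.trans ?_ (hι ⟨⁅(y : G), (ω.out : G)⁆, hc _ y.2 _ ω.out.2⟩ _)
        simp only [← mul_smul, commutatorElement_def]
        congr 1
        group
      rw [h2, map_smul φ (χ ω.out y), smul_eq_mul, mul_comm]) ω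
    exact (mul_eq_zero.1 this).resolve_right hφ
  have := hL.fintype_card_le_finrank
  rwa [Module.finrank_linearMap, ← pow_two, ← Nat.card_eq_fintype_card] at this

end Field

end Cfsg.Agent.CH.Reg
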