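import Cfsg.Agent.CH.Reg2
import Cfsg.Agent.PGrp.Sympl
import Cfsg.Agent.S0095
import Cfsg.Agent.S4208
import Cfsg.Agent.Transfer.Abelian

/-! Odd-order groups whose abelian normal subgroups are cyclic. -/

set_option autoImplicit false

namespace Cfsg.Agent.CH.Reg

open Subgroup
open scoped commutatorElement

universe u

theorem hall_odd {Q : Type*} [Group Q] [Finite Q] {r : ℕ} [hr : Fact r.Prime] (hQ : IsPGroup r Q)
    (hodd : Odd (Nat.card Q))
    (h : ∀ A : Subgroup Q, A.Characteristic → IsMulCommutative A → IsCyclic A) :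
    (∀ x y : Q, ⁅x, y⁆ ∈ center Q) ∧ ∃ k, (center Q).index = r ^ (2 * k) := by
  obtain ⟨E, R, hRE, hsup, hE, hR⟩ := PGrp.hall_symplectic hQ h
  have hR' : IsCyclic R := by
    refine hR.resolve_right ?_
    rintro ⟨rfl, h16, -⟩
    obtain ⟨k, hk⟩ := IsPGroup.iff_card.1 (hQ.to_subgroup R)
    have h1 := odd_of_dvd (card_subgroup_dvd_card R) hodd
    rw [hk] at h1 h16
    rcases k with _ | k
    · simp at h16
    · exact absurd h1 (by simp [pow_succ])
  haveI : IsMulCommutative R := IsCyclic.isMulCommutative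
  have hRZ : R ≤ center Q := by
    intro x hx
    have : (⊤ : Subgroup Q) ≤ centralizer {x} := by
      rw [← hsup]
      refine sup_le (fun y hy => ?_) fun y hy => ?_ <;> rw [mem_centralizer_singleton_iff]
      · exact hRE hx y hy
      · exact congrArg Subtype.val (mul_comm' (⟨y, hy⟩ : R) ⟨x, hx⟩)
    rw [mem_center_iff]
    intro y
    exact mem_centralizer_singleton_iff.1 (this (mem_top y))
  have hsup' : E ⊔ center Q = ⊤ := top_le_iff.1 (hsup ▸ sup_le_sup_left hRZ E)
  have hsub : (center Q).subgroupOf E = center E := by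
    ext x
    rw [mem_subgroupOf, mem_center_iff, mem_center_iff]
    refine ⟨fun h y => Subtype.ext (h y), fun h y => ?_⟩
    obtain ⟨e, he, z, hz, rfl⟩ := mem_sup_of_normal_right.1 (hsup' ▸ mem_top y)
    have h1 : e * x = x * e := congrArg Subtype.val (h ⟨e, he⟩)
    rw [mul_assoc, ← mem_center_iff.1 hz, ← mul_assoc, h1, mul_assoc]
  have hidx : (center Q).index = (center E).index := by
    rw [← relIndex_top_right, ← hsup', relIndex_sup_right, relIndex, hsub]
  have hcomm : (∀ x y : E, ⁅x, y⁆ ∈ center E) → ∀ x y : Q, ⁅x, y⁆ ∈ center Q := by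
    intro h x y
    obtain ⟨e, he, z, hz, rfl⟩ := mem_sup_of_normal_right.1 (hsup' ▸ mem_top x)
    obtain ⟨e', he', z', hz', rfl⟩ := mem_sup_of_normal_right.1 (hsup' ▸ mem_top y)
    have h1 := h ⟨e, he⟩ ⟨e', he'⟩
    rw [← hsub, mem_subgroupOf] at h1
    have h2 : ⁅e * z, e' * z'⁆ = ⁅e, e'⁆ := by
      have a1 := mem_center_iff.1 hz
      have a2 := mem_center_iff.1 hz'
      simp only [commutatorElement_def]
      calc e * z * (e' * z') * (e * z)⁻¹ * (e' * z')⁻¹
          = e * (z * (e' * z') * z⁻¹) * (e⁻¹ * z'⁻¹) * e'⁻¹ := by group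
        _ = e * (e' * z') * (z'⁻¹ * e⁻¹) * e'⁻¹ := by
          rw [← a1, mul_inv_cancel_right, mem_center_iff.1 ((center Q).inv_mem hz')]
        _ = _ := by group
    rw [h2]
    exact h1
  rcases hE with rfl | hE
  · refine ⟨hcomm fun x y => by rw [Subsingleton.elim ⁅x, y⁆ 1]; exact one_mem _, 0, ?_⟩
    rw [hidx, mul_zero, pow_zero, index_eq_one]
    exact Subsingleton.elim _ _
  · refine ⟨hcomm fun x y => ?_, ?_⟩
    · rw [← hE.1.2.2]
      exact commutator_mem_commutator (mem_top x) (mem_top y)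
    · obtain ⟨k, -, hk⟩ := S0095.result hE
      refine ⟨k, ?_⟩
      have := (center E).card_mul_index
      rw [hE.2, hk, pow_succ'] at this
      rw [hidx]
      exact Nat.eq_of_mul_eq_mul_left hr.out.pos this

section Struct

variable {G : Type*} [Group G] [Finite G] (hG : Odd (Nat.card G))
  (hcyc : ∀ N : Subgroup G, N.Normal → IsMulCommutative N → IsCyclic N)

omit [Finite G] in
theorem cent_subgroupOf [Finite G] (r : ℕ) [Fact r.Prime] :
    (centralizer (fittingSubgroup G : Set G)).subgroupOf (pCore r G) = center (pCore r G) := by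
  ext x
  rw [mem_subgroupOf, mem_center_iff]
  refine ⟨fun h y => Subtype.ext (h y (Solv.pCore_le_fitting y.2)), fun h y hy => ?_⟩
  obtain ⟨a, ha, b, hb, rfl⟩ := mem_sup_of_normal_right.1 (Solv.fitting_le_sup (p := r) hy)
  have h1 : a * x = x * a := congrArg Subtype.val (h ⟨a, ha⟩)
  have h2 := Solv.pCore_le_centralizer_pPrimeCore x.2 b hb
  rw [mul_assoc, h2, ← mul_assoc, h1, mul_assoc]

include hG hcyc in
theorem hall_pCore (r : ℕ) [Fact r.Prime] :
    (∀ x y : pCore r G, ⁅x, y⁆ ∈ center (pCore r G)) ∧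
      ∃ k, (center (pCore r G)).index = r ^ (2 * k) := by
  refine hall_odd (Solv.isPGroup_pCore r G) (odd_of_dvd (card_subgroup_dvd_card _) hG)
    fun A hA hc => ?_
  haveI := hcyc (A.map (pCore r G).subtype) inferInstance inferInstance
  exact isCyclic_of_injective (A.equivMapOfInjective _ (pCore r G).subtype_injective).toMonoidHom
    (MulEquiv.injective _)

include hG hcyc in
theorem comm_mem {x y : G} (hx : x ∈ fittingSubgroup G) (hy : y ∈ fittingSubgroup G) :
    ⁅x, y⁆ ∈ centralizer (fittingSubgroup G : Set G) := by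
  set Z := centralizer (fittingSubgroup G : Set G)
  let π := QuotientGroup.mk' Z
  have key : fittingSubgroup G ≤ (centralizer {π y}).comap π := by
    refine Solv.fitting_eq_iSup_pCore.le.trans (iSup_le fun q x hx => ?_)
    haveI : Fact (q : ℕ).Prime := ⟨q.2⟩
    obtain ⟨a, ha, b, hb, rfl⟩ := mem_sup_of_normal_right.1 (Solv.fitting_le_sup (p := q) hy)
    have h1 := (hall_pCore hG hcyc q).1 ⟨x, hx⟩ ⟨a, ha⟩
    rw [← cent_subgroupOf, mem_subgroupOf] at h1
    have h2 : π x * π a = π a * π x := by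
      rw [← commutatorElement_eq_one_iff_mul_comm, ← map_commutatorElement]
      exact (QuotientGroup.eq_one_iff _).2 h1
    have h3 := Solv.pCore_le_centralizer_pPrimeCore hx b hb
    rw [mem_comap, mem_centralizer_singleton_iff, map_mul, ← mul_assoc, h2, mul_assoc, ← map_mul,
      ← h3, map_mul, mul_assoc]
  have := mem_centralizer_singleton_iff.1 (key hx)
  rw [← commutatorElement_eq_one_iff_mul_comm, ← map_commutatorElement] at this
  exact (QuotientGroup.eq_one_iff _).1 this

include hG hcyc in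
theorem relIndex_part (r : ℕ) [hr : Fact r.Prime] : ∃ k c, ¬ r ∣ c ∧
    (centralizer (fittingSubgroup G : Set G)).relIndex (fittingSubgroup G) = r ^ (2 * k) * c ∧
    (k ≠ 0 → r ∣ Nat.card (centralizer (fittingSubgroup G : Set G))) := by
  haveI : Group.IsSolvable G := S0205.result hG
  set F := fittingSubgroup G with hF
  set Z := centralizer (F : Set G) with hZ
  obtain ⟨k, hk⟩ := (hall_pCore hG hcyc r).2
  have hZF : Z ≤ F := Solv.centralizer_fitting_le
  have hle : Z ⊔ pCore r G ≤ F := sup_le hZF Solv.pCore_le_fitting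
  refine ⟨k, (Z ⊔ pCore r G).relIndex F, fun hd => ?_, ?_, fun h0 => ?_⟩
  · obtain ⟨S⟩ : Nonempty (Sylow r F) := inferInstance
    have h1 : (S : Subgroup F).map F.subtype ≤ pCore r G :=
      Solv.le_pCore_of_le_fitting (S.isPGroup'.map _) (map_subtype_le _)
    have h2 : (S : Subgroup F) ≤ (Z ⊔ pCore r G).subgroupOf F := fun x hx =>
      mem_sup_right (h1 ⟨x, hx, rfl⟩)
    exact S.not_dvd_index (hd.trans (index_dvd_of_le h2))
  · rw [← relIndex_mul_relIndex Z (Z ⊔ pCore r G) F le_sup_left hle, relIndex_sup_left, relIndex,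
      cent_subgroupOf, hk]
  · have h1 : Nontrivial (pCore r G) := by
      by_contra h
      rw [not_nontrivial_iff_subsingleton] at h
      have : (center (pCore r G)).index = 1 := index_eq_one.2 (Subsingleton.elim _ _)
      rw [hk] at this
      have := (Nat.pow_eq_one.1 this).resolve_left hr.out.ne_one
      omega
    have h2 := (Solv.isPGroup_pCore r G).center_nontrivial
    obtain ⟨j, hj, e⟩ := (((Solv.isPGroup_pCore r G).to_subgroup (center _)).nontrivial_iff_card).1 h2
    have h3 : Nat.card (center (pCore r G)) ∣ Nat.card Z := by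
      rw [← cent_subgroupOf]
      exact card_comap_dvd_of_injective _ _ (subtype_injective _)
    exact (e ▸ dvd_pow_self r hj.ne').trans h3

include hG hcyc in
theorem relIndex_sq : ∃ e,
    (centralizer (fittingSubgroup G : Set G)).relIndex (fittingSubgroup G) = e ^ 2 ∧
    ∀ r : ℕ, r.Prime → r ∣ e → r ∣ Nat.card (centralizer (fittingSubgroup G : Set G)) := by
  set ε := (centralizer (fittingSubgroup G : Set G)).relIndex (fittingSubgroup G) with hε
  have h0 : ε ≠ 0 := index_ne_zero_of_finite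
  obtain ⟨a, b, hab, ha⟩ := Nat.sq_mul_squarefree ε
  have ha1 : a = 1 := by
    by_contra h1
    obtain ⟨r, hr, hra⟩ := Nat.exists_prime_and_dvd h1
    haveI := Fact.mk hr
    obtain ⟨k, c, hc, e, -⟩ := relIndex_part hG hcyc r
    rw [← hε, ← hab] at e
    have hb0 : b ≠ 0 := by rintro rfl; simp at hab; exact h0 hab.symm
    have hc0 : c ≠ 0 := by rintro rfl; simp at hc
    have h2 := congrArg (fun n => n.factorization r) e
    simp only [Nat.factorization_mul (pow_ne_zero 2 hb0) ha.ne_zero,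
      Nat.factorization_mul (pow_ne_zero _ hr.ne_zero) hc0, Nat.factorization_pow,
      Finsupp.add_apply, Finsupp.smul_apply, smul_eq_mul, hr.factorization_self,
      Nat.factorization_eq_zero_of_not_dvd hc] at h2
    have h3 := ha.natFactorization_le_one r
    have h4 := hr.factorization_pos_of_dvd ha.ne_zero hra
    omega
  refine ⟨b, by rw [← hab, ha1, mul_one], fun r hr hd => ?_⟩
  haveI := Fact.mk hr
  obtain ⟨k, c, hc, e, h⟩ := relIndex_part hG hcyc r
  refine h fun hk => hc ?_
  rw [← hε, ← hab, hk, mul_zero, pow_zero, one_mul] at e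
  rw [← e]
  exact (dvd_pow hd two_ne_zero).mul_right a

end Struct

theorem index_cent_dvd {G : Type*} [Group G] [Finite G] (P : Subgroup G) [P.Normal] :
    (centralizer (P : Set G)).index ∣ Nat.card (MulAut P) := by
  have key := card_dvd_of_injective _ (QuotientGroup.kerLift_injective P.normalizerMonoidHom)
  rwa [normalizerMonoidHom_ker, ← index, ← relIndex, normalizer_eq_top, relIndex_top_right] at key

theorem card_aut_dvd {N : Type*} [Group N] [Finite N] {r k m : ℕ} [hr : Fact r.Prime]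
    (hN : Nat.card N = r ^ k)
    (h : ∀ j ≤ k, r ^ (j * (k - j)) * ∏ i ∈ Finset.range j, (r ^ j - r ^ i) ∣ m) :
    Nat.card (MulAut N) ∣ m := by
  obtain ⟨j, hj, e⟩ := (Nat.dvd_prime_pow hr.out).1 (hN ▸ (frattini N).index_dvd_card)
  exact (S4208.result hN e).trans (h j hj)

theorem dvd_of_sylow {B : Type*} [Group B] [Finite B] {r c : ℕ} [hr : Fact r.Prime]
    (hB : pCore r B = ⊥) (hd : Nat.card B ∣ r * c) (hc : ∀ d, d ∣ c → d ≡ 1 [MOD r] → d = 1) :
    Nat.card B ∣ c := by
  obtain ⟨P⟩ : Nonempty (Sylow r B) := inferInstance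
  have h1 : (P : Subgroup B).index ∣ c :=
    ((Nat.Prime.coprime_iff_not_dvd hr.out).2 P.not_dvd_index).symm.dvd_of_dvd_mul_left
      ((P : Subgroup B).index_dvd_card.trans hd)
  have h2 := hc _ (P.card_dvd_index.trans h1) (card_sylow_modEq_one r B)
  haveI : Subsingleton (Sylow r B) := (Nat.card_eq_one_iff_unique.1 h2).1
  haveI := P.normal_of_subsingleton
  have h3 := Solv.eq_bot_of_pCore_eq_bot hB P.isPGroup'
  rwa [h3, index_bot] at h1

theorem num53 (d : ℕ) (hd : d ∣ 3) (hm : d ≡ 1 [MOD 5]) : d = 1 := by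
  have := Nat.le_of_dvd (by norm_num) hd
  interval_cases d <;> simp_all [Nat.ModEq]

theorem num79 (d : ℕ) (hd : d ∣ 9) (hm : d ≡ 1 [MOD 7]) : d = 1 := by
  have := Nat.le_of_dvd (by norm_num) hd
  interval_cases d <;> simp_all [Nat.ModEq]

theorem small_index {H : Type*} [Group H] [Finite H] (hH : Odd (Nat.card H))
    [IsMulCommutative (fittingSubgroup H)] :
    (Nat.card (fittingSubgroup H) = 9 → (fittingSubgroup H).index = 1) ∧
    (Nat.card (fittingSubgroup H) = 25 → (fittingSubgroup H).index ≤ 3) ∧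
    (Nat.card (fittingSubgroup H) = 49 → (fittingSubgroup H).index ≤ 9) ∧
    (Nat.card (fittingSubgroup H) = 81 → ¬ 13 ∣ Nat.card H → (fittingSubgroup H).index ≤ 5) := by
  haveI : Group.IsSolvable H := S0205.result hH
  have hC : centralizer (fittingSubgroup H : Set H) = fittingSubgroup H :=
    le_antisymm Solv.centralizer_fitting_le (le_centralizer _)
  have h1 := index_cent_dvd (fittingSubgroup H)
  rw [hC] at h1
  have hodd : Odd (fittingSubgroup H).index := odd_of_dvd (index_dvd_card _) hH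
  have hcop : ∀ i, ((fittingSubgroup H).index).Coprime (2 ^ i) := fun i =>
    (Nat.coprime_two_right.2 hodd).pow_right i
  have hcore : ∀ (r k : ℕ) [Fact r.Prime], Nat.card (fittingSubgroup H) = r ^ k →
      fittingSubgroup H = pCore r H := fun r k _ h =>
    le_antisymm (Solv.le_pCore (IsPGroup.of_card h)) Solv.pCore_le_fitting
  have hsyl : ∀ (r k c : ℕ) [Fact r.Prime], Nat.card (fittingSubgroup H) = r ^ k →
      (fittingSubgroup H).index ∣ r * c → (∀ d, d ∣ c → d ≡ 1 [MOD r] → d = 1) →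
      (fittingSubgroup H).index ∣ c := by
    intro r k c _ h hd hc
    rw [hcore r k h] at hd ⊢
    exact dvd_of_sylow (Solv.pCore_quotient_pCore r H) hd hc
  refine ⟨fun h => ?_, fun h => ?_, fun h => ?_, fun h h13 => ?_⟩
  · haveI : Fact (Nat.Prime 3) := ⟨by norm_num⟩
    have h2 := h1.trans (card_aut_dvd (r := 3) (k := 2) (m := 2 ^ 4 * (3 * 1)) h (by decide))
    exact Nat.dvd_one.1 (hsyl 3 2 1 h ((hcop 4).dvd_of_dvd_mul_left h2)
      fun d hd _ => Nat.dvd_one.1 hd)
  · haveI : Fact (Nat.Prime 5) := ⟨by norm_num⟩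
    have h2 := h1.trans (card_aut_dvd (r := 5) (k := 2) (m := 2 ^ 5 * (5 * 3)) h (by decide))
    exact Nat.le_of_dvd (by norm_num) (hsyl 5 2 3 h ((hcop 5).dvd_of_dvd_mul_left h2) num53)
  · haveI : Fact (Nat.Prime 7) := ⟨by norm_num⟩
    have h2 := h1.trans (card_aut_dvd (r := 7) (k := 2) (m := 2 ^ 5 * (7 * 9)) h (by decide))
    exact Nat.le_of_dvd (by norm_num) (hsyl 7 2 9 h ((hcop 5).dvd_of_dvd_mul_left h2) num79)
  · haveI : Fact (Nat.Prime 3) := ⟨by norm_num⟩
    have h2 := h1.trans (card_aut_dvd (r := 3) (k := 4) (m := 2 ^ 9 * (13 * (3 ^ 6 * 5))) h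
      (by decide))
    have h3 : (fittingSubgroup H).index ∣ 3 ^ 6 * 5 :=
      ((Nat.Prime.coprime_iff_not_dvd (by norm_num)).2
        fun hd => h13 (hd.trans (index_dvd_card _))).symm.dvd_of_dvd_mul_left
        ((hcop 9).dvd_of_dvd_mul_left h2)
    rw [hcore 3 4 h] at h3 hodd ⊢
    set B := H ⧸ pCore 3 H
    change Nat.card B ∣ _ at h3
    change Odd (Nat.card B) at hodd
    change Nat.card B ≤ 5
    have hB : pCore 3 B = ⊥ := Solv.pCore_quotient_pCore 3 H
    have h4 : ¬ 3 ∣ Nat.card (fittingSubgroup B) := by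
      intro hd
      obtain ⟨S⟩ : Nonempty (Sylow 3 (fittingSubgroup B)) := inferInstance
      have h5 := Solv.le_pCore_of_le_fitting (S.isPGroup'.map (fittingSubgroup B).subtype)
        (map_subtype_le _)
      rw [hB, le_bot_iff, map_eq_bot_iff_of_injective _ (subtype_injective _)] at h5
      exact S.ne_bot_of_dvd_card hd h5
    have h5 : Nat.card (fittingSubgroup B) ∣ 5 :=
      (((Nat.Prime.coprime_iff_not_dvd (by norm_num)).2 h4).symm.pow_right 6).dvd_of_dvd_mul_left
        ((card_subgroup_dvd_card _).trans h3)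
    haveI : Fact (Nat.Prime 5) := ⟨by norm_num⟩
    haveI : IsCyclic (fittingSubgroup B) := isCyclic_of_card_dvd_prime h5
    have h6 := (index_dvd_of_le (Solv.centralizer_fitting_le (G := B))).trans
      (index_cent_dvd (fittingSubgroup B))
    rw [IsCyclic.card_mulAut] at h6
    have h7 : (fittingSubgroup B).index ∣ 2 ^ 2 := by
      rcases (Nat.dvd_prime (by norm_num)).1 h5 with e | e <;> rw [e] at h6
      · exact h6.trans (by decide)
      · exact h6.trans (by decide)
    have h8 : (fittingSubgroup B).index = 1 := Nat.Coprime.eq_one_of_dvd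
      ((Nat.coprime_two_right.2 (odd_of_dvd (index_dvd_card _) hodd)).pow_right 2) h7
    rw [← (fittingSubgroup B).card_mul_index, h8, mul_one]
    exact Nat.le_of_dvd (by norm_num) h5

theorem bound_b {n : ℕ} (hn : FI.{u} n) {A : Type u} [Group A] [Finite A]
    (hA : Odd (Nat.card A)) (hcard : Nat.card A ≤ n) {Z : Subgroup A} (hZ : Z ≤ center A)
    (hZ1 : Z ≠ ⊥) [IsCyclic Z] (hc : ∀ x ∈ fittingSubgroup A, ∀ y ∈ fittingSubgroup A, ⁅x, y⁆ ∈ Z)
    (hZF : ∀ x ∈ fittingSubgroup A, (∀ y ∈ fittingSubgroup A, y * x = x * y) → x ∈ Z) :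
    (fittingSubgroup A).index ≤ Z.relIndex (fittingSubgroup A) ^ 2 ∧
    (Z.relIndex (fittingSubgroup A) = 9 → (fittingSubgroup A).index = 1) ∧
    (Z.relIndex (fittingSubgroup A) = 25 → (fittingSubgroup A).index ≤ 3) ∧
    (Z.relIndex (fittingSubgroup A) = 49 → (fittingSubgroup A).index ≤ 9) ∧
    (Z.relIndex (fittingSubgroup A) = 81 → (fittingSubgroup A).index ≤ 5) := by
  haveI : Z.Normal := PGrp.normal_of_le_center hZ
  set F := fittingSubgroup A with hF
  let π := QuotientGroup.mk' Z
  have hπ : Function.Surjective π := QuotientGroup.mk'_surjective Z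
  have hker : π.ker = Z := QuotientGroup.ker_mk' Z
  have hZle : Z ≤ F := hZ.trans Solv.center_le_fitting
  have hodd : Odd (Nat.card (A ⧸ Z)) := odd_of_dvd (card_quotient_dvd_card Z) hA
  haveI : Group.IsSolvable (A ⧸ Z) := S0205.result hodd
  have hfit : fittingSubgroup (A ⧸ Z) = F.map π := by
    refine le_antisymm ?_ (Solv.map_fitting_le hπ)
    haveI : Group.IsNilpotent ((fittingSubgroup (A ⧸ Z)).comap π) :=
      Subgroup.isNilpotent_of_ker_le_center (π.subgroupComap _) fun x hx => by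
        have h1 : π x = 1 := congrArg Subtype.val hx
        have h2 : (x : A) ∈ center A := hZ ((QuotientGroup.eq_one_iff _).1 h1)
        rw [mem_center_iff] at h2 ⊢
        exact fun y => Subtype.ext (h2 y)
    rw [← map_comap_eq_self_of_surjective hπ (fittingSubgroup (A ⧸ Z))]
    exact map_mono Solv.le_fitting
  have hcardF : ∀ L : Subgroup A, Nat.card (L.map π) = Z.relIndex L := fun L => by
    rw [← relIndex_ker, hker]
  have hidx : (F.map π).index = F.index := SolvStr.index_map_mk' hZle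
  have hlt : Nat.card (A ⧸ Z) < n := by
    have h1 := Z.card_mul_index
    have h2 := Z.one_lt_card_iff_ne_bot.2 hZ1
    have h3 : 0 < Z.index := Nat.pos_of_ne_zero index_ne_zero_of_finite
    change Z.index < n
    nlinarith
  haveI : IsMulCommutative (fittingSubgroup (A ⧸ Z)) := by
    rw [hfit]
    refine ⟨⟨?_⟩⟩
    rintro ⟨_, x, hx, rfl⟩ ⟨_, y, hy, rfl⟩
    apply Subtype.ext
    change π x * π y = π y * π x
    rw [← commutatorElement_eq_one_iff_mul_comm, ← map_commutatorElement]
    exact (QuotientGroup.eq_one_iff _).2 (hc x hx y hy)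
  have h1 := fit_bound hn hodd hlt
  obtain ⟨h2, h3, h4, h5⟩ := small_index hodd
  have hCF : centralizer (fittingSubgroup (A ⧸ Z) : Set (A ⧸ Z)) ≤ fittingSubgroup (A ⧸ Z) :=
    Solv.centralizer_fitting_le
  rw [hfit, hcardF, hidx] at h1 h2 h3 h4 h5
  rw [hfit] at hCF
  refine ⟨h1, h2, h3, h4, fun h81 => h5 h81 fun h13 => ?_⟩
  haveI : Fact (Nat.Prime 13) := ⟨by norm_num⟩
  obtain ⟨x, hx⟩ := exists_prime_orderOf_dvd_card' 13 h13
  obtain ⟨x, rfl⟩ := hπ x
  have hX : IsPGroup 13 (zpowers (π x)) := IsPGroup.of_card (n := 1) (by rw [Nat.card_zpowers, hx]; rfl)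
  set C := centralizer (zpowers (π x) : Set (A ⧸ Z)) with hC
  have e1 := Transfer.card_modEq_card_inf_centralizer (Q := F.map π) hX
    (by rw [normalizer_eq_top]; exact le_top)
  rw [hcardF, h81, ← hC] at e1
  have e2 : Nat.card (F.map π ⊓ C : Subgroup _) = 3 := by
    have d1 : Nat.card (F.map π ⊓ C : Subgroup _) ∣ 3 ^ 4 := by
      have := card_dvd_of_le (inf_le_left : F.map π ⊓ C ≤ _)
      rwa [hcardF, h81] at this
    obtain ⟨j, hj, e⟩ := (Nat.dvd_prime_pow (by norm_num)).1 d1
    have d2 : j ≠ 4 := by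
      rintro rfl
      have d3 : F.map π ⊓ C = F.map π :=
        eq_of_le_of_card_ge inf_le_left (by rw [hcardF, h81, e]; rfl)
      have d4 : zpowers (π x) ≤ F.map π :=
        (le_centralizer_iff.1 (inf_eq_left.1 d3)).trans hCF
      have := card_dvd_of_le d4
      rw [hcardF, h81, Nat.card_zpowers, hx] at this
      norm_num at this
    rw [e] at e1 ⊢
    interval_cases j <;> first | rfl | exact absurd e1 (by decide) | exact absurd rfl d2
  obtain ⟨c, hc0, hc1⟩ := (F.map π ⊓ C).bot_or_exists_ne_one.resolve_left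
    fun h => by rw [h, card_bot] at e2; omega
  have hc3 : c ^ 3 = 1 := by
    have := pow_card_eq_one' (x := (⟨c, hc0⟩ : (F.map π ⊓ C : Subgroup _)))
    rw [e2] at this
    exact congrArg Subtype.val this
  obtain ⟨⟨c, hcF, rfl⟩, hcC⟩ := hc0
  have hcZ : c ∉ Z := fun h => hc1 ((QuotientGroup.eq_one_iff _).2 h)
  have hc3' : c ^ 3 ∈ Z := (QuotientGroup.eq_one_iff _).1 (by rw [← hc3]; rfl)
  let φ : F →* Z :=
    { toFun := fun y => ⟨⁅(y : A), c⁆, hc _ y.2 _ hcF⟩
      map_one' := Subtype.ext (by simp)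
      map_mul' := fun a b => Subtype.ext (by
        change ⁅(a : A) * b, c⁆ = ⁅(a : A), c⁆ * ⁅(b : A), c⁆
        have h1 := mem_center_iff.1 (hZ (hc _ b.2 _ hcF))
        calc ⁅(a : A) * b, c⁆ = a * ⁅(b : A), c⁆ * (a : A)⁻¹ * ⁅(a : A), c⁆ := by
              simp only [commutatorElement_def]; group
          _ = _ := by rw [h1, mul_inv_cancel_right, h1]) }
  set L := F ⊓ centralizer {c} with hL
  have hkerφ : φ.ker = L.subgroupOf F := by
    ext y
    rw [MonoidHom.mem_ker, mem_subgroupOf, hL, mem_inf, mem_centralizer_singleton_iff,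
      ← commutatorElement_eq_one_iff_mul_comm, Subtype.ext_iff]
    exact ⟨fun h => ⟨y.2, h⟩, fun h => h.2⟩
  have e3 : L.relIndex F ∣ 3 := by
    rw [relIndex, ← hkerφ, index_ker, ← IsCyclic.exponent_eq_card]
    refine Monoid.exponent_dvd_of_forall_pow_eq_one ?_
    rintro ⟨_, y, rfl⟩
    apply Subtype.ext
    apply Subtype.ext
    change ⁅(y : A), c⁆ ^ 3 = 1
    have a1 : (y : A) * c * (y : A)⁻¹ = ⁅(y : A), c⁆ * c := by rw [commutatorElement_def]; group
    have a2 : Commute ⁅(y : A), c⁆ c := (mem_center_iff.1 (hZ (hc _ y.2 _ hcF)) c).symm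
    have a3 : ((y : A) * c * (y : A)⁻¹) ^ 3 = c ^ 3 := by
      rw [conj_pow, mem_center_iff.1 (hZ hc3'), mul_inv_cancel_right]
    rwa [a1, a2.mul_pow, mul_eq_right] at a3
  have e4 : L.relIndex F = 3 := by
    refine ((Nat.dvd_prime (by norm_num)).1 e3).resolve_left fun h => hcZ (hZF c hcF fun y hy => ?_)
    exact mem_centralizer_singleton_iff.1 (relIndex_eq_one.1 h hy).2
  have hZL : Z ≤ L := le_inf hZle fun z hz =>
    mem_centralizer_singleton_iff.2 (mem_center_iff.1 (hZ hz) c).symm
  have e5 : Z.relIndex L = 27 := by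
    have := relIndex_mul_relIndex Z L F hZL inf_le_left
    rw [e4, h81] at this
    omega
  have hxc : ⁅x, c⁆ ∈ Z := by
    rw [← hker, MonoidHom.mem_ker, map_commutatorElement, commutatorElement_eq_one_iff_mul_comm]
    exact hcC _ (mem_zpowers _)
  have hxL : x ∈ normalizer (L : Set A) := by
    refine mem_normalizer_fintype fun y hy => ⟨(inferInstance : F.Normal).conj_mem y hy.1 x, ?_⟩
    have a1 := mem_centralizer_singleton_iff.1 hy.2
    have a2 := mem_center_iff.1 (hZ hxc)
    have a3 : c = ⁅x, c⁆⁻¹ * (x * c * x⁻¹) := by rw [commutatorElement_def]; group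
    have a4 := mem_center_iff.1 ((center A).inv_mem (hZ hxc))
    apply mem_centralizer_singleton_iff.2
    conv_lhs => rw [a3]
    conv_rhs => rw [a3]
    rw [← mul_assoc, a4, mul_assoc, mul_assoc ⁅x, c⁆⁻¹]
    congr 1
    calc x * y * x⁻¹ * (x * c * x⁻¹) = x * (y * c) * x⁻¹ := by group
      _ = _ := by rw [a1]; group
  have e6 := Transfer.card_modEq_card_inf_centralizer (Q := L.map π) hX
    (zpowers_le.2 (le_normalizer_map π ⟨x, hxL, rfl⟩))
  rw [hcardF, e5, ← hC] at e6
  have d1 : Nat.card (L.map π ⊓ C : Subgroup _) ∣ 3 :=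
    e2 ▸ card_dvd_of_le (inf_le_inf_right C (map_mono inf_le_left))
  rcases (Nat.dvd_prime (by norm_num)).1 d1 with e | e
  · have : π c ∈ L.map π ⊓ C := ⟨⟨c, ⟨hcF, mem_centralizer_singleton_iff.2 rfl⟩, rfl⟩, hcC⟩
    rw [card_eq_one.1 e] at this
    exact hc1 this
  · rw [e] at e6
    exact absurd e6 (by decide)

end Cfsg.Agent.CH.Reg
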