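import Cfsg.Agent.CH.Reg4
import Cfsg.Agent.CH.Reg5
import Mathlib.FieldTheory.Finite.Basic

/-! Odd-order completely reducible linear groups have a base of size two. -/

set_option autoImplicit false

namespace Cfsg.Agent.CH.Reg

open Subgroup
open scoped commutatorElement

universe u

theorem num_gen {q d m a b e B q0 : ℕ} (h1 : 2 * (m * a) ≤ q ^ 2) (h2 : e ^ 2 * b ≤ B)
    (h3 : q0 ≤ q) (h0 : 0 < q0) (h4 : B ^ 3 ≤ 8 * q0 ^ (2 * e - 6)) (he : 3 ≤ e) (hd : e ≤ d) :
    (m * e ^ 2 * b * a) ^ 3 ≤ (q ^ d) ^ 2 := by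
  have hq : 0 < q := lt_of_lt_of_le h0 h3
  refine Nat.le_of_mul_le_mul_left (c := 8) ?_ (by norm_num)
  calc 8 * (m * e ^ 2 * b * a) ^ 3 = (2 * (m * a)) ^ 3 * (e ^ 2 * b) ^ 3 := by ring
    _ ≤ (q ^ 2) ^ 3 * B ^ 3 := by gcongr
    _ ≤ (q ^ 2) ^ 3 * (8 * q ^ (2 * e - 6)) := by
      gcongr
      exact h4.trans (by gcongr)
    _ = 8 * q ^ (2 * e) := by
      rw [← pow_mul, mul_left_comm, ← pow_add]
      congr 2
      omega
    _ ≤ 8 * (q ^ d) ^ 2 := by
      rw [← pow_mul]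
      exact Nat.mul_le_mul_left _ (Nat.pow_le_pow_right hq (by omega))

theorem num_big {e : ℕ} (he : 23 ≤ e) : (e ^ 6) ^ 3 ≤ 8 * 4 ^ (2 * e - 6) := by
  induction e, he using Nat.le_induction with
  | base => norm_num
  | succ n hn ih =>
    have h1 : (23 * (n + 1)) ^ 18 ≤ (24 * n) ^ 18 := Nat.pow_le_pow_left (by omega) _
    have h2 : (n + 1) ^ 18 ≤ 16 * n ^ 18 := by
      rw [mul_pow, mul_pow] at h1
      refine Nat.le_of_mul_le_mul_left (c := 23 ^ 18) (h1.trans ?_) (by norm_num)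
      rw [← mul_assoc]
      gcongr
      norm_num
    rw [← pow_mul] at ih ⊢
    rw [show 2 * (n + 1) - 6 = 2 * n - 6 + 2 by omega, pow_add]
    norm_num at ih ⊢
    omega

theorem num {q d m a b e : ℕ} (hq : IsPrimePow q) (hm : m ∣ q - 1) (hmo : Odd m) (hao : Odd a)
    (ha : a ∣ m.totient) (heo : Odd e) (he1 : e ≠ 1) (hd : e ≤ d)
    (hr : ∀ r : ℕ, r.Prime → r ∣ e → r ∣ m) (hb : b ≤ (e ^ 2) ^ 2) (h9 : e ^ 2 = 9 → b = 1)
    (h25 : e ^ 2 = 25 → b ≤ 3) (h49 : e ^ 2 = 49 → b ≤ 9) (h81 : e ^ 2 = 81 → b ≤ 5) :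
    (b = 1 ∧ m * e ^ 2 * b * a ≤ q ^ d) ∨ (m * e ^ 2 * b * a) ^ 3 ≤ (q ^ d) ^ 2 := by
  have hq2 := hq.two_le
  have hmq : m ≤ q - 1 := Nat.le_of_dvd (by omega) hm
  have hm3 : 3 ≤ m := by
    obtain ⟨r, hrp, hre⟩ := Nat.exists_prime_and_dvd he1
    have h1 := Nat.le_of_dvd hmo.pos (hr r hrp hre)
    have h2 := hrp.two_le
    obtain ⟨k, rfl⟩ := hmo
    omega
  have ha2 : 2 * a ≤ m - 1 := by
    have h1 : 2 * a ∣ m.totient := Nat.Coprime.mul_dvd_of_dvd_of_dvd (Nat.coprime_two_left.2 hao)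
      (even_iff_two_dvd.1 (Nat.totient_even (by omega))) ha
    have h2 := Nat.le_of_dvd (Nat.totient_pos.2 (by omega)) h1
    have h3 := Nat.totient_lt m (by omega)
    omega
  have hma : 2 * (m * a) ≤ q ^ 2 := by
    calc 2 * (m * a) = m * (2 * a) := by ring
      _ ≤ q * q := Nat.mul_le_mul (by omega) (by omega)
      _ = q ^ 2 := by ring
  have he3 : 3 ≤ e := by obtain ⟨k, rfl⟩ := heo; omega
  have hb' : e ^ 2 * b ≤ e ^ 6 := by
    calc e ^ 2 * b ≤ e ^ 2 * (e ^ 2) ^ 2 := by gcongr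
      _ = e ^ 6 := by ring
  by_cases hbig : 23 ≤ e
  · exact Or.inr (num_gen hma hb' (by omega) (by norm_num) (num_big hbig) he3 hd)
  have hrq : ∀ r : ℕ, r.Prime → r ∣ e → r ∣ q - 1 := fun r h1 h2 => (hr r h1 h2).trans hm
  obtain ⟨k, rfl⟩ := heo
  have hk : k < 11 := by omega
  interval_cases k
  · omega
  · left
    have := h9 (by norm_num)
    subst this
    refine ⟨rfl, le_trans ?_ (Nat.pow_le_pow_right (by omega) hd)⟩
    obtain ⟨t, rfl⟩ : ∃ t, q = t + 4 := ⟨q - 4, by omega⟩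
    have h1 : m * (2 * a) ≤ (t + 3) * (t + 2) := Nat.mul_le_mul (by omega) (by omega)
    norm_num
    nlinarith [Nat.zero_le t, Nat.zero_le (t ^ 2), Nat.zero_le (t ^ 3)]
  · right
    have h1 := h25 (by norm_num)
    by_cases h16 : 16 ≤ q
    · exact num_gen (B := 75) hma (by norm_num; omega) h16 (by norm_num) (by norm_num) he3 hd
    have h2 := hr 5 (by norm_num) (by norm_num)
    have h3 : m = 5 ∧ 6 ≤ q := by
      have h4 : q < 16 := by omega
      have h5 : m < 16 := by omega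
      obtain ⟨j, rfl⟩ := hmo
      omega
    have h4 : a = 1 := by obtain ⟨j, rfl⟩ := hao; omega
    rw [h3.1, h4]
    calc (5 * (2 * 2 + 1) ^ 2 * b * 1) ^ 3 ≤ (5 * (2 * 2 + 1) ^ 2 * 3 * 1) ^ 3 := by gcongr
      _ ≤ (6 ^ 5) ^ 2 := by norm_num
      _ ≤ (q ^ 5) ^ 2 := by gcongr; exact h3.2
      _ ≤ (q ^ d) ^ 2 := Nat.pow_le_pow_left (Nat.pow_le_pow_right (by omega) (by omega)) _
  · have h1 := h49 (by norm_num)
    have h2 := Nat.le_of_dvd (by omega) (hrq 7 (by norm_num) (by norm_num))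
    exact Or.inr (num_gen (B := 441) (q0 := 8) hma (by norm_num; omega) (by omega) (by norm_num)
      (by norm_num) he3 hd)
  · have h1 := h81 (by norm_num)
    exact Or.inr (num_gen (B := 405) (q0 := 4) hma (by norm_num; omega) (by omega) (by norm_num)
      (by norm_num) he3 hd)
  · have h2 := hrq 11 (by norm_num) (by norm_num)
    have h3 : q ≠ 12 := by rintro rfl; revert hq; decide
    exact Or.inr (num_gen (q0 := 23) hma hb' (by omega) (by norm_num) (by norm_num) he3 hd)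
  · have h2 := Nat.le_of_dvd (by omega) (hrq 13 (by norm_num) (by norm_num))
    exact Or.inr (num_gen (q0 := 14) hma hb' (by omega) (by norm_num) (by norm_num) he3 hd)
  · have h2 := hrq 5 (by norm_num) (by norm_num)
    have h3 := hrq 3 (by norm_num) (by norm_num)
    exact Or.inr (num_gen (q0 := 16) hma hb' (by omega) (by norm_num) (by norm_num) he3 hd)
  · have h2 := Nat.le_of_dvd (by omega) (hrq 17 (by norm_num) (by norm_num))
    exact Or.inr (num_gen (q0 := 18) hma hb' (by omega) (by norm_num) (by norm_num) he3 hd)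
  · have h2 := Nat.le_of_dvd (by omega) (hrq 19 (by norm_num) (by norm_num))
    exact Or.inr (num_gen (q0 := 20) hma hb' (by omega) (by norm_num) (by norm_num) he3 hd)
  · have h2 := Nat.le_of_dvd (by omega) (hrq 7 (by norm_num) (by norm_num))
    exact Or.inr (num_gen (q0 := 8) hma hb' (by omega) (by norm_num) (by norm_num) he3 hd)

theorem step {n : ℕ} (hn : FI.{u} n) : FI.{u} (n + 1) := by
  intro G V _ _ _ _ _ _ hc hG hI
  have hc' : Nat.card G ≤ n := by omega
  rcases subsingleton_or_nontrivial V with hV | hV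
  · exact ⟨0, 0, fun a _ _ => FaithfulSMul.eq_of_smul_eq_smul (α := V) fun _ => Subsingleton.elim _ _⟩
  by_cases hblock : ∃ (N : Subgroup G) (_ : N.Normal) (_ : IsMulCommutative N),
      ∃ κ ∈ KR V N, κ ≠ 0 ∧ ¬ Function.Injective κ
  · obtain ⟨N, _, _, κ, h1, h2, h3⟩ := hblock
    obtain ⟨H, e, a1, a2, a3, a4, a5⟩ := exists_block hI h1 h2 h3
    exact imprim hn hG hc' hI a1 e a2 a3 a4 a5
  have hfield : ∀ (N : Subgroup G) (_ : N.Normal) (_ : IsMulCommutative N),
      ∀ κ ∈ KR V N, κ ≠ 0 → Function.Injective κ := fun N h1 h2 κ h3 h4 =>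
    by_contra fun h5 => hblock ⟨N, h1, h2, κ, h3, h4, h5⟩
  have hcyc : ∀ N : Subgroup G, N.Normal → IsMulCommutative N → IsCyclic N := by
    intro N h1 h2
    obtain ⟨K, _, _, _, ι, hι, -⟩ := exists_field (hfield N h1 h2)
    exact isCyclic_of_injective ι (ι_inj ι hι)
  haveI : Group.IsSolvable G := S0205.result hG
  obtain ⟨e, he, hre⟩ := relIndex_sq hG hcyc
  have hcomm := @comm_mem G _ _ hG hcyc
  set F := fittingSubgroup G with hF
  set Z := centralizer (F : Set G) with hZ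
  have hZF : Z ≤ F := Solv.centralizer_fitting_le
  haveI hZc : IsMulCommutative Z := ⟨⟨fun a b => Subtype.ext (b.2 a (hZF a.2))⟩⟩
  haveI : IsCyclic Z := hcyc Z inferInstance hZc
  obtain ⟨K, _, _, _, ι, hι, hlin⟩ := exists_field (hfield Z inferInstance hZc)
  by_cases he1 : e = 1
  · rw [he1, one_pow, relIndex_eq_one] at he
    obtain ⟨⟨z, hz⟩, hgen⟩ := IsCyclic.exists_generator (α := Z)
    obtain ⟨v, hv⟩ := exists_ne (0 : V)
    have hfree : ∀ y ∈ Z, y • v = v → y = 1 := fun y hy e => by_contra fun h =>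
      hv (AddSubgroup.mem_bot.1 (Fix_eq_bot ι hι hy h ▸ (mem_Fix.2 e)))
    refine ⟨v, z • v, fun g h1 h2 => hfree g (fun x hx => ?_) h1⟩
    have h3 := hfree (z⁻¹ * (g * z * g⁻¹))
      (Z.mul_mem (Z.inv_mem hz) ((inferInstance : Z.Normal).conj_mem z hz g))
      (by rw [mul_smul, mul_smul, inv_smul_eq_iff.2 h1.symm, mul_smul, h2, inv_smul_smul])
    rw [inv_mul_eq_one, eq_mul_inv_iff_mul_eq] at h3
    obtain ⟨k, hk⟩ := hgen ⟨x, he hx⟩
    have h4 : x = z ^ k := (congrArg Subtype.val hk).symm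
    rw [h4]
    exact (Commute.zpow_left h3 k).eq
  set A := centralizer (Z : Set G) with hA
  have hFA : F ≤ A := le_centralizer_iff.1 le_rfl
  have hdim := relIndex_le_finrank_sq ι hι hlin hFA (fun x hx y hy => hcomm hx hy)
    fun x _ h y hy => h y hy
  rw [he] at hdim
  have hdim' : e ≤ Module.finrank K V := (Nat.pow_le_pow_iff_left two_ne_zero).1 hdim
  have hfitA : fittingSubgroup A = F.subgroupOf A := by
    rw [← comap_map_eq_self_of_injective A.subtype_injective (fittingSubgroup A),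
      Solv.map_subtype_fitting, comap_inf, comap_subtype, comap_subtype, subgroupOf_self,
      inf_top_eq]
  have hZ1 : Z ≠ ⊥ := by
    intro h
    obtain ⟨r, hr, hre'⟩ := Nat.exists_prime_and_dvd he1
    have := hre r hr hre'
    rw [h, card_bot] at this
    exact hr.not_dvd_one this
  haveI : IsCyclic (Z.subgroupOf A) :=
    isCyclic_of_injective (subgroupOfEquivOfLe (hZF.trans hFA)).toMonoidHom (MulEquiv.injective _)
  have hb := bound_b hn (A := A) (odd_of_dvd (card_subgroup_dvd_card A) hG)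
    ((card_le_card_group A).trans hc') (Z := Z.subgroupOf A)
    (fun z hz => mem_center_iff.2 fun y => Subtype.ext (y.2 z hz).symm)
    (fun h => hZ1 (eq_bot_iff.2 fun z hz => by
      have : (⟨z, hFA (hZF hz)⟩ : A) ∈ Z.subgroupOf A := hz
      rw [h] at this
      exact congrArg Subtype.val (mem_bot.1 this)))
    (by rw [hfitA]; exact fun x hx y hy => hcomm hx hy)
    (by rw [hfitA]; exact fun x _ h y hy => congrArg Subtype.val (h ⟨y, hFA hy⟩ hy))
  rw [hfitA, relIndex_subgroupOf hFA, he] at hb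
  obtain ⟨b1, b2, b3, b4, b5⟩ := hb
  have hcardG : Nat.card Z * e ^ 2 * (F.subgroupOf A).index * A.index = Nat.card G := by
    rw [← he, ← Z.card_mul_index, ← relIndex_mul_index hZF, ← relIndex_mul_index hFA]
    change _ * _ * F.relIndex A * _ = _
    ring
  haveI := Fintype.ofFinite K
  have hq : IsPrimePow (Nat.card K) := by
    rw [Nat.card_eq_fintype_card]
    exact FiniteField.isPrimePow_card K
  have hm : Nat.card Z ∣ Nat.card K - 1 := by
    rw [← Nat.card_units]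
    exact card_dvd_of_injective ι (ι_inj ι hι)
  have ha : A.index ∣ (Nat.card Z).totient := by
    rw [← IsCyclic.card_mulAut]
    exact index_cent_dvd Z
  have heo : Odd e := odd_of_dvd ((dvd_pow_self e two_ne_zero).trans
    ((Dvd.intro_left _ rfl).trans ((Dvd.intro _ rfl).trans (Dvd.intro _ hcardG)))) hG
  haveI : Module.Finite K V := Module.Finite.of_finite
  have hnum := num hq hm (odd_of_dvd (card_subgroup_dvd_card Z) hG)
    (odd_of_dvd (index_dvd_card A) hG) ha heo he1 hdim' hre b1 b2 b3 b4 b5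
  rw [hcardG, ← Module.natCard_eq_pow_finrank] at hnum
  have hV1 : 1 ≤ Nat.card V := Nat.card_pos
  have f1 : ∀ x ∈ F, x ≠ 1 → Nat.card (Fix V x) ^ 3 ≤ Nat.card V := by
    intro x hx h1
    by_cases hxZ : x ∈ Z
    · rw [Fix_eq_bot ι hι hxZ h1, AddSubgroup.card_bot]
      exact hV1
    · obtain ⟨y, hy, hne⟩ : ∃ y ∈ F, y * x ≠ x * y := by
        by_contra h
        push Not at h
        exact hxZ h
      exact card_Fix_cube ι hι hlin (hFA hx) (hFA hy) (hcomm hy hx) fun h =>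
        hne (commutatorElement_eq_one_iff_mul_comm.1 (eq_one_of_sq hG h))
  have f2 : ∀ x, x ∉ A → Nat.card (Fix V x) ^ 2 ≤ Nat.card V := by
    intro x hx
    obtain ⟨y, hy, hne⟩ : ∃ y ∈ Z, y * x ≠ x * y := by
      by_contra h
      push Not at h
      exact hx h
    have h1 := card_Fix_sq (V := V) x y
    have h2 : ⁅y, x⁆ ∈ Z := by
      rw [commutatorElement_def, mul_assoc, mul_assoc, ← mul_assoc x]
      exact Z.mul_mem hy ((inferInstance : Z.Normal).conj_mem _ (Z.inv_mem hy) x)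
    rwa [Fix_eq_bot ι hι h2 (fun h => hne (commutatorElement_eq_one_iff_mul_comm.1 h)),
      AddSubgroup.card_bot, mul_one] at h1
  have f3 : ∀ x : G, x ≠ 1 → Nat.card (Fix V x) ^ 3 ≤ Nat.card V ^ 2 := by
    intro x h1
    by_cases hx : x ∈ F
    · exact (f1 x hx h1).trans (Nat.le_self_pow two_ne_zero _)
    obtain ⟨y, hy, hne⟩ : ∃ y ∈ F, y * x ≠ x * y := by
      by_contra h
      push Not at h
      exact hx (hZF h)
    have h2 := card_Fix_sq (V := V) x y
    have h3 : ⁅y, x⁆ ∈ F := by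
      rw [commutatorElement_def, mul_assoc, mul_assoc, ← mul_assoc x]
      exact F.mul_mem hy ((inferInstance : F.Normal).conj_mem _ (F.inv_mem hy) x)
    have h4 := f1 _ h3 fun h => hne (commutatorElement_eq_one_iff_mul_comm.1 h)
    refine (Nat.pow_le_pow_iff_left two_ne_zero).1 ?_
    calc (Nat.card (Fix V x) ^ 3) ^ 2 = (Nat.card (Fix V x) ^ 2) ^ 3 := by ring
      _ ≤ (Nat.card V * Nat.card (Fix V ⁅y, x⁆)) ^ 3 := by gcongr
      _ = Nat.card V ^ 3 * Nat.card (Fix V ⁅y, x⁆) ^ 3 := by ring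
      _ ≤ Nat.card V ^ 3 * Nat.card V := by gcongr
      _ = _ := by ring
  refine exists_regular fun x hx => ?_
  rcases hnum with ⟨h1, h2⟩ | h2
  · have h3 : Nat.card (Fix V x) ^ 2 ≤ Nat.card V := by
      by_cases hxA : x ∈ A
      · have : (⟨x, hxA⟩ : A) ∈ F.subgroupOf A := index_eq_one.1 h1 ▸ mem_top _
        exact (Nat.pow_le_pow_right Nat.card_pos (by norm_num)).trans (f1 x this hx)
      · exact f2 x hxA
    rw [pow_two (Nat.card V)]
    exact Nat.mul_le_mul h2 h3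
  · refine (Nat.pow_le_pow_iff_left three_ne_zero).1 ?_
    calc (Nat.card G * Nat.card (Fix V x) ^ 2) ^ 3
        = Nat.card G ^ 3 * (Nat.card (Fix V x) ^ 3) ^ 2 := by ring
      _ ≤ Nat.card V ^ 2 * (Nat.card V ^ 2) ^ 2 :=
          Nat.mul_le_mul h2 (Nat.pow_le_pow_left (f3 x hx) 2)
      _ = _ := by ring

theorem fi (n : ℕ) : FI.{u} n := by
  induction n with
  | zero => intro G V _ _ _ _ _ _ hc; exact absurd hc (Nat.not_lt_zero _)
  | succ n ih => exact step ih

/-- Odd-order groups acting completely reducibly have a base of size two. -/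
theorem base_two {G : Type*} {V : Type u} [Group G] [Finite G] [AddCommGroup V] [Finite V]
    [DistribMulAction G V] (hG : Odd (Nat.card G))
    (hcr : ∀ U : AddSubgroup V, Inv G U → ∃ W : AddSubgroup V, Inv G W ∧ U ⊓ W = ⊥ ∧ U ⊔ W = ⊤) :
    ∃ v w : V, ∀ a : G, a • v = v → a • w = w → ∀ x : V, a • x = x := by
  refine gen (fi (Nat.card G + 1)) (Nat.lt_succ_self _) hG fun U hU hne => ?_
  obtain ⟨W, hW, h1, h2⟩ := hcr U hU
  have hW0 : W ≠ ⊥ := by rintro rfl; exact hne (by simpa using h2)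
  obtain ⟨M, ⟨hM, hM0, hMW⟩, hmin⟩ :=
    (Set.toFinite {M : AddSubgroup V | Inv G M ∧ M ≠ ⊥ ∧ M ≤ W}).exists_minimal ⟨W, hW, hW0, le_rfl⟩
  refine ⟨M, ⟨hM, fun X hX hXM => (em (X = ⊥)).imp id fun h =>
    le_antisymm hXM (hmin ⟨hX, h, hXM.trans hMW⟩ hXM)⟩, fun h => hM0 ?_⟩
  rw [eq_bot_iff, ← h1]
  exact le_inf h hMW

end Cfsg.Agent.CH.Reg
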