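import Cfsg.Agent.CH.Reg4
import Cfsg.Agent.S3378

/-! Solvable completely reducible linear groups have a base of size three: reductions. -/

set_option autoImplicit false

namespace Cfsg.Agent.CH.Reg

open Subgroup
open scoped IsMulCommutative commutatorElement

universe u

/-- The induction statement: faithful irreducible case, groups of order `< n`. -/
def FI3 (n : ℕ) : Prop :=
  ∀ (G V : Type u) [Group G] [Finite G] [AddCommGroup V] [Finite V] [DistribMulAction G V]
    [FaithfulSMul G V], Nat.card G < n → Group.IsSolvable G → Irr G V →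
    ∃ x : Fin 3 → V, ∀ a : G, (∀ i, a • x i = x i) → a = 1

theorem irr_nf3 {n : ℕ} (hn : FI3.{u} n) {G : Type*} {V : Type u} [Group G] [Finite G]
    [AddCommGroup V] [Finite V] [DistribMulAction G V] (hc : Nat.card G < n)
    (hG : Group.IsSolvable G) (hI : Irr G V) :
    ∃ x : Fin 3 → V, ∀ a : G, (∀ i, a • x i = x i) → ∀ y : V, a • y = y := by
  let f : G →* Equiv.Perm V := MulAction.toPermHom G V
  letI : DistribMulAction f.range V :=
    { (inferInstance : MulAction f.range V) with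
      smul_zero := by rintro ⟨_, a, rfl⟩; exact smul_zero a
      smul_add := by rintro ⟨_, a, rfl⟩ x y; exact smul_add a x y }
  have hd : Nat.card f.range ∣ Nat.card G := Subgroup.card_range_dvd f
  haveI : Finite f.range := Finite.of_surjective _ f.rangeRestrict_surjective
  obtain ⟨x, h⟩ := hn f.range V (lt_of_le_of_lt (Nat.le_of_dvd Nat.card_pos hd) hc)
    (Group.isSolvable_of_surjective f.rangeRestrict_surjective)
    (fun U hU => hI U fun a x hx => hU ⟨f a, a, rfl⟩ x hx)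
  refine ⟨x, fun a hx y => ?_⟩
  have h1 := h ⟨f a, a, rfl⟩ hx
  have h2 : f a = 1 := congrArg Subtype.val h1
  have : f a y = y := by rw [h2]; rfl
  exact this

theorem irr_sub {G V : Type*} [Group G] [AddCommGroup V] [DistribMulAction G V]
    {M : AddSubgroup V} (hM : MinInv G M) : letI := subAct G M hM.1; Irr G M := by
  letI := subAct G M hM.1
  intro U hU
  have h1 : Inv G (U.map M.subtype) := by
    rintro a _ ⟨x, hx, rfl⟩
    exact ⟨a • x, hU a x hx, rfl⟩
  rcases hM.2 _ h1 (AddSubgroup.map_subtype_le U) with h | h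
  · left
    exact (AddSubgroup.map_eq_bot_iff_of_injective U M.subtype_injective).1 h
  · right
    rw [eq_top_iff]
    intro x _
    have : (x : V) ∈ U.map M.subtype := by rw [h]; exact x.2
    obtain ⟨y, hy, e⟩ := this
    rwa [← Subtype.ext e]

theorem min_nf3 {n : ℕ} (hn : FI3.{u} n) {G : Type*} {V : Type u} [Group G] [Finite G]
    [AddCommGroup V] [Finite V] [DistribMulAction G V] (hc : Nat.card G < n)
    (hG : Group.IsSolvable G) {M : AddSubgroup V} (hM : MinInv G M) :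
    ∃ x : Fin 3 → V, (∀ i, x i ∈ M) ∧ ∀ a : G, (∀ i, a • x i = x i) → ∀ y ∈ M, a • y = y := by
  letI := subAct G M hM.1
  obtain ⟨x, h⟩ := irr_nf3 hn hc hG (irr_sub hM)
  refine ⟨fun i => x i, fun i => (x i).2, fun a hx y hy => ?_⟩
  exact congrArg Subtype.val (h a (fun i => Subtype.ext (hx i)) ⟨y, hy⟩)

theorem gen3 {n : ℕ} (hn : FI3.{u} n) {G : Type*} {V : Type u} [Group G] [Finite G]
    [AddCommGroup V] [Finite V] [DistribMulAction G V] (hc : Nat.card G < n)
    (hG : Group.IsSolvable G)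
    (hS : ∀ U : AddSubgroup V, Inv G U → U ≠ ⊤ → ∃ M, MinInv G M ∧ ¬ M ≤ U) :
    ∃ x : Fin 3 → V, ∀ a : G, (∀ i, a • x i = x i) → ∀ y : V, a • y = y := by
  let S : Set (AddSubgroup V) := {U | Inv G U ∧ ∃ x : Fin 3 → V, (∀ i, x i ∈ U) ∧
    ∀ a : G, (∀ i, a • x i = x i) → ∀ y ∈ U, a • y = y}
  have h0 : (⊥ : AddSubgroup V) ∈ S := by
    refine ⟨fun a v hv => ?_, 0, fun _ => zero_mem _, fun a _ x hx => ?_⟩
    · rw [AddSubgroup.mem_bot] at hv ⊢; rw [hv, smul_zero]
    · rw [AddSubgroup.mem_bot] at hx; rw [hx, smul_zero]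
  obtain ⟨U, ⟨hU, v, hv, h⟩, hmax⟩ := (Set.toFinite S).exists_maximal ⟨_, h0⟩
  by_cases ht : U = ⊤
  · exact ⟨v, fun a h1 x => h a h1 x (ht ▸ AddSubgroup.mem_top x)⟩
  exfalso
  obtain ⟨M, hM, hMU⟩ := hS U hU ht
  obtain ⟨v', hv', h'⟩ := min_nf3 hn hc hG hM
  have hbot : U ⊓ M = ⊥ := by
    rcases hM.2 (U ⊓ M) (fun a x hx => ⟨hU a x hx.1, hM.1 a x hx.2⟩) inf_le_right with h1 | h1
    · exact h1
    · exact absurd (h1 ▸ inf_le_left) hMU
  have key : ∀ (a : G) (x y : V), x ∈ U → y ∈ M → a • (x + y) = x + y → a • x = x ∧ a • y = y := by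
    intro a x y hx hy e
    have h1 : a • x - x ∈ U ⊓ M := by
      refine ⟨U.sub_mem (hU a x hx) hx, ?_⟩
      have : a • x - x = y - a • y := by
        rw [smul_add] at e
        rw [sub_eq_sub_iff_add_eq_add, e, add_comm]
      rw [this]
      exact M.sub_mem hy (hM.1 a y hy)
    rw [hbot, AddSubgroup.mem_bot, sub_eq_zero] at h1
    refine ⟨h1, ?_⟩
    rw [smul_add, h1] at e
    exact add_left_cancel e
  have hmem : U ⊔ M ∈ S := by
    refine ⟨fun a x hx => ?_, fun i => v i + v' i, fun i => AddSubgroup.add_mem_sup (hv i) (hv' i),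
      fun a h1 x hx => ?_⟩
    · obtain ⟨y, hy, z, hz, rfl⟩ := AddSubgroup.mem_sup.1 hx
      rw [smul_add]
      exact AddSubgroup.add_mem_sup (hU a y hy) (hM.1 a z hz)
    · obtain ⟨y, hy, z, hz, rfl⟩ := AddSubgroup.mem_sup.1 hx
      rw [smul_add, h a (fun i => (key a _ _ (hv i) (hv' i) (h1 i)).1) y hy,
        h' a (fun i => (key a _ _ (hv i) (hv' i) (h1 i)).2) z hz]
  exact hMU (le_sup_right.trans (hmax hmem le_sup_left))

/-- A solvable group has an abelian minimal normal subgroup complementing a core-free maximal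
subgroup. -/
theorem exists_min_normal {G : Type*} [Group G] [Finite G] [Group.IsSolvable G] {H : Subgroup G}
    (hH : IsCoatom H) (hcore : H.normalCore = ⊥) :
    ∃ (N : Subgroup G) (_ : N.Normal) (_ : IsMulCommutative N), N ≠ ⊥ ∧ N ⊓ H = ⊥ ∧
      centralizer (N : Set G) ⊓ H = ⊥ ∧ (∀ g : G, ∃ t ∈ N, ∃ k ∈ H, t * k = g) ∧
      ∀ W : Subgroup G, W ≤ N → (∀ k ∈ H, ∀ u ∈ W, k * u * k⁻¹ ∈ W) → W = ⊥ ∨ W = N := by
  obtain ⟨N, ⟨hN, hN1⟩, hmin⟩ := (Set.toFinite {N : Subgroup G | N.Normal ∧ N ≠ ⊥}).exists_minimal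
    ⟨⊤, inferInstance, fun e => hH.1 (top_le_iff.1 (e ▸ bot_le))⟩
  have hmin' : ∀ W : Subgroup G, W.Normal → W ≤ N → W = ⊥ ∨ W = N := fun W hW hWN =>
    (em (W = ⊥)).imp id fun h => le_antisymm hWN (hmin ⟨hW, h⟩ hWN)
  have hab : ⁅N, N⁆ = ⊥ := by
    have := Group.IsSolvable.commutator_lt_of_ne_bot hN1
    exact (hmin' _ inferInstance this.le).resolve_right this.ne
  haveI hc : IsMulCommutative N := by
    rw [Subgroup.commutator_eq_bot_iff_le_centralizer] at hab
    exact ⟨⟨fun a b => Subtype.ext (hab b.2 a a.2)⟩⟩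
  have hsup : N ⊔ H = ⊤ := SolvStr.sup_eq_top_of_coreFree hH hcore hN1
  have hdec : ∀ g : G, ∃ t ∈ N, ∃ k ∈ H, t * k = g := fun g =>
    mem_sup_of_normal_left.1 (hsup ▸ mem_top g)
  refine ⟨N, hN, hc, hN1, ?_, SolvStr.centralizer_inf_eq_bot_of_coreFree hH hcore hN1, hdec,
    fun W hW hWi => hmin' W ⟨fun u hu g => ?_⟩ hW⟩
  · haveI := SolvStr.normal_inf_of_sup_eq_top hsup
    rw [eq_bot_iff, ← hcore]
    exact normal_le_normalCore.2 inf_le_right
  · obtain ⟨t, ht, k, hk, rfl⟩ := hdec g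
    have h1 := hWi k hk u hu
    have h2 : t * (k * u * k⁻¹) = k * u * k⁻¹ * t :=
      congrArg Subtype.val (mul_comm' (⟨t, ht⟩ : N) ⟨_, hW h1⟩)
    rwa [show t * k * u * (t * k)⁻¹ = t * (k * u * k⁻¹) * t⁻¹ by group, h2, mul_inv_cancel_right]

theorem irr_conj {G : Type*} [Group G] {H N : Subgroup G} [hN : N.Normal] [IsMulCommutative N]
    (h : ∀ W : Subgroup G, W ≤ N → (∀ k ∈ H, ∀ u ∈ W, k * u * k⁻¹ ∈ W) → W = ⊥ ∨ W = N) :
    letI := conjAct N; Irr H (Additive N) := by
  letI := conjAct N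
  intro U hU
  rcases h ((AddSubgroup.toSubgroup' U).map N.subtype) (map_subtype_le _) (by
    rintro k hk _ ⟨u, hu, rfl⟩
    exact ⟨_, hU ⟨k, hk⟩ (Additive.ofMul u) hu, rfl⟩) with e | e
  · left
    rw [eq_bot_iff]
    intro x hx
    have : (x.toMul : G) ∈ (AddSubgroup.toSubgroup' U).map N.subtype := ⟨x.toMul, hx, rfl⟩
    rw [e, Subgroup.mem_bot] at this
    exact Additive.toMul.injective (Subtype.ext this)
  · right
    rw [eq_top_iff]
    intro x _
    have : (x.toMul : G) ∈ (AddSubgroup.toSubgroup' U).map N.subtype := by rw [e]; exact x.toMul.2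
    obtain ⟨y, hy, e'⟩ := this
    have : y = x.toMul := Subtype.ext e'
    subst this
    exact hy

theorem normalCore_map_eq_bot {G : Type*} [Group G] (H : Subgroup G) :
    (H.map (QuotientGroup.mk' H.normalCore)).normalCore = ⊥ := by
  rw [eq_bot_iff]
  intro x hx
  obtain ⟨x, rfl⟩ := QuotientGroup.mk'_surjective H.normalCore x
  rw [mem_bot, QuotientGroup.mk'_apply, QuotientGroup.eq_one_iff]
  intro b
  have := hx (QuotientGroup.mk' H.normalCore b)
  rw [← map_inv, ← map_mul, ← map_mul] at this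
  obtain ⟨y, hy, e⟩ := this
  have h3 : y⁻¹ * (b * x * b⁻¹) ∈ H.normalCore := QuotientGroup.eq.1 e
  have := H.mul_mem hy (H.normalCore_le h3)
  rwa [mul_inv_cancel_left] at this

/-- A primitive solvable group has a base of size four. -/
theorem base_four {n : ℕ} (hn : FI3.{u} n) {G : Type u} [Group G] [Finite G] [Group.IsSolvable G]
    (hc : Nat.card G ≤ n) {H : Subgroup G} (hH : IsCoatom H) :
    ∃ t : Fin 4 → G, ∀ g : G, (∀ i, (t i)⁻¹ * g * t i ∈ H) → g ∈ H.normalCore := by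
  let π := QuotientGroup.mk' H.normalCore
  have hd : Nat.card (G ⧸ H.normalCore) ∣ Nat.card G := Subgroup.card_quotient_dvd_card _
  have hH' := SolvStr.isCoatom_map_mk' hH H.normalCore_le
  obtain ⟨N, _, _, -, hinf, hcent, -, hirr⟩ := exists_min_normal hH' (normalCore_map_eq_bot H)
  letI := conjAct N
  have hlt : Nat.card (H.map π) < Nat.card (G ⧸ H.normalCore) := by
    by_contra h
    exact hH'.1 (Subgroup.eq_top_of_le_card _ (not_lt.1 h))
  obtain ⟨x, hx⟩ := irr_nf3 (G := H.map π) hn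
    (lt_of_lt_of_le hlt ((Nat.le_of_dvd Nat.card_pos hd).trans hc)) inferInstance (irr_conj hirr)
  choose s hs using fun i => QuotientGroup.mk'_surjective H.normalCore (x i).toMul
  refine ⟨Fin.cons 1 s, fun g hg => ?_⟩
  have hg0 : g ∈ H := by simpa using hg 0
  have h1 := hx ⟨π g, g, hg0, rfl⟩ fun i => by
    have h2 : (s i)⁻¹ * g * s i ∈ H := hg i.succ
    have h3 : π ((s i)⁻¹ * g * s i * g⁻¹) ∈ N ⊓ H.map π := by
      refine ⟨?_, _, H.mul_mem h2 (H.inv_mem hg0), rfl⟩
      rw [map_mul, map_mul, map_mul, map_inv, map_inv, hs, mul_assoc, mul_assoc, ← mul_assoc (π g)]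
      exact N.mul_mem (N.inv_mem (x i).toMul.2)
        ((inferInstance : N.Normal).conj_mem _ (x i).toMul.2 _)
    rw [hinf, mem_bot, map_mul, map_mul, map_mul, map_inv, map_inv, hs] at h3
    apply Additive.toMul.injective
    apply Subtype.ext
    change π g * (x i).toMul * (π g)⁻¹ = (x i).toMul
    rw [mul_assoc, mul_assoc, inv_mul_eq_one] at h3
    rw [mul_assoc, ← h3]
  have h4 : π g ∈ centralizer (N : Set _) ⊓ H.map π := by
    refine ⟨fun y hy => ?_, g, hg0, rfl⟩
    have : π g * y * (π g)⁻¹ = y :=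
      congrArg (fun z : Additive N => (z.toMul : G ⧸ H.normalCore)) (h1 (Additive.ofMul ⟨y, hy⟩))
    rw [mul_inv_eq_iff_eq_mul] at this
    exact this.symm
  rw [hcent, mem_bot] at h4
  exact (QuotientGroup.eq_one_iff g).1 h4

theorem hom_trivial {Γ S : Type*} [Group Γ] [Group S] [Group.IsSolvable S]
    (h : commutator Γ = ⊤) (f : Γ →* S) (γ : Γ) : f γ = 1 := by
  by_contra hne
  have h1 : f.range ≠ ⊥ := fun e => hne (mem_bot.1 (e ▸ ⟨γ, rfl⟩))
  have h2 := Group.IsSolvable.commutator_lt_of_ne_bot h1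
  rw [f.range_eq_map, ← map_commutator, ← commutator_def, h] at h2
  exact h2.ne rfl

/-- Elementary transvections on triples. -/
def tv {W : Type*} [AddCommGroup W] (i j : Fin 3) (h : i ≠ j) : Equiv.Perm (Fin 3 → W) where
  toFun x := Function.update x i (x i + x j)
  invFun x := Function.update x i (x i - x j)
  left_inv x := by simp [Function.update_of_ne h.symm]
  right_inv x := by simp [Function.update_of_ne h.symm]

theorem tv_comm {W : Type*} [AddCommGroup W] (i j k : Fin 3) (h1 : i ≠ j) (h2 : i ≠ k) (h3 : k ≠ j) :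
    tv (W := W) i j h1 = ⁅tv (W := W) i k h2, tv (W := W) k j h3⁆ := by
  ext x l
  simp only [commutatorElement_def, Equiv.Perm.mul_apply, Equiv.Perm.inv_def]
  simp only [tv, Equiv.coe_fn_mk, Equiv.coe_fn_symm_mk, Function.update_apply]
  by_cases e1 : l = i
  · simp [e1, h1.symm, h2, h2.symm, h3.symm]
    abel
  · by_cases e2 : l = k
    · simp [e2, h1.symm, h2, h2.symm, h3.symm]
    · simp [e1, e2]

/-- One regular orbit on triples gives five. -/
theorem five {H W : Type*} [Group H] [Finite H] [Group.IsSolvable H] [AddCommGroup W] [Finite W]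
    [DistribMulAction H W] {x : Fin 3 → W} (hx0 : x ≠ 0)
    (hx : ∀ a : H, a • x = x → ∀ y : W, a • y = y) :
    ∃ y : Fin 5 → Fin 3 → W, (∀ i, ∀ a : H, a • y i = y i → ∀ z : W, a • z = z) ∧
      ∀ i j, ∀ a : H, a • y i = y j → i = j := by
  classical
  let T : Set (Equiv.Perm (Fin 3 → W)) := {γ | ∃ i j h, γ = tv i j h}
  let Γ := closure T
  have hcomm : ∀ γ ∈ Γ, ∀ (a : H) (z : Fin 3 → W), γ (a • z) = a • γ z := by
    intro γ hγ
    induction hγ using closure_induction with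
    | mem γ h =>
      obtain ⟨i, j, h, rfl⟩ := h
      intro a z
      ext l
      simp only [tv, Equiv.coe_fn_mk, Function.update_apply, Pi.smul_apply]
      split_ifs <;> simp
    | one => intro a z; rfl
    | mul γ δ _ _ h1 h2 => intro a z; rw [Equiv.Perm.mul_apply, h2, h1]; rfl
    | inv γ _ h =>
      intro a z
      apply γ.injective
      rw [h]
      simp
  have hperf : commutator Γ = ⊤ := by
    have h1 : Γ ≤ ⁅Γ, Γ⁆ := by
      refine (closure_le _).2 ?_
      rintro _ ⟨i, j, h, rfl⟩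
      obtain ⟨k, h2, h3⟩ : ∃ k, i ≠ k ∧ k ≠ j := by revert i j; decide
      rw [tv_comm i j k h h2 h3]
      exact commutator_mem_commutator (subset_closure ⟨_, _, _, rfl⟩) (subset_closure ⟨_, _, _, rfl⟩)
    rw [← map_subtype_commutator] at h1
    rw [eq_top_iff]
    intro γ _
    obtain ⟨δ, hδ, e⟩ := h1 γ.2
    rwa [← Subtype.ext e]
  let S : Subgroup Γ :=
    { carrier := {γ | ∃ a : H, (γ : Equiv.Perm (Fin 3 → W)) x = a • x}
      mul_mem' := by
        rintro γ δ ⟨a, ha⟩ ⟨b, hb⟩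
        exact ⟨b * a, by rw [coe_mul, Equiv.Perm.mul_apply, hb, hcomm _ γ.2, ha, mul_smul]⟩
      one_mem' := ⟨1, by simp⟩
      inv_mem' := by
        rintro γ ⟨a, ha⟩
        refine ⟨a⁻¹, (γ : Equiv.Perm (Fin 3 → W)).injective ?_⟩
        rw [hcomm _ γ.2, ha]
        simp }
  have hidx : 5 ≤ S.index := by
    by_contra hlt
    haveI : Fintype (Γ ⧸ S) := Fintype.ofFinite _
    haveI : Group.IsSolvable (Equiv.Perm (Γ ⧸ S)) := S3378.sol_lt (by
      rw [Nat.card_perm]
      have : Nat.card (Γ ⧸ S) ≤ 4 := by change S.index ≤ 4; omega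
      exact lt_of_le_of_lt (Nat.factorial_le this) (by decide))
    have hall : ∀ γ : Γ, γ ∈ S := fun γ => by
      have h1 := hom_trivial hperf (MulAction.toPermHom Γ (Γ ⧸ S)) γ
      have h2 : γ • ((1 : Γ) : Γ ⧸ S) = (1 : Γ) := DFunLike.congr_fun h1 ((1 : Γ) : Γ ⧸ S)
      rw [MulAction.Quotient.smul_coe, QuotientGroup.eq] at h2
      simpa using h2
    choose a ha using hall
    let p := MulAction.toPermHom H W
    haveI : Group.IsSolvable p.range := Group.isSolvable_of_surjective p.rangeRestrict_surjective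
    have hp : ∀ b c : H, b • x = c • x → p.rangeRestrict b = p.rangeRestrict c := by
      intro b c e
      apply Subtype.ext
      ext y
      have := hx (c⁻¹ * b) (by rw [mul_smul, e, inv_smul_smul]) y
      rw [mul_smul, inv_smul_eq_iff] at this
      exact this
    let f : Γ →* p.range := MonoidHom.mk' (fun γ => p.rangeRestrict (a γ)⁻¹) fun γ δ => by
      rw [← map_mul, ← mul_inv_rev, map_inv, map_inv]
      congr 1
      apply hp
      rw [← ha, coe_mul, Equiv.Perm.mul_apply, ha δ, hcomm _ γ.2, ha, mul_smul]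
    have hfix : ∀ γ : Γ, (γ : Equiv.Perm (Fin 3 → W)) x = x := fun γ => by
      have h1 : p.rangeRestrict (a γ)⁻¹ = 1 := hom_trivial hperf f γ
      rw [map_inv, inv_eq_one] at h1
      have h2 : p (a γ) = 1 := congrArg Subtype.val h1
      rw [ha]
      ext l
      exact DFunLike.congr_fun h2 (x l)
    apply hx0
    ext j
    obtain ⟨i, h⟩ : ∃ i, i ≠ j := exists_ne j
    have := congrFun (hfix ⟨tv i j h, subset_closure ⟨_, _, _, rfl⟩⟩) i
    simpa [tv] using this
  haveI : Fintype (Γ ⧸ S) := Fintype.ofFinite _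
  obtain ⟨e⟩ : Nonempty (Fin 5 ↪ Γ ⧸ S) := Function.Embedding.nonempty_of_card_le (by
    rw [Fintype.card_fin, ← Nat.card_eq_fintype_card]; exact hidx)
  refine ⟨fun i => ((e i).out : Equiv.Perm (Fin 3 → W)) x, fun i a h => hx a ?_,
    fun i j a h => e.injective ?_⟩
  · rw [← hcomm _ (e i).out.2] at h
    exact Equiv.injective _ h
  · rw [← QuotientGroup.out_eq' (e i), ← QuotientGroup.out_eq' (e j), QuotientGroup.eq]
    refine ⟨a, ((e i).out : Equiv.Perm (Fin 3 → W)).injective ?_⟩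
    rw [hcomm _ (e i).out.2, h]
    simp

theorem block_min {G V : Type*} [Group G] [AddCommGroup V] [DistribMulAction G V] (hI : Irr G V)
    {H : Subgroup G} (e : V →+ V) (hee : ∀ x, e (e x) = e x)
    (heH : ∀ h ∈ H, ∀ x, e (h • x) = h • e x) (heG : ∀ g, g ∉ H → ∀ x, e (g • e x) = 0) :
    MinInv H e.range := by
  refine ⟨?_, fun U hU hUW => ?_⟩
  · rintro ⟨h, hh⟩ _ ⟨x, rfl⟩
    exact ⟨h • x, heH h hh x⟩
  by_cases hb : U = ⊥
  · exact Or.inl hb
  right
  refine le_antisymm hUW ?_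
  let S : AddSubgroup V :=
    { carrier := {z | ∀ g : G, e (g • z) ∈ U}
      add_mem' := fun {a b} ha hb g => by rw [smul_add, map_add]; exact U.add_mem (ha g) (hb g)
      zero_mem' := fun g => by rw [smul_zero, map_zero]; exact U.zero_mem
      neg_mem' := fun {a} ha g => by rw [smul_neg, map_neg]; exact U.neg_mem (ha g) }
  have hS : Inv G S := fun a z hz g => by rw [← mul_smul]; exact hz _
  have hUS : U ≤ S := by
    intro u hu g
    obtain ⟨x, rfl⟩ := hUW hu
    by_cases hg : g ∈ H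
    · rw [heH g hg, hee]
      exact hU ⟨g, hg⟩ _ hu
    · rw [heG g hg]
      exact U.zero_mem
  rcases hI S hS with h | h
  · exact absurd (eq_bot_iff.2 (h ▸ hUS)) hb
  · rintro _ ⟨x, rfl⟩
    have : x ∈ S := h ▸ AddSubgroup.mem_top x
    simpa using this 1

/-- The general imprimitive step: `ι` vectors, `κ` colours. -/
theorem imprim_gen {G V ι κ : Type*} [Group G] [Finite G] [AddCommGroup V]
    [DistribMulAction G V] [FaithfulSMul G V] (hI : Irr G V) {H : Subgroup G} (e : V →+ V)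
    (he0 : e ≠ 0) (hee : ∀ x, e (e x) = e x) (heH : ∀ h ∈ H, ∀ x, e (h • x) = h • e x)
    (heG : ∀ g, g ∉ H → ∀ x, e (g • e x) = 0) (y : κ → ι → V) (hy : ∀ k i, y k i ∈ e.range)
    (hreg : ∀ k, ∀ h ∈ H, (∀ i, h • y k i = y k i) → ∀ z ∈ e.range, h • z = z)
    (hne : ∀ k l, ∀ h ∈ H, (∀ i, h • y k i = y l i) → k = l) (c : G ⧸ H → κ)
    (hc : ∀ g : G, (∀ ω, c (g • ω) = c ω) → g ∈ H.normalCore) :
    ∃ x : ι → V, ∀ a : G, (∀ i, a • x i = x i) → a = 1 := by
  classical
  obtain ⟨x0, hx0⟩ : ∃ x, e x ≠ 0 := by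
    by_contra h
    push Not at h
    exact he0 (AddMonoidHom.ext h)
  have hW := block_min hI e hee heH heG
  haveI : Fintype (G ⧸ H) := Fintype.ofFinite _
  have hfix : ∀ c ∈ e.range, e c = c := by rintro _ ⟨x, rfl⟩; exact hee x
  have key : ∀ (c : G ⧸ H → V), (∀ ω, c ω ∈ e.range) → ∀ y : G,
      e (y⁻¹ • ∑ ω : G ⧸ H, ω.out • c ω) = (y⁻¹ * (y : G ⧸ H).out) • c y := by
    intro c hc y
    rw [Finset.smul_sum, map_sum, Finset.sum_eq_single (y : G ⧸ H)]
    · rw [← mul_smul, heH _ (QuotientGroup.eq.1 (QuotientGroup.out_eq' (y : G ⧸ H)).symm),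
        hfix _ (hc _)]
    · intro ω _ hω
      rw [← mul_smul, ← hfix _ (hc ω)]
      refine heG _ (fun h => hω ?_) _
      rw [← QuotientGroup.out_eq' ω]
      exact (QuotientGroup.eq.2 h).symm
    · simp
  have hmem : ∀ y : G, y⁻¹ * (y : G ⧸ H).out ∈ H := fun y =>
    QuotientGroup.eq.1 (QuotientGroup.out_eq' (y : G ⧸ H)).symm
  refine ⟨fun i => ∑ ω : G ⧸ H, ω.out • y (c ω) i, fun g hv => ?_⟩
  have step : ∀ (x : G) (i : ι),
      ((((g * x : G) : G ⧸ H).out)⁻¹ * g * (x : G ⧸ H).out) • y (c x) i = y (c (g * x : G)) i := by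
    intro x i
    have h := hv i
    have h1 := key (fun ω => y (c ω) i) (fun ω => hy _ _) (g * x)
    have h2 := key (fun ω => y (c ω) i) (fun ω => hy _ _) x
    rw [mul_inv_rev, mul_smul, inv_smul_eq_iff.2 h.symm, h2] at h1
    have h3 := congrArg (fun z => (x⁻¹ * g⁻¹ * ((g * x : G) : G ⧸ H).out)⁻¹ • z) h1
    simp only [← mul_smul, inv_mul_cancel, one_smul] at h3
    rw [← h3]
    congr 1
    group
  have hmem2 : ∀ x : G, (((g * x : G) : G ⧸ H).out)⁻¹ * g * (x : G ⧸ H).out ∈ H := fun x => by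
    have := H.mul_mem (H.inv_mem (hmem (g * x))) (hmem x)
    convert this using 1
    group
  have hg := hc g fun ω => by
    induction ω using QuotientGroup.induction_on with
    | H x => exact (hne _ _ _ (hmem2 x) (step x)).symm
  have hall : ∀ x : G, ∀ z ∈ e.range, g • x • z = x • z := by
    intro x z hz
    have e1 : ((g * x : G) : G ⧸ H) = x := by
      apply Eq.symm
      rw [QuotientGroup.eq]
      simpa [mul_assoc] using hg x⁻¹
    have h1 := step x
    have h3 := hmem2 x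
    rw [e1] at h1 h3
    have h5 := hreg _ _ h3 h1 _ (hW.1 ⟨_, H.inv_mem (hmem x)⟩ z hz)
    have h6 := congrArg (fun z => (x : G ⧸ H).out • z) h5
    simp only [Subgroup.smul_def, ← mul_smul] at h6
    rw [← mul_smul]
    convert h6 using 2 <;> group
  let S : AddSubgroup V :=
    { carrier := {z | ∀ x : G, g • x • z = x • z}
      add_mem' := fun {a b} ha hb x => by rw [smul_add, smul_add, ha x, hb x]
      zero_mem' := fun x => by rw [smul_zero, smul_zero]
      neg_mem' := fun {a} ha x => by rw [smul_neg, smul_neg, ha x] }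
  have hS : Inv G S := fun y z hz x => by rw [← mul_smul x y]; exact hz _
  rcases hI S hS with h | h
  · have : e x0 ∈ S := fun x => hall x _ ⟨x0, rfl⟩
    rw [h] at this
    exact absurd this hx0
  · refine FaithfulSMul.eq_of_smul_eq_smul (α := V) fun z => ?_
    have : z ∈ S := h ▸ AddSubgroup.mem_top z
    simpa using this 1

theorem colour_five {n : ℕ} (hn : FI3.{u} n) {G : Type u} [Group G] [Finite G]
    [Group.IsSolvable G] (hc : Nat.card G ≤ n) {H : Subgroup G} (hH : IsCoatom H) :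
    ∃ c : G ⧸ H → Fin 5, ∀ g : G, (∀ ω, c (g • ω) = c ω) → g ∈ H.normalCore := by
  classical
  obtain ⟨t, ht⟩ := base_four hn hc hH
  refine ⟨fun ω => if h : ∃ i, (t i : G ⧸ H) = ω then h.choose.castSucc else Fin.last 4,
    fun g hg => ht g fun i => ?_⟩
  have h1 := hg (t i)
  have h2 : ∃ j, (t j : G ⧸ H) = t i := ⟨i, rfl⟩
  simp only [dif_pos h2] at h1
  split_ifs at h1 with h3
  · have h4 := h3.choose_spec
    rw [Fin.castSucc_injective _ h1, h2.choose_spec, MulAction.Quotient.smul_coe,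
      QuotientGroup.eq] at h4
    simpa [mul_assoc] using h4
  · exact absurd h1.symm (Fin.castSucc_lt_last _).ne

theorem imprim3 {n : ℕ} (hn : FI3.{u} n) {G V : Type u} [Group G] [Finite G] [AddCommGroup V]
    [Finite V] [DistribMulAction G V] [FaithfulSMul G V] [Group.IsSolvable G]
    (hc : Nat.card G ≤ n) (hI : Irr G V) {H : Subgroup G} (hH : IsCoatom H) (e : V →+ V)
    (he0 : e ≠ 0) (hee : ∀ x, e (e x) = e x) (heH : ∀ h ∈ H, ∀ x, e (h • x) = h • e x)
    (heG : ∀ g, g ∉ H → ∀ x, e (g • e x) = 0) :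
    ∃ x : Fin 3 → V, ∀ a : G, (∀ i, a • x i = x i) → a = 1 := by
  obtain ⟨x0, hx0⟩ : ∃ x, e x ≠ 0 := by
    by_contra h
    push Not at h
    exact he0 (AddMonoidHom.ext h)
  have hlt : Nat.card H < Nat.card G := by
    by_contra h
    exact hH.1 (Subgroup.eq_top_of_le_card H (not_lt.1 h))
  have hW := block_min hI e hee heH heG
  letI := subAct H e.range hW.1
  obtain ⟨x, hx⟩ := irr_nf3 hn (lt_of_lt_of_le hlt hc) inferInstance (irr_sub hW)
  obtain ⟨x, hx1, hx⟩ : ∃ x : Fin 3 → e.range, x ≠ 0 ∧ ∀ a : H, a • x = x →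
      ∀ y : e.range, a • y = y := by
    by_cases h : x = 0
    · exact ⟨fun _ => ⟨e x0, x0, rfl⟩, fun h => hx0 (congrArg Subtype.val (congrFun h 0)),
        fun a _ => hx a fun i => by rw [h]; exact smul_zero a⟩
    · exact ⟨x, h, fun a h => hx a (congrFun h)⟩
  obtain ⟨y, hy1, hy2⟩ := five hx1 hx
  obtain ⟨c, hc⟩ := colour_five hn hc hH
  exact imprim_gen hI e he0 hee heH heG (fun k i => (y k i : V)) (fun k i => (y k i).2)
    (fun k h hh h1 z hz => congrArg Subtype.val
      (hy1 k ⟨h, hh⟩ (funext fun i => Subtype.ext (h1 i)) ⟨z, hz⟩))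
    (fun k l h hh h1 => hy2 k l ⟨h, hh⟩ (funext fun i => Subtype.ext (h1 i))) c hc

end Cfsg.Agent.CH.Reg
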